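import Cfsg.Agent.H916.OmJ

/-!
# Summary: cores with simple group `Sp₆(2)` or `Ω₈⁺(2)` in odd characteristic and dimension at most 13
-/

set_option autoImplicit false

namespace Cfsg.Agent.H916.T8

open Cfsg Cfsg.Agent.H915.LD

universe u v

variable {ι : Type} [Fintype ι] [DecidableEq ι] {F : Type u} [Field F] {P : Subgroup (GL ι F)}
  {K : Type v} [Field K] [Fintype K]

theorem zero_or_one (hK : Fintype.card K = 2) (x : K) : x = 0 ∨ x = 1 := by
  classical
  by_contra h
  rw [not_or] at h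
  have h3 : ({0, 1, x} : Finset K).card ≤ Fintype.card K := Finset.card_le_univ _
  rw [Finset.card_insert_of_notMem, Finset.card_insert_of_notMem, Finset.card_singleton, hK] at h3
  · omega
  · rw [Finset.mem_singleton]; exact fun h' => h.2 h'.symm
  · rw [Finset.mem_insert, Finset.mem_singleton]
    rintro (h' | h')
    · exact zero_ne_one h'
    · exact h.1 h'.symm

/-- **`Sp₆(2)`**: dimension 7 or 8, self-dual, over the prime field. -/
theorem sp (hK : Fintype.card K = 2) (hC : Core P) (p : ℕ) [Fact p.Prime] [CharP F p] (e : Soc P ≃* PSp 3 K)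
    (h2 : (2 : F) ≠ 0) (hn : Fintype.card ι ≤ 13) :
    (Fintype.card ι = 7 ∨ Fintype.card ι = 8) ∧ SD P ∧ Fr P p := by
  rcases SpSix.spSix_dim (zero_or_one hK) hC e h2 hn with h | h
  · exact ⟨Or.inl h, SpSix.spSix_seven (zero_or_one hK) hC p e h2 h⟩
  · exact ⟨Or.inr h, SpEight.spSix_eight (zero_or_one hK) hC p e h2 h⟩

/-- **`Ω₈⁺(2)`**: dimension 8, self-dual, over the prime field. -/
theorem om (hK : Fintype.card K = 2) (hC : Core P) (p : ℕ) [Fact p.Prime] [CharP F p]
    (e : Soc P ≃* POmega K (quadFormPlus 4 K)) (h2 : (2 : F) ≠ 0) (hn : Fintype.card ι ≤ 13) :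
    Fintype.card ι = 8 ∧ SD P ∧ Fr P p :=
  Om.omega_eight (zero_or_one hK) hC p e h2 hn

end Cfsg.Agent.H916.T8
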