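import Mathlib

/-!
# Anticommuting operators and divisibility of the dimension
-/

set_option autoImplicit false
set_option linter.unusedSectionVars false
set_option linter.unusedVariables false

namespace Cfsg.Agent.H916.Halving

variable {k V : Type*} [Field k] [AddCommGroup V] [Module k V]

/-- the eigenspace of `A` in `W` -/
def eig (W : Submodule k V) (A : Module.End k V) (a : k) : Submodule k V := W ⊓ LinearMap.ker (A - a • 1)

theorem mem_eig {W : Submodule k V} {A : Module.End k V} {a : k} {x : V} :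
    x ∈ eig W A a ↔ x ∈ W ∧ A x = a • x := by
  rw [eig, Submodule.mem_inf, LinearMap.mem_ker, LinearMap.sub_apply, LinearMap.smul_apply, Module.End.one_apply,
    sub_eq_zero]

/-- an operator commuting with `A` preserves the eigenspace -/
theorem eig_inv {W : Submodule k V} {A X : Module.End k V} {a : k} (hX : ∀ x ∈ W, X x ∈ W)
    (h : A * X = X * A) : ∀ x ∈ eig W A a, X x ∈ eig W A a := by
  intro x hx
  rw [mem_eig] at hx ⊢
  refine ⟨hX x hx.1, ?_⟩
  rw [← Module.End.mul_apply, h, Module.End.mul_apply, hx.2, map_smul]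

variable [FiniteDimensional k V]

theorem finrank_eig_le {W : Submodule k V} {A B : Module.End k V} {a b : k} (hB : ∀ x ∈ W, B x ∈ W)
    (hb : b ≠ 0) (hB2 : B * B = b • 1) (hAB : A * B = -(B * A)) :
    Module.finrank k (eig W A a) ≤ Module.finrank k (eig W A (-a)) := by
  let f : eig W A a →ₗ[k] eig W A (-a) := LinearMap.restrict B (by
    intro x hx
    rw [mem_eig] at hx ⊢
    refine ⟨hB x hx.1, ?_⟩
    rw [← Module.End.mul_apply, hAB, LinearMap.neg_apply, Module.End.mul_apply, hx.2, map_smul, neg_smul])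
  apply LinearMap.finrank_le_finrank_of_injective (f := f)
  intro x y hxy
  apply Subtype.ext
  have h1 : B x = B y := congrArg Subtype.val hxy
  have h2 : (B * B) (x : V) = (B * B) y := by rw [Module.End.mul_apply, Module.End.mul_apply, h1]
  rw [hB2, LinearMap.smul_apply, LinearMap.smul_apply, Module.End.one_apply, Module.End.one_apply] at h2
  exact smul_right_injective V hb h2

/-- the two eigenspaces of an involution -/
theorem finrank_add (h2 : (2 : k) ≠ 0) {W : Submodule k V} {A : Module.End k V} {a : k} (ha : a ≠ 0)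
    (hA : ∀ x ∈ W, A x ∈ W) (hA2 : A * A = (a * a) • 1) :
    Module.finrank k W = Module.finrank k (eig W A a) + Module.finrank k (eig W A (-a)) := by
  have hsup : eig W A a ⊔ eig W A (-a) = W := by
    apply le_antisymm
    · exact sup_le inf_le_left inf_le_left
    · intro x hx
      rw [Submodule.mem_sup]
      have hAA : A (A x) = (a * a) • x := by
        rw [← Module.End.mul_apply, hA2, LinearMap.smul_apply, Module.End.one_apply]
      refine ⟨(2 * a)⁻¹ • (a • x + A x), ?_, (2 * a)⁻¹ • (a • x - A x), ?_, ?_⟩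
      · rw [mem_eig]
        refine ⟨W.smul_mem _ (W.add_mem (W.smul_mem _ hx) (hA x hx)), ?_⟩
        rw [map_smul, map_add, map_smul, hAA, smul_comm a]
        congr 1
        rw [smul_add, smul_smul, add_comm]
      · rw [mem_eig]
        refine ⟨W.smul_mem _ (W.sub_mem (W.smul_mem _ hx) (hA x hx)), ?_⟩
        rw [map_smul, map_sub, map_smul, hAA, smul_comm (-a)]
        congr 1
        rw [smul_sub, smul_smul, neg_mul, neg_smul, neg_smul]
        abel
      · rw [← smul_add, add_add_sub_cancel, ← two_smul k (a • x), smul_smul, smul_smul,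
          mul_assoc, inv_mul_cancel₀ (mul_ne_zero h2 ha), one_smul]
  have hinf : eig W A a ⊓ eig W A (-a) = ⊥ := by
    rw [eq_bot_iff]
    intro x hx
    rw [Submodule.mem_inf, mem_eig, mem_eig] at hx
    rw [Submodule.mem_bot]
    have h5 := hx.1.2.symm.trans hx.2.2
    have h6 : (2 * a) • x = 0 := by
      rw [two_mul, add_smul]
      nth_rewrite 1 [h5]
      rw [neg_smul, neg_add_cancel]
    rcases smul_eq_zero.1 h6 with h | h
    · exact absurd h (mul_ne_zero h2 ha)
    · exact h
  have h5 := Submodule.finrank_sup_add_finrank_inf_eq (eig W A a) (eig W A (-a))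
  rw [hsup, hinf, finrank_bot, add_zero] at h5
  exact h5

/-- **Halving.** -/
theorem finrank_half (h2 : (2 : k) ≠ 0) {W : Submodule k V} {A B : Module.End k V} {a b : k} (ha : a ≠ 0)
    (hb : b ≠ 0) (hA : ∀ x ∈ W, A x ∈ W) (hB : ∀ x ∈ W, B x ∈ W) (hA2 : A * A = (a * a) • 1)
    (hB2 : B * B = b • 1) (hAB : A * B = -(B * A)) :
    Module.finrank k W = 2 * Module.finrank k (eig W A a) := by
  have h3 := finrank_eig_le (a := a) hB hb hB2 hAB
  have h4 := finrank_eig_le (a := -a) hB hb hB2 hAB
  rw [neg_neg] at h4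
  have h5 := finrank_add h2 ha hA hA2
  omega

/-- conjugate operators -/
theorem finrank_eig_conj {A B G : Module.End k V} {a : k} (hG : Function.Injective G) (h : G * A = B * G) :
    Module.finrank k (eig ⊤ A a) ≤ Module.finrank k (eig ⊤ B a) := by
  let f : eig ⊤ A a →ₗ[k] eig ⊤ B a := LinearMap.restrict G (by
    intro x hx
    rw [mem_eig] at hx ⊢
    refine ⟨trivial, ?_⟩
    rw [← Module.End.mul_apply, ← h, Module.End.mul_apply, hx.2, map_smul])
  apply LinearMap.finrank_le_finrank_of_injective (f := f)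
  intro x y hxy
  exact Subtype.ext (hG (congrArg Subtype.val hxy))

/-- six anticommuting involutions -/
theorem eight_dvd (h2 : (2 : k) ≠ 0) {i : k} (hi : i * i = -1) {g : Fin 6 → Module.End k V}
    (hg : ∀ j, g j * g j = 1) (ha : ∀ a b, a ≠ b → g a * g b = -(g b * g a)) : 8 ∣ Module.finrank k V := by
  have hi0 : i ≠ 0 := by rintro rfl; rw [mul_zero] at hi; exact absurd hi.symm (neg_ne_zero.2 one_ne_zero)
  -- products of two
  have hsq : ∀ a b, a ≠ b → (g a * g b) * (g a * g b) = (-1 : k) • 1 := by
    intro a b hab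
    calc (g a * g b) * (g a * g b) = g a * (g b * g a) * g b := by simp only [mul_assoc]
      _ = -((g a * g a) * (g b * g b)) := by
        rw [ha b a (Ne.symm hab), mul_neg, neg_mul]; simp only [mul_assoc]
      _ = (-1 : k) • 1 := by rw [hg, hg, one_mul, neg_one_smul]
  have hc1 : ∀ a b c, a ≠ b → a ≠ c → g a * (g b * g c) = (g b * g c) * g a := by
    intro a b c hab hac
    calc g a * (g b * g c) = (g a * g b) * g c := by rw [mul_assoc]
      _ = -(g b * (g a * g c)) := by rw [ha a b hab, neg_mul, mul_assoc]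
      _ = (g b * g c) * g a := by rw [ha a c hac, mul_neg, neg_neg, mul_assoc]
  have hc2 : ∀ a b c d, a ≠ c → a ≠ d → b ≠ c → b ≠ d → (g a * g b) * (g c * g d) = (g c * g d) * (g a * g b) := by
    intro a b c d h1 h2 h3 h4
    rw [mul_assoc, hc1 b c d h3 h4, ← mul_assoc, hc1 a c d h1 h2, mul_assoc]
  have hanti : ∀ a b c, a ≠ b → a ≠ c → b ≠ c → (g a * g b) * (g a * g c) = -((g a * g c) * (g a * g b)) := by
    intro a b c hab hac hbc
    have e1 : (g a * g b) * (g a * g c) = -(g b * g c) := by
      calc (g a * g b) * (g a * g c) = g a * (g b * g a) * g c := by simp only [mul_assoc]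
        _ = -((g a * g a) * (g b * g c)) := by
          rw [ha b a (Ne.symm hab), mul_neg, neg_mul]; simp only [mul_assoc]
        _ = _ := by rw [hg, one_mul]
    have e2 : (g a * g c) * (g a * g b) = -(g c * g b) := by
      calc (g a * g c) * (g a * g b) = g a * (g c * g a) * g b := by simp only [mul_assoc]
        _ = -((g a * g a) * (g c * g b)) := by
          rw [ha c a (Ne.symm hac), mul_neg, neg_mul]; simp only [mul_assoc]
        _ = _ := by rw [hg, one_mul]
    rw [e1, e2, ha b c hbc, neg_neg]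
  have s1 := finrank_half h2 (W := ⊤) (A := g 0) (B := g 1) (a := 1) (b := 1) one_ne_zero one_ne_zero
    (fun _ _ => trivial) (fun _ _ => trivial) (by rw [hg, mul_one, one_smul]) (by rw [hg, one_smul])
    (ha 0 1 (by decide))
  have inv1 : ∀ b c : Fin 6, 0 ≠ b → 0 ≠ c → ∀ x ∈ eig ⊤ (g 0) 1, (g b * g c) x ∈ eig ⊤ (g 0) 1 := by
    intro b c hb hc
    exact eig_inv (fun _ _ => trivial) (hc1 0 b c hb hc)
  have s2 := finrank_half h2 (W := eig ⊤ (g 0) 1) (A := g 1 * g 2) (B := g 1 * g 3) (a := i) (b := -1) hi0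
    (neg_ne_zero.2 one_ne_zero) (inv1 1 2 (by decide) (by decide)) (inv1 1 3 (by decide) (by decide))
    (by rw [hsq 1 2 (by decide), hi]) (hsq 1 3 (by decide)) (hanti 1 2 3 (by decide) (by decide) (by decide))
  have s3 := finrank_half h2 (W := eig (eig ⊤ (g 0) 1) (g 1 * g 2) i) (A := g 3 * g 4) (B := g 3 * g 5) (a := i)
    (b := -1) hi0 (neg_ne_zero.2 one_ne_zero)
    (eig_inv (inv1 3 4 (by decide) (by decide)) (hc2 1 2 3 4 (by decide) (by decide) (by decide) (by decide)))
    (eig_inv (inv1 3 5 (by decide) (by decide)) (hc2 1 2 3 5 (by decide) (by decide) (by decide) (by decide)))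
    (by rw [hsq 3 4 (by decide), hi]) (hsq 3 5 (by decide)) (hanti 3 4 5 (by decide) (by decide) (by decide))
  rw [finrank_top] at s1
  rw [s1, s2, s3]
  exact ⟨Module.finrank k (eig (eig (eig ⊤ (g 0) 1) (g 1 * g 2) i) (g 3 * g 4) i), by ring⟩

end Cfsg.Agent.H916.Halving
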