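import Cfsg.Agent.H916.SpSixE

/-!
# Seven commuting involutions permuted like the points of the Fano plane: the decomposition of the space
-/

set_option autoImplicit false
set_option linter.unusedSectionVars false
set_option linter.unusedVariables false

namespace Cfsg.Agent.H916.SpSix

variable {k V : Type*} [Field k] [AddCommGroup V] [Module k V]

/-- the common fixed space -/
def ZZ (T : Fin 7 → Module.End k V) : Submodule k V where
  carrier := {x | ∀ j, T j x = x}
  add_mem' := by
    intro a b ha hb j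
    rw [map_add, ha j, hb j]
  zero_mem' := fun j => map_zero _
  smul_mem' := by
    intro c x hx j
    rw [map_smul, hx j]

theorem mem_ZZ {T : Fin 7 → Module.End k V} {x : V} : x ∈ ZZ T ↔ ∀ j, T j x = x := Iff.rfl

/-- the space of the point `u` -/
def EE (T : Fin 7 → Module.End k V) (u : Fin 7) : Submodule k V where
  carrier := {x | ∀ j, T j x = if j = u then x else -x}
  add_mem' := by
    intro a b ha hb j
    rw [map_add, ha j, hb j]
    split_ifs
    · rfl
    · abel
  zero_mem' := fun j => by rw [map_zero]; simp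
  smul_mem' := by
    intro c x hx j
    rw [map_smul, hx j]
    split_ifs
    · rfl
    · rw [smul_neg]

theorem mem_EE {T : Fin 7 → Module.End k V} {u : Fin 7} {x : V} :
    x ∈ EE T u ↔ ∀ j, T j x = if j = u then x else -x := Iff.rfl

theorem eq_zero_of_eq_neg (h2 : (2 : k) ≠ 0) {x : V} (h : x = -x) : x = 0 := by
  have : (2 : k) • x = 0 := by rw [two_smul]; nth_rewrite 2 [h]; abel
  rcases smul_eq_zero.1 this with h' | h'
  · exact absurd h' h2
  · exact h'

variable [FiniteDimensional k V] (h2 : (2 : k) ≠ 0) (hfin : Module.finrank k V ≤ 13)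
    {T : Fin 7 → Module.End k V} {g1 g2 : Module.End k V} (D : FanoE T g1 g2) (hl : T 0 * T 1 * T 2 ≠ 1)

include D in
theorem FanoE.sq' (i : Fin 7) (x : V) : T i (T i x) = x := by
  rw [← Module.End.mul_apply, D.sq, Module.End.one_apply]

include D in
theorem FanoE.comm' (i j : Fin 7) (x : V) : T i (T j x) = T j (T i x) := by
  rw [← Module.End.mul_apply, D.comm, Module.End.mul_apply]

include h2 hfin D hl

/-- a vector fixed by two of the involutions is fixed by all -/
theorem ZZ_of_two {u u' : Fin 7} (huu : u ≠ u') {x : V} (hu : T u x = x) (hu' : T u' x = x) : x ∈ ZZ T := by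
  intro j
  by_contra hx
  let W : Submodule k V := LinearMap.ker (T u - 1) ⊓ LinearMap.ker (T u' - 1) ⊓ LinearMap.ker (T j + 1)
  have hmem : ∀ w, w ∈ W ↔ (T u w = w ∧ T u' w = w) ∧ T j w = -w := by
    intro w
    rw [Submodule.mem_inf, Submodule.mem_inf, LinearMap.mem_ker, LinearMap.mem_ker, LinearMap.mem_ker,
      LinearMap.sub_apply, LinearMap.sub_apply, LinearMap.add_apply, Module.End.one_apply,
      eq_neg_iff_add_eq_zero, sub_eq_zero, sub_eq_zero]
  have hW : ∀ i, ∀ w ∈ W, T i w ∈ W := by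
    intro i w hw
    rw [hmem] at hw ⊢
    obtain ⟨⟨a, b⟩, c⟩ := hw
    refine ⟨⟨?_, ?_⟩, ?_⟩
    · rw [D.comm', a]
    · rw [D.comm', b]
    · rw [D.comm', c, map_neg]
  obtain ⟨m, w, hw, hwW, hm⟩ := pat_of_sub h2 D W hW (v := x - T j x) (fun h => hx (sub_eq_zero.1 h).symm)
    ((hmem _).2 ⟨⟨by rw [map_sub, D.comm', hu], by rw [map_sub, D.comm', hu']⟩, by
      rw [map_sub, D.sq', neg_sub]⟩)
  rw [hmem] at hwW
  obtain ⟨⟨a, b⟩, c⟩ := hwW
  have hb : ∀ i : Fin 7, T i w = w → (m : ℕ).testBit i = false := by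
    intro i hi
    by_contra hb
    rw [Bool.not_eq_false] at hb
    have h1 := hm i
    rw [if_pos hb, hi, neg_one_smul] at h1
    exact hw (eq_zero_of_eq_neg h2 h1)
  have hj : (m : ℕ).testBit j = true := by
    by_contra hb
    have h1 := hm j
    rw [if_neg hb, c, one_smul] at h1
    exact hw (eq_zero_of_eq_neg h2 h1.symm)
  rcases (fano_cases h2 hfin D hl).2 m ⟨w, hw, hm⟩ with h | ⟨i, h⟩
  · rw [h] at hj
    simp at hj
  · have h3 := hb u a
    have h4 := hb u' b
    rw [h, ptc_bit] at h3 h4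
    simp only [Bool.not_eq_false', decide_eq_true_eq] at h3 h4
    exact huu (h3.symm.trans h4)

theorem exists_decomp {u : Fin 7} {x : V} (hu : T u x = x) : ∃ z ∈ ZZ T, ∃ e ∈ EE T u, x = z + e := by
  obtain ⟨j, hj⟩ : ∃ j : Fin 7, j ≠ u := by
    by_cases h : u = 0
    · exact ⟨1, by rw [h]; decide⟩
    · exact ⟨0, fun h' => h h'.symm⟩
  have hpl : ∀ (y : V) (i : Fin 7), T u y = y → i ≠ u → y + T i y ∈ ZZ T := by
    intro y i hy hi
    apply ZZ_of_two h2 hfin D hl (u := u) (u' := i) (Ne.symm hi)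
    · rw [map_add, D.comm', hy]
    · rw [map_add, D.sq', add_comm]
  refine ⟨(2 : k)⁻¹ • (x + T j x), (ZZ T).smul_mem _ (hpl x j hu hj), (2 : k)⁻¹ • (x - T j x),
    (EE T u).smul_mem _ ?_, ?_⟩
  · have h0 : T u (x - T j x) = x - T j x := by rw [map_sub, D.comm', hu]
    intro i
    by_cases hi : i = u
    · rw [if_pos hi, hi, h0]
    · rw [if_neg hi]
      have h3 := hpl _ i h0 hi j
      have h4 : T j (x - T j x) = -(x - T j x) := by rw [map_sub, D.sq', neg_sub]
      rw [map_add, D.comm', h4, map_neg] at h3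
      have h5 : (x - T j x) + T i (x - T j x) = 0 := by
        apply eq_zero_of_eq_neg h2
        nth_rewrite 1 [← h3]
        abel
      exact eq_neg_of_add_eq_zero_right h5
  · rw [← smul_add, add_add_sub_cancel, ← two_smul k x, smul_smul, inv_mul_cancel₀ h2, one_smul]

omit [FiniteDimensional k V] h2 hfin D hl in
theorem mem_EE_self {u : Fin 7} {x : V} (h : x ∈ EE T u) : T u x = x := by
  have := h u
  rwa [if_pos rfl] at this

omit [FiniteDimensional k V] h2 hfin D hl in
theorem mem_EE_ne {u j : Fin 7} {x : V} (h : x ∈ EE T u) (hj : j ≠ u) : T j x = -x := by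
  have := h j
  rwa [if_neg hj] at this

omit [FiniteDimensional k V] h2 hfin D hl in
/-- the sum map -/
def Phi (T : Fin 7 → Module.End k V) : (ZZ T × ((u : Fin 7) → EE T u)) →ₗ[k] V :=
  LinearMap.coprod (ZZ T).subtype (∑ u, (EE T u).subtype ∘ₗ LinearMap.proj u)

omit [FiniteDimensional k V] h2 hfin D hl in
theorem Phi_apply (p : ZZ T × ((u : Fin 7) → EE T u)) : Phi T p = (p.1 : V) + ∑ u, (p.2 u : V) := by
  simp [Phi, LinearMap.coprod_apply, LinearMap.sum_apply]

omit [FiniteDimensional k V] hfin hl in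
theorem Phi_inj : Function.Injective (Phi T) := by
  rw [← LinearMap.ker_eq_bot, LinearMap.ker_eq_bot']
  rintro ⟨z, x⟩ h
  rw [Phi_apply] at h
  simp only at h
  have key : ∀ w : Fin 7, (z : V) = 0 ∧ (x w : V) = 0 := by
    intro w
    have hz : T w z = z := z.2 w
    have h3 := congrArg (T w) h
    rw [map_zero, map_add, map_sum, hz, ← Finset.add_sum_erase _ _ (Finset.mem_univ w),
      mem_EE_self (x w).2, Finset.sum_congr rfl (fun u hu => mem_EE_ne (x u).2 (Ne.symm (Finset.ne_of_mem_erase hu))),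
      Finset.sum_neg_distrib] at h3
    rw [← Finset.add_sum_erase _ _ (Finset.mem_univ w)] at h
    set s := ∑ u ∈ Finset.univ.erase w, (x u : V)
    have h4 : (2 : k) • ((z : V) + x w) = 0 := by
      have h5 : ((z : V) + (x w + s)) + (z + (x w + -s)) = 0 := by rw [h, h3, add_zero]
      rw [two_smul]
      calc ((z : V) + x w) + (z + x w) = ((z : V) + (x w + s)) + (z + (x w + -s)) := by abel
        _ = 0 := h5
    have h6 : (z : V) + x w = 0 := by
      rcases smul_eq_zero.1 h4 with h' | h'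
      · exact absurd h' h2
      · exact h'
    obtain ⟨j, hj⟩ : ∃ j : Fin 7, j ≠ w := by
      by_cases h : w = 0
      · exact ⟨1, by rw [h]; decide⟩
      · exact ⟨0, fun h' => h h'.symm⟩
    have h7 := congrArg (T j) h6
    rw [map_zero, map_add, z.2 j, mem_EE_ne (x w).2 hj] at h7
    have h8 : (z : V) = x w := by rw [← sub_eq_zero, sub_eq_add_neg]; exact h7
    rw [h8] at h6
    have h9 : (x w : V) = 0 := by
      apply eq_zero_of_eq_neg h2
      rw [eq_neg_iff_add_eq_zero]
      exact h6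
    exact ⟨h8.trans h9, h9⟩
  rw [Prod.mk_eq_zero]
  refine ⟨Subtype.ext (key 0).1, ?_⟩
  funext w
  exact Subtype.ext (key w).2

theorem Phi_surj : Function.Surjective (Phi T) := by
  rw [← LinearMap.range_eq_top, eq_top_iff]
  intro x _
  set M := LinearMap.range (Phi T)
  have hZ : ∀ z ∈ ZZ T, z ∈ M := fun z hz => ⟨(⟨z, hz⟩, 0), by rw [Phi_apply]; simp⟩
  have hE : ∀ u, ∀ e ∈ EE T u, e ∈ M := by
    intro u e he
    refine ⟨(0, Pi.single u ⟨e, he⟩), ?_⟩
    rw [Phi_apply]
    simp only [ZeroMemClass.coe_zero, zero_add]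
    rw [Finset.sum_eq_single u]
    · simp
    · intro b _ hb
      rw [Pi.single_eq_of_ne hb]
      rfl
    · intro h
      exact absurd (Finset.mem_univ u) h
  have hD : ∀ u y, T u y = y → y ∈ M := by
    intro u y hy
    obtain ⟨z, hz, e, he, rfl⟩ := exists_decomp h2 hfin D hl hy
    exact M.add_mem (hZ z hz) (hE u e he)
  have hred : ∀ (i : Fin 7) (y : V), y - T i y ∈ M → y ∈ M := by
    intro i y hy
    have h3 : y + T i y ∈ M := hD i _ (by rw [map_add, D.sq', add_comm])
    have h4 := M.smul_mem (2 : k)⁻¹ (M.add_mem h3 hy)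
    rwa [add_add_sub_cancel, ← two_smul k y, smul_smul, inv_mul_cancel₀ h2, one_smul] at h4
  apply hred 0
  apply hred 1
  apply hred 2
  apply hred 3
  apply hred 4
  apply hred 5
  apply hred 6
  -- the last vector is negated by all involutions
  have hneg : ∀ (i : Fin 7) (y : V), T i (y - T i y) = -(y - T i y) := by
    intro i y
    rw [map_sub, D.sq', neg_sub]
  have hkeep : ∀ (i j : Fin 7) (y : V), T i y = -y → T i (y - T j y) = -(y - T j y) := by
    intro i j y h
    rw [map_sub, D.comm', h, map_neg]; abel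
  set y0 := x - T 0 x
  set y1 := y0 - T 1 y0
  set y2 := y1 - T 2 y1
  set y3 := y2 - T 3 y2
  set y4 := y3 - T 4 y3
  set y5 := y4 - T 5 y4
  set y6 := y5 - T 6 y5
  have e6 : T 6 y6 = -y6 := hneg 6 y5
  have e5 : T 5 y6 = -y6 := hkeep _ _ _ (hneg 5 y4)
  have e4 : T 4 y6 = -y6 := hkeep _ _ _ (hkeep _ _ _ (hneg 4 y3))
  have e3 : T 3 y6 = -y6 := hkeep _ _ _ (hkeep _ _ _ (hkeep _ _ _ (hneg 3 y2)))
  have e2 : T 2 y6 = -y6 := hkeep _ _ _ (hkeep _ _ _ (hkeep _ _ _ (hkeep _ _ _ (hneg 2 y1))))
  have e1 : T 1 y6 = -y6 := hkeep _ _ _ (hkeep _ _ _ (hkeep _ _ _ (hkeep _ _ _ (hkeep _ _ _ (hneg 1 y0)))))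
  have e0 : T 0 y6 = -y6 :=
    hkeep _ _ _ (hkeep _ _ _ (hkeep _ _ _ (hkeep _ _ _ (hkeep _ _ _ (hkeep _ _ _ (hneg 0 x))))))
  have hp := LinearMap.congr_fun D.prod y6
  simp only [Module.End.mul_apply, Module.End.one_apply, e6, e5, e4, e3, e2, e1, e0, map_neg, neg_neg] at hp
  have h0 : y6 = 0 := eq_zero_of_eq_neg h2 hp.symm
  rw [h0]
  exact M.zero_mem

theorem finrank_EE (u : Fin 7) : Module.finrank k (EE T u) = 1 := by
  have hle : ∀ (g : Module.End k V) (s : Fin 7 → Fin 7) (hs : Function.Injective s)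
      (hg : ∀ i, g * T i = T (s i) * g) (hi : Function.Injective g) (hsur : Function.Surjective s) (v : Fin 7),
      Module.finrank k (EE T v) ≤ Module.finrank k (EE T (s v)) := by
    intro g s hs hg hi hsur v
    let f : EE T v →ₗ[k] EE T (s v) := LinearMap.restrict g (by
      intro x hx j
      obtain ⟨i, rfl⟩ := hsur j
      rw [← Module.End.mul_apply, ← hg, Module.End.mul_apply, hx i]
      by_cases h : i = v
      · rw [if_pos h, if_pos (by rw [h])]
      · rw [if_neg h, if_neg (fun h' => h (hs h')), map_neg])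
    apply LinearMap.finrank_le_finrank_of_injective (f := f)
    intro a b hab
    apply Subtype.ext
    apply hi
    exact congrArg Subtype.val hab
  have i1 : Function.Injective s1 := by decide
  have i2 : Function.Injective s2 := by decide
  have a := hle g1 s1 i1 D.c1 D.i1 s1_surj
  have b := hle g2 s2 i2 D.c2 D.i2 s2_surj
  have a0 : Module.finrank k (EE T 0) ≤ Module.finrank k (EE T 1) := a 0
  have a1 : Module.finrank k (EE T 1) ≤ Module.finrank k (EE T 3) := a 1
  have a2 : Module.finrank k (EE T 2) ≤ Module.finrank k (EE T 5) := a 2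
  have a3 : Module.finrank k (EE T 3) ≤ Module.finrank k (EE T 0) := a 3
  have a4 : Module.finrank k (EE T 4) ≤ Module.finrank k (EE T 2) := a 4
  have a5 : Module.finrank k (EE T 5) ≤ Module.finrank k (EE T 4) := a 5
  have b0 : Module.finrank k (EE T 0) ≤ Module.finrank k (EE T 2) := b 0
  have b2 : Module.finrank k (EE T 2) ≤ Module.finrank k (EE T 0) := b 2
  have b4 : Module.finrank k (EE T 4) ≤ Module.finrank k (EE T 6) := b 4
  have b6 : Module.finrank k (EE T 6) ≤ Module.finrank k (EE T 4) := b 6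
  have hsum : Module.finrank k ((u : Fin 7) → EE T u) ≤ 13 := by
    have h3 := LinearMap.finrank_le_finrank_of_injective (Phi_inj h2 D)
    rw [Module.finrank_prod] at h3
    omega
  rw [Module.finrank_pi_fintype, Fin.sum_univ_seven] at hsum
  obtain ⟨v, hv, hpat⟩ := (fano_cases h2 hfin D hl).1 0
  have hpos : 0 < Module.finrank k (EE T 0) := by
    rw [Module.finrank_pos_iff]
    refine nontrivial_of_ne (⟨v, ?_⟩ : EE T 0) 0 ?_
    · intro j
      rw [hpat j, ptc_bit]
      by_cases h : j = 0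
      · rw [if_pos h]; simp [h]
      · rw [if_neg h]; simp [Ne.symm h]
    · intro h
      exact hv (congrArg Subtype.val h)
  fin_cases u <;> simp only [Fin.mk_one, Fin.zero_eta, Fin.reduceFinMk] <;> omega

theorem finrank_eq : Module.finrank k V = Module.finrank k (ZZ T) + 7 := by
  have h3 := LinearEquiv.finrank_eq (LinearEquiv.ofBijective (Phi T) ⟨Phi_inj h2 D, Phi_surj h2 hfin D hl⟩)
  rw [Module.finrank_prod, Module.finrank_pi_fintype] at h3
  rw [← h3, Finset.sum_congr rfl (fun u _ => finrank_EE h2 hfin D hl u)]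
  simp

end Cfsg.Agent.H916.SpSix
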