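import Cfsg.Agent.H916.SpSixD
import Cfsg.Agent.H916.SpSixF

/-!
# The commuting case for `Sp₆(2)`: the common fixed space
-/

set_option autoImplicit false
set_option linter.unusedSectionVars false
set_option linter.unusedVariables false

namespace Cfsg.Agent.H916.SpSix

section words

variable {M : Type*} [Monoid M]

/-- product of reflections -/
def pl (S : Fin 7 → M) : List ℕ → M
  | [] => 1
  | x :: l => Ga S x * pl S l

/-- action of a product of reflections -/
def al : List ℕ → ℕ → ℕ
  | [], v => v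
  | x :: l, v => rf x (al l v)

/-- admissible words -/
def Adm (l : List ℕ) : Prop := ∀ x ∈ l, 0 < x ∧ x < 64

theorem Adm.head {x : ℕ} {l : List ℕ} (h : Adm (x :: l)) : 0 < x ∧ x < 64 := h x List.mem_cons_self

theorem Adm.tail {x : ℕ} {l : List ℕ} (h : Adm (x :: l)) : Adm l := fun y hy => h y (List.mem_cons_of_mem _ hy)

theorem Adm.append {l l' : List ℕ} (h : Adm l) (h' : Adm l') : Adm (l ++ l') := by
  intro x hx
  rcases List.mem_append.1 hx with hx | hx
  · exact h x hx
  · exact h' x hx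

theorem Adm.reverse {l : List ℕ} (h : Adm l) : Adm l.reverse := fun x hx => h x (List.mem_reverse.1 hx)

theorem al_pos {l : List ℕ} {v : ℕ} (h0 : 0 < v) : 0 < al l v := by
  induction l with
  | nil => exact h0
  | cons x l ih => exact rf_pos ih

theorem al_lt {l : List ℕ} (hl : Adm l) {v : ℕ} (h0 : v < 64) : al l v < 64 := by
  induction l with
  | nil => exact h0
  | cons x l ih => exact rf_lt hl.head.2 (ih hl.tail)

theorem pl_append (S : Fin 7 → M) (l l' : List ℕ) : pl S (l ++ l') = pl S l * pl S l' := by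
  induction l with
  | nil => rw [List.nil_append, pl, one_mul]
  | cons x l ih => rw [List.cons_append, pl, pl, ih, mul_assoc]

variable {S : Fin 7 → M} (C : Cox S)

include C

theorem pl_rev_mul (l : List ℕ) : pl S l.reverse * pl S l = 1 := by
  induction l with
  | nil => rw [List.reverse_nil, pl, one_mul]
  | cons x l ih =>
    rw [List.reverse_cons, pl_append, pl, pl, pl, mul_one]
    calc pl S l.reverse * Ga S x * (Ga S x * pl S l) = pl S l.reverse * (Ga S x * Ga S x) * pl S l := by
          simp only [mul_assoc]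
      _ = 1 := by rw [ga_sq C, mul_one, ih]

theorem pl_mul_rev (l : List ℕ) : pl S l * pl S l.reverse = 1 := by
  have h := pl_rev_mul C l.reverse
  rwa [List.reverse_reverse] at h

theorem pl_move {l : List ℕ} (hl : Adm l) {v : ℕ} (h0 : 0 < v) (hv : v < 64) :
    pl S l * Ga S v = Ga S (al l v) * pl S l := by
  induction l with
  | nil => rw [pl, one_mul, mul_one, al]
  | cons x l ih =>
    rw [pl, al, mul_assoc, ih hl.tail, ← mul_assoc, ga_move C hl.head.1 hl.head.2 (al_pos h0) (al_lt hl.tail hv),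
      mul_assoc]

end words

section fano

variable {k V : Type*} [Field k] [AddCommGroup V] [Module k V] {S : Fin 7 → Module.End k V} (C : Cox S)

/-- the seven commuting reflections -/
def TT (S : Fin 7 → Module.End k V) (i : Fin 7) : Module.End k V := Ga S (i + 1)

def w1 : List ℕ := [3, 24, 27, 6, 48, 54]

def w2 : List ℕ := [2, 8, 10]

theorem adm_w1 : Adm w1 := by unfold Adm; decide

theorem adm_w2 : Adm w2 := by unfold Adm; decide

theorem al_w1 : ∀ i : Fin 7, al w1 (i + 1) = (s1 i : ℕ) + 1 := by decide +kernel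

theorem al_w2 : ∀ i : Fin 7, al w2 (i + 1) = (s2 i : ℕ) + 1 := by decide +kernel

include C in
theorem fanoE (hp : Ga S 1 * Ga S 2 * Ga S 3 * Ga S 4 * Ga S 5 * Ga S 6 * Ga S 7 = 1) :
    FanoE (TT S) (pl S w1) (pl S w2) where
  sq i := ga_sq C _
  comm i j := by
    apply (ga_comm C (Nat.succ_pos _) (by omega) (Nat.succ_pos _) (by omega) ?_).eq
    fin_cases i <;> fin_cases j <;> rfl
  prod := hp
  c1 i := by
    unfold TT
    rw [pl_move C adm_w1 (Nat.succ_pos _) (by omega), al_w1]
  c2 i := by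
    unfold TT
    rw [pl_move C adm_w2 (Nat.succ_pos _) (by omega), al_w2]
  i1 := by
    intro a b hab
    have h := pl_rev_mul C w1
    have := congrArg (fun y => (pl S w1.reverse) y) hab
    rwa [← Module.End.mul_apply, ← Module.End.mul_apply, h] at this
  i2 := by
    intro a b hab
    have h := pl_rev_mul C w2
    have := congrArg (fun y => (pl S w2.reverse) y) hab
    rwa [← Module.End.mul_apply, ← Module.End.mul_apply, h] at this

theorem two_orth : ∀ v : Fin 64, ∃ a b : Fin 7, a ≠ b ∧ om (a + 1) v = false ∧ om (b + 1) v = false := by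
  decide +kernel

theorem from_U : ∀ v : Fin 64, 8 ≤ v → ∃ a : Fin 7, rf ((a + 1) ^^^ v) (a + 1) = v ∧
    0 < (a + 1 : ℕ) ^^^ v ∧ (a + 1 : ℕ) ^^^ v < 64 := by
  decide +kernel

variable [FiniteDimensional k V] (h2 : (2 : k) ≠ 0) (hfin : Module.finrank k V ≤ 13)
  (hp : Ga S 1 * Ga S 2 * Ga S 3 * Ga S 4 * Ga S 5 * Ga S 6 * Ga S 7 = 1)
  (hl : Ga S 1 * Ga S 2 * Ga S 3 ≠ 1)

include C h2 hfin hp hl

/-- the common fixed space is invariant -/
theorem Z_inv {x : V} (hx : x ∈ ZZ (TT S)) {v : ℕ} (h0 : 0 < v) (hv : v < 64) : Ga S v x ∈ ZZ (TT S) := by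
  obtain ⟨a, b, hab, ha, hb⟩ := two_orth ⟨v, hv⟩
  have key : ∀ a : Fin 7, om (a + 1) v = false → TT S a (Ga S v x) = Ga S v x := by
    intro a ha
    have hc := ga_comm C (Nat.succ_pos (a : ℕ)) (by omega) h0 hv ha
    unfold TT
    rw [← Module.End.mul_apply, show Ga S ((a : ℕ) + 1) * Ga S v = Ga S v * Ga S ((a : ℕ) + 1) from hc.eq,
      Module.End.mul_apply]
    congr 1
    exact hx a
  exact ZZ_of_two h2 hfin (fanoE C hp) hl hab (key a ha) (key b hb)

/-- all reflections are trivial on the common fixed space -/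
theorem Z_fix {x : V} (hx : x ∈ ZZ (TT S)) {v : ℕ} (h0 : 0 < v) (hv : v < 64) : Ga S v x = x := by
  by_cases h8 : v < 8
  · have := hx ⟨v - 1, by omega⟩
    unfold TT at this
    rwa [Nat.sub_add_cancel h0] at this
  · obtain ⟨a, h1, h2', h3⟩ := from_U ⟨v, hv⟩ (by show 8 ≤ v; omega)
    simp only at h1 h2' h3
    have h4 := ga_conj C h2' h3 (Nat.succ_pos (a : ℕ)) (by omega)
    rw [h1] at h4
    have h5 := Z_inv C h2 hfin hp hl hx h2' h3
    have h6 : Ga S ((a : ℕ) + 1) (Ga S (((a : ℕ) + 1) ^^^ v) x) = Ga S (((a : ℕ) + 1) ^^^ v) x := h5 a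
    rw [← h4, Module.End.mul_apply, Module.End.mul_apply, h6, ← Module.End.mul_apply, ga_sq C, Module.End.one_apply]

/-- a vector fixed by two commuting reflections is fixed by all -/
theorem Z_of_orth {v w : ℕ} (hv0 : 0 < v) (hv : v < 64) (hw0 : 0 < w) (hw : w < 64) (hvw : v ≠ w)
    (ho : om v w = false) {x : V} (h3 : Ga S v x = x) (h4 : Ga S w x = x) : x ∈ ZZ (TT S) := by
  have key : ∀ (l : List ℕ) (hl' : Adm l) {v w : ℕ}, 0 < v → v < 64 → 0 < w → w < 64 →
      (∀ y : V, Ga S (act l v) y = y → Ga S (act l w) y = y → y ∈ ZZ (TT S)) →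
      ∀ y : V, Ga S v y = y → Ga S w y = y → y ∈ ZZ (TT S) := by
    intro l
    induction l with
    | nil => intro _ v w _ _ _ _ h; exact h
    | cons x l ih =>
      intro hl' v w hv0 hv hw0 hw h y hy hy'
      have hx0 := hl'.head.1
      have hx := hl'.head.2
      have h5 := ih hl'.tail (rf_pos hv0 (x := x)) (rf_lt hx hv) (rf_pos hw0 (x := x)) (rf_lt hx hw) h
        (Ga S x y) (by
          rw [← Module.End.mul_apply, ← ga_move C hx0 hx hv0 hv, Module.End.mul_apply, hy]) (by
          rw [← Module.End.mul_apply, ← ga_move C hx0 hx hw0 hw, Module.End.mul_apply, hy'])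
      have h6 := Z_inv C h2 hfin hp hl h5 hx0 hx
      rwa [← Module.End.mul_apply, ga_sq C, Module.End.one_apply] at h6
  obtain ⟨p1, p2, p3⟩ := pth_ok ⟨v, hv⟩ ⟨w, hw⟩ (by rw [Ne, Fin.ext_iff]; simp; omega)
    (by rw [Ne, Fin.ext_iff]; simp; omega) (by rw [Ne, Fin.ext_iff]; exact hvw) ho
  simp only at p1 p2 p3
  rw [List.all_eq_true] at p3
  refine key (pth v w) (fun x hx => by simpa using p3 x hx) hv0 hv hw0 hw ?_ x h3 h4
  rw [p1, p2]
  intro y hy hy'
  exact ZZ_of_two h2 hfin (fanoE C hp) hl (u := 0) (u' := 1) (by decide) hy hy'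

end fano

end Cfsg.Agent.H916.SpSix
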