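import Cfsg.Agent.H916.OmA
import Cfsg.Agent.H916.SpSixG
import Cfsg.Agent.H916.Halving

/-!
# Projective representations of `Ω₈⁺(2)` in dimension at most 13: the dimension is 8
-/

set_option autoImplicit false
set_option linter.unusedSectionVars false
set_option linter.unusedVariables false

namespace Cfsg.Agent.H916.Om

open SpSix Halving

section PR

variable {T k V : Type*} [Group T] [Field k] [AddCommGroup V] [Module k V] (R : PRep T k V)

include R in
theorem _root_.Cfsg.Agent.H916.SpSix.PRep.injective {t : T} {A : Module.End k V} (hA : A ∈ R.L t) :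
    Function.Injective A := by
  obtain ⟨C, hC⟩ := R.ex t⁻¹
  have h1 := R.mul hC hA
  rw [inv_mul_cancel] at h1
  obtain ⟨a, ha, h1⟩ := R.one h1
  intro x y hxy
  have h2 : (C * A) x = (C * A) y := by rw [Module.End.mul_apply, Module.End.mul_apply, hxy]
  rw [h1, LinearMap.smul_apply, LinearMap.smul_apply, Module.End.one_apply, Module.End.one_apply] at h2
  exact smul_right_injective V ha h2

include R in
/-- involutive lifts of conjugate involutions are conjugate up to sign -/
theorem _root_.Cfsg.Agent.H916.SpSix.PRep.conj_lift [Nontrivial V] {s g s' : T} {A B G : Module.End k V} (hG : G ∈ R.L g)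
    (hA : A ∈ R.L s) (hA2 : A * A = 1) (hB : B ∈ R.L s') (hB2 : B * B = 1) (hs : g * s = s' * g) :
    G * A = B * G ∨ G * A = -(B * G) := by
  have h1 := R.mul hG hA
  have h2 := R.mul hB hG
  rw [← hs] at h2
  obtain ⟨c, hc, h⟩ := R.prop_of h1 h2
  have h3 : G = (c * c) • G := by
    calc G = (G * A) * A := by rw [mul_assoc, hA2, mul_one]
      _ = (c • (B * G)) * A := by rw [h]
      _ = c • (B * (G * A)) := by rw [smul_mul_assoc, mul_assoc]
      _ = c • (B * (c • (B * G))) := by rw [h]
      _ = (c * c) • (B * B * G) := by rw [mul_smul_comm, smul_smul, mul_assoc]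
      _ = _ := by rw [hB2, one_mul]
  have hG0 : G ≠ 0 := R.ne_zero hG
  have h4 : (1 - c * c) • G = 0 := by rw [sub_smul, one_smul, ← h3, sub_self]
  have h5 : c * c = 1 := by
    rcases smul_eq_zero.1 h4 with h' | h'
    · exact (sub_eq_zero.1 h').symm
    · exact absurd h' hG0
  rcases mul_self_eq_one_iff.1 h5 with h' | h'
  · left; rw [h, h', one_smul]
  · right; rw [h, h', neg_one_smul]

theorem eig_neg {A : Module.End k V} {a : k} : eig ⊤ (-A) a = eig ⊤ A (-a) := by
  ext x
  rw [mem_eig, mem_eig, LinearMap.neg_apply, neg_smul, neg_eq_iff_eq_neg]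

include R in
theorem _root_.Cfsg.Agent.H916.SpSix.PRep.dims [Nontrivial V] [FiniteDimensional k V] (h2 : (2 : k) ≠ 0)
    {s g s' : T} {A B G : Module.End k V}
    (hG : G ∈ R.L g) (hA : A ∈ R.L s) (hA2 : A * A = 1) (hB : B ∈ R.L s') (hB2 : B * B = 1) (hs : g * s = s' * g) :
    Module.finrank k (eig ⊤ B 1) = Module.finrank k (eig ⊤ A 1) ∨
      Module.finrank k (eig ⊤ B 1) = Module.finrank k (eig ⊤ A (-1)) := by
  have hGi := R.injective hG
  have hA' := finrank_add (W := ⊤) (A := A) (a := 1) h2 one_ne_zero (fun _ _ => trivial) (by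
    rw [hA2, mul_one, one_smul])
  have hB' := finrank_add (W := ⊤) (A := B) (a := 1) h2 one_ne_zero (fun _ _ => trivial) (by
    rw [hB2, mul_one, one_smul])
  rcases R.conj_lift hG hA hA2 hB hB2 hs with h | h
  · left
    have h3 := finrank_eig_conj (a := 1) hGi h
    have h4 := finrank_eig_conj (a := -1) hGi h
    omega
  · right
    have h' : G * A = (-B) * G := by rw [h, neg_mul]
    have h3 := finrank_eig_conj (a := 1) hGi h'
    have h4 := finrank_eig_conj (a := -1) hGi h'
    rw [eig_neg] at h3 h4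
    rw [neg_neg] at h4
    omega

end PR

section dims

variable {k V : Type*} [Field k] [AddCommGroup V] [Module k V] [FiniteDimensional k V] (h2 : (2 : k) ≠ 0)
    (hfin : Module.finrank k V ≤ 13)
    {T : Fin 7 → Module.End k V} {g1 g2 : Module.End k V} (D : FanoE T g1 g2) (hl : T 0 * T 1 * T 2 ≠ 1)

include h2 hfin D hl

theorem finrank_plus (u : Fin 7) : Module.finrank k (eig ⊤ (T u) 1) = Module.finrank k (ZZ T) + 1 := by
  have hsup : ZZ T ⊔ EE T u = eig ⊤ (T u) 1 := by
    apply le_antisymm
    · apply sup_le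
      · intro x hx
        rw [mem_eig, one_smul]
        exact ⟨trivial, hx u⟩
      · intro x hx
        rw [mem_eig, one_smul]
        exact ⟨trivial, mem_EE_self hx⟩
    · intro x hx
      rw [mem_eig, one_smul] at hx
      obtain ⟨z, hz, e, he, rfl⟩ := exists_decomp h2 hfin D hl hx.2
      exact Submodule.add_mem_sup hz he
  have hinf : ZZ T ⊓ EE T u = ⊥ := by
    rw [eq_bot_iff]
    intro x hx
    rw [Submodule.mem_inf] at hx
    obtain ⟨j, hj⟩ : ∃ j : Fin 7, j ≠ u := by
      by_cases h : u = 0
      · exact ⟨1, by rw [h]; decide⟩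
      · exact ⟨0, fun h' => h h'.symm⟩
    rw [Submodule.mem_bot]
    apply eq_zero_of_eq_neg h2
    rw [← mem_EE_ne hx.2 hj]
    exact (hx.1 j).symm
  have h := Submodule.finrank_sup_add_finrank_inf_eq (ZZ T) (EE T u)
  rw [hsup, hinf, finrank_bot, add_zero, finrank_EE h2 hfin D hl] at h
  exact h

theorem finrank_prod_minus {u v : Fin 7} (huv : u ≠ v) :
    Module.finrank k (eig ⊤ (T u * T v) (-1)) = 2 := by
  have hsup : EE T u ⊔ EE T v = eig ⊤ (T u * T v) (-1) := by
    apply le_antisymm
    · apply sup_le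
      · intro x hx
        rw [mem_eig, neg_one_smul, Module.End.mul_apply, mem_EE_ne hx (Ne.symm huv), map_neg, mem_EE_self hx]
        exact ⟨trivial, rfl⟩
      · intro x hx
        rw [mem_eig, neg_one_smul, Module.End.mul_apply, mem_EE_self hx, mem_EE_ne hx huv]
        exact ⟨trivial, rfl⟩
    · intro x hx
      rw [mem_eig, neg_one_smul, Module.End.mul_apply] at hx
      have hx2 := hx.2
      have hv : T v x = -T u x := by
        have := congrArg (T u) hx2
        rwa [D.sq', map_neg] at this
      have key : ∀ {u v : Fin 7} {x : V}, u ≠ v → T v x = -T u x → x + T u x ∈ EE T u := by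
        intro u v x huv hv
        have h0 : T u (x + T u x) = x + T u x := by rw [map_add, D.sq', add_comm]
        have h1 : T v (x + T u x) = -(x + T u x) := by
          rw [map_add, D.comm', hv, map_neg, D.sq']; abel
        obtain ⟨z, hz, e, he, hze⟩ := exists_decomp h2 hfin D hl h0
        rw [hze] at h1 ⊢
        rw [map_add, hz v, mem_EE_ne he (Ne.symm huv)] at h1
        have h3 : z = 0 := by
          apply eq_zero_of_eq_neg h2
          have h4 : z + -e = -z + -e := by rw [h1]; abel
          exact add_right_cancel h4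
        rw [h3, zero_add]
        exact he
      have h3 := key huv hv
      have h4 := key (Ne.symm huv) (x := x) (by rw [hv, neg_neg])
      have h5 := (EE T u ⊔ EE T v).smul_mem (2 : k)⁻¹ (Submodule.add_mem_sup h3 h4)
      rw [hv] at h5
      have h6 : x + T u x + (x + -T u x) = (2 : k) • x := by rw [two_smul]; abel
      rwa [h6, smul_smul, inv_mul_cancel₀ h2, one_smul] at h5
  have hinf : EE T u ⊓ EE T v = ⊥ := by
    rw [eq_bot_iff]
    intro x hx
    rw [Submodule.mem_inf] at hx
    rw [Submodule.mem_bot]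
    apply eq_zero_of_eq_neg h2
    rw [← mem_EE_ne hx.2 huv]
    exact (mem_EE_self hx.1).symm
  have h := Submodule.finrank_sup_add_finrank_inf_eq (EE T u) (EE T v)
  rw [hsup, hinf, finrank_bot, add_zero, finrank_EE h2 hfin D hl, finrank_EE h2 hfin D hl] at h
  exact h

end dims

section main

variable {T k V : Type*} [Group T] [Field k] [IsAlgClosed k] [AddCommGroup V] [Module k V] [FiniteDimensional k V]
  [Nontrivial V] (R : PRep T k V)

/-- non-triviality -/
theorem _root_.Cfsg.Agent.H916.SpSix.CA.ne {t : ℕ → T} (D : SpData t) {R : PRep T k V} {S : Fin 7 → Module.End k V}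
    (hA : CA R t S) : Ga S 1 * Ga S 2 * Ga S 3 ≠ 1 := by
  intro h
  have hm : ∀ {v}, 0 < v → v < 64 → Ga S v ∈ R.L (t v) := fun h0 h => D.ga_mem R hA.mem h0 h
  have h3 := R.mul (R.mul (hm (v := 1) (by norm_num) (by norm_num))
    (hm (v := 2) (by norm_num) (by norm_num))) (hm (v := 3) (by norm_num) (by norm_num))
  rw [h, ← one_smul k (1 : Module.End k V)] at h3
  exact D.ne (R.inj h3)

/-- the anticommuting case -/
theorem _root_.Cfsg.Agent.H916.SpSix.SpData.eight_dvd {t : ℕ → T} (D : SpData t) (h2 : (2 : k) ≠ 0)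
    (hc : R.AntiL (t 1) (t 2)) : 8 ∣ Module.finrank k V := by
  obtain ⟨i, hi⟩ := IsAlgClosed.exists_pow_nat_eq (-1 : k) (n := 2) (by norm_num)
  rw [sq] at hi
  choose g hg hg2 using fun j : Fin 6 => R.exists_inv (D.sq (v := j + 1) (by omega) (by omega))
  exact Halving.eight_dvd h2 hi hg2 (fun a b hab => by
    apply D.anti_all R hc (v := (a : ℕ) + 1) (w := (b : ℕ) + 1) (by omega) (by omega) (by omega)
      (by omega) (fun h => hab (by ext; omega)) _ _ (hg a) _ (hg b)
    fin_cases a <;> fin_cases b <;> rfl)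

variable {τ : ℕ → ℕ → T} (D : OmData τ)

include D

theorem OmData.finrank_ZZ (h2 : (2 : k) ≠ 0) (hfin : Module.finrank k V ≤ 13) {S : Fin 7 → Module.End k V}
    (hA : CA R (fun v => τ n0 (lift v)) S) : Module.finrank k (ZZ (TT S)) = 1 := by
  have hl := hA.ne D.spData
  have FE := fanoE hA.cox hA.prod
  have hm : ∀ {v}, 0 < v → v < 64 → Ga S v ∈ R.L (τ n0 (lift v)) := fun h0 h => D.spData.ga_mem R hA.mem h0 h
  have hA1 : TT S 0 ∈ R.L (τ n0 (lift 1)) := hm (by norm_num) (by norm_num)
  have hB1 : TT S 0 * TT S 1 ∈ R.L (τ (lift 1) (lift 2)) := by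
    have h := R.mul (hm (v := 1) (by norm_num) (by norm_num)) (hm (v := 2) (by norm_num) (by norm_num))
    rw [D.symm ns_n0 (by decide : ns (lift 1)) (by decide), D.mul (by decide) ns_n0 (by decide)] at h
    exact h
  have hA2 : TT S 0 * TT S 0 = 1 := FE.sq 0
  have hB2 : (TT S 0 * TT S 1) * (TT S 0 * TT S 1) = 1 := comm_sq (FE.sq 0) (FE.sq 1) (FE.comm 0 1)
  obtain ⟨G, hG⟩ := R.ex (τ 147 145)
  have hs : τ 147 145 * τ n0 (lift 1) = τ (lift 1) (lift 2) * τ 147 145 := by
    have h := D.conj (a := 147) (b := 145) (n := n0) (m := lift 1) (by decide) (by decide) ns_n0 (by decide)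
    rw [show rr 147 (rr 145 n0) = lift 2 from by decide, show rr 147 (rr 145 (lift 1)) = lift 1 from by decide,
      ← D.symm (n := lift 1) (m := lift 2) (by decide) (by decide) (by decide),
      ← D.inv (n := 147) (m := 145) (by decide) (by decide)] at h
    rw [← h]; group
  have h3 := R.dims h2 hG hA1 hA2 hB1 hB2 hs
  have hAp := finrank_plus h2 hfin FE hl 0
  have hBm := finrank_prod_minus h2 hfin FE hl (u := 0) (v := 1) (by decide)
  have hA' := finrank_add (W := ⊤) (A := TT S 0) (a := 1) h2 one_ne_zero (fun _ _ => trivial) (by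
    rw [hA2, mul_one, one_smul])
  have hB' := finrank_add (W := ⊤) (A := TT S 0 * TT S 1) (a := 1) h2 one_ne_zero (fun _ _ => trivial) (by
    rw [hB2, mul_one, one_smul])
  have hn := finrank_eq h2 hfin FE hl
  rw [finrank_top] at hA' hB'
  omega

include R in
/-- **The dimension is 8.** -/
theorem OmData.finrank_eight (h2 : (2 : k) ≠ 0) (hfin : Module.finrank k V ≤ 13) : Module.finrank k V = 8 := by
  rcases D.spData.dichotomy R with hc | hc
  · obtain ⟨S, hA⟩ := D.spData.exists_CA R hc
    have h3 := D.finrank_ZZ R h2 hfin hA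
    have hn := finrank_eq h2 hfin (fanoE hA.cox hA.prod) (hA.ne D.spData)
    omega
  · obtain ⟨m, hm⟩ := D.spData.eight_dvd R h2 hc
    have := Module.finrank_pos (R := k) (M := V)
    omega

end main

end Cfsg.Agent.H916.Om
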