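import Cfsg.Agent.H916.SpSixH
import Cfsg.Agent.H915.LD

/-!
# `Sp₆(2)` as the simple group of a core: the commuting case
-/

set_option autoImplicit false
set_option linter.unusedSectionVars false
set_option linter.unusedVariables false

namespace Cfsg.Agent.H916.SpSix

open TreeTrace Cfsg Cfsg.Geo Cfsg.Agent.H915.LD Matrix

universe u v

section prep

variable {k V : Type*} [Field k] [AddCommGroup V] [Module k V] [Nontrivial V] {L T : Type*} [Group L] [Group T]

/-- the projective representation of a central extension -/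
def PRep.ofHom (ρ : L →* Module.End k V) (π : L →* T) (hπ : Function.Surjective π)
    (h1 : ∀ g, π g = 1 → ∃ c : k, ρ g = c • 1) (h2 : ∀ (g : L) (c : k), ρ g = c • 1 → π g = 1) : PRep T k V where
  L s := {A | ∃ (g : L) (c : k), c ≠ 0 ∧ π g = s ∧ A = c • ρ g}
  mul := by
    rintro s t A B ⟨g, c, hc, rfl, rfl⟩ ⟨g', c', hc', rfl, rfl⟩
    exact ⟨g * g', c * c', mul_ne_zero hc hc', map_mul _ _ _, by rw [map_mul, smul_mul_smul_comm]⟩
  smul := by
    rintro t A d hd ⟨g, c, hc, rfl, rfl⟩
    exact ⟨g, d * c, mul_ne_zero hd hc, rfl, by rw [smul_smul]⟩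
  ex := by
    intro t
    obtain ⟨g, rfl⟩ := hπ t
    exact ⟨ρ g, g, 1, one_ne_zero, rfl, by rw [one_smul]⟩
  one := by
    rintro A ⟨g, c, hc, hg, rfl⟩
    obtain ⟨d, hd⟩ := h1 g hg
    refine ⟨c * d, mul_ne_zero hc ?_, by rw [hd, smul_smul]⟩
    rintro rfl
    have h3 : ρ g⁻¹ * ρ g = 1 := by rw [← map_mul, inv_mul_cancel, map_one]
    rw [hd, zero_smul, mul_zero] at h3
    exact zero_ne_one h3
  inj := by
    rintro t c ⟨g, d, hd, rfl, h⟩
    apply h2 g (d⁻¹ * c)
    rw [mul_smul, h, smul_smul, inv_mul_cancel₀ hd, one_smul]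

end prep

section words

variable {M : Type*} [Monoid M]

theorem cw_eq (S : Fin 7 → M) (l : List (Fin 7)) (x : M) : cw S l x = pS S l * x * pS S l.reverse := by
  induction l with
  | nil => rw [List.reverse_nil, pS, cw, one_mul, mul_one]
  | cons i l ih =>
    rw [cw, ih, List.reverse_cons, pS_append, pS, pS, pS, mul_one]
    simp only [mul_assoc]

theorem ga_eq (S : Fin 7 → M) (v : ℕ) : Ga S v = pS S (wd v ++ [bs v] ++ (wd v).reverse) := by
  rw [Ga, cw_eq, pS_append, pS_append, pS, pS, mul_one]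

variable {T k V : Type*} [Group T] [Field k] [AddCommGroup V] [Module k V] (R : PRep T k V)
  {t : ℕ → T} (D : SpData t) {S : Fin 7 → Module.End k V} (hA : CA R t S)

include D hA

theorem CA.word (gen : Subgroup.closure {x | ∃ v, 0 < v ∧ v < 64 ∧ x = t v} = ⊤) (s : T) :
    ∃ l : List (Fin 7), pS S l ∈ R.L s := by
  have hs : s ∈ Subgroup.closure {x | ∃ v, 0 < v ∧ v < 64 ∧ x = t v} := by rw [gen]; trivial
  have hone : (1 : Module.End k V) ∈ R.L 1 := by
    have h := R.mul (hA.mem 0) (hA.mem 0)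
    rwa [hA.cox.sq, D.sq (sr_pos 0) (sr_lt 0)] at h
  induction hs using Subgroup.closure_induction with
  | mem x hx =>
    obtain ⟨v, h0, h, rfl⟩ := hx
    exact ⟨_, by rw [← ga_eq]; exact D.ga_mem R hA.mem h0 h⟩
  | one => exact ⟨[], hone⟩
  | mul x y _ _ hx hy =>
    obtain ⟨l, hl⟩ := hx
    obtain ⟨l', hl'⟩ := hy
    exact ⟨l ++ l', by rw [pS_append]; exact R.mul hl hl'⟩
  | inv x _ hx =>
    obtain ⟨l, hl⟩ := hx
    refine ⟨l.reverse, ?_⟩
    obtain ⟨B, hB⟩ := R.ex x⁻¹
    have h1 := R.mul hB hl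
    rw [inv_mul_cancel] at h1
    obtain ⟨c, hc, h1⟩ := R.one h1
    have h2 : c⁻¹ • B = pS S l.reverse := by
      apply eq_rev hA.cox.sq
      rw [smul_mul_assoc, h1, smul_smul, inv_mul_cancel₀ hc, one_smul]
    rw [← h2]
    exact R.smul (inv_ne_zero hc) hB

end words

section core

variable {ι : Type} [Fintype ι] [DecidableEq ι] {F : Type u} [Field F] {P : Subgroup (GL ι F)}
  {T : Type v} [Group T]

/-- the projective representation of the simple group of a core over the algebraic closure -/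
noncomputable def coreRep (hC : Core P) (e : Soc P ≃* T) :
    PRep T (AlgebraicClosure F) (ι → AlgebraicClosure F) :=
  have : Nonempty ι := hC.nonempty
  PRep.ofHom (H911.Five.rep P) (e.toMonoidHom.comp (toSoc P)) (e.surjective.comp (toSoc_surjective P))
    (by
      intro g hg
      have h1 : g ∈ (e.toMonoidHom.comp (toSoc P)).ker := hg
      rw [ker_comp, Subgroup.mem_subgroupOf, mem_scalars_iff] at h1
      obtain ⟨c, hc⟩ := h1
      refine ⟨algebraMap F (AlgebraicClosure F) c, ?_⟩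
      ext1 x
      ext i
      rw [LinearMap.comp_apply, H911.Five.rep_apply, hc]
      simp [Matrix.smul_one_eq_diagonal, Matrix.diagonal_map, Matrix.mulVec_diagonal, Pi.single_apply,
        Algebra.algebraMap_eq_smul_one])
    (by
      intro g c hg
      have h1 : g ∈ (e.toMonoidHom.comp (toSoc P)).ker := by
        rw [ker_comp, Subgroup.mem_subgroupOf, mem_scalars_iff]
        obtain ⟨d, hd⟩ := hC.absIrred.2 ((g : GL ι F) : Matrix ι ι F) (by
          rintro s ⟨h, hh, rfl⟩
          have h2 : g * ⟨h, hh⟩ = ⟨h, hh⟩ * g := by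
            apply H911.Five.rep_injective P
            rw [map_mul, map_mul, hg, smul_mul_assoc, mul_smul_comm, one_mul, mul_one]
          have h3 := congrArg (fun x : P => ((x : GL ι F) : Matrix ι ι F)) h2
          simpa using h3)
        have hd0 : d ≠ 0 := by
          rintro rfl
          rw [zero_smul] at hd
          have h5 : (((g : GL ι F)⁻¹ : GL ι F) : Matrix ι ι F) * ((g : GL ι F) : Matrix ι ι F) = 1 := by
            rw [← Units.val_mul, inv_mul_cancel, Units.val_one]
          rw [hd, Matrix.mul_zero] at h5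
          exact zero_ne_one h5
        exact ⟨Units.mk0 d hd0, hd⟩
      exact h1)

theorem mem_coreRep (hC : Core P) (e : Soc P ≃* T) (g : P) :
    H911.Five.rep P g ∈ (coreRep hC e).L (e (toSoc P g)) :=
  ⟨g, 1, one_ne_zero, rfl, by rw [one_smul]⟩

theorem tr_rep (g : P) : LinearMap.trace _ _ (H911.Five.rep P g) = algebraMap F (AlgebraicClosure F) (tr (g : GL ι F)) :=
  H911.Five.trace_rep P g

/-- irreducibility for a family of lifts generating everything -/
theorem irr_of_word {κ : Type*} (hC : Core P) (e : Soc P ≃* T) {S : κ → Module.End (AlgebraicClosure F) (ι → AlgebraicClosure F)}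
    (hw : ∀ s, ∃ l, pS S l ∈ (coreRep hC e).L s) (W : Submodule (AlgebraicClosure F) (ι → AlgebraicClosure F))
    (hW : ∀ i, ∀ w ∈ W, S i w ∈ W) : W = ⊥ ∨ W = ⊤ := by
  apply H911.Five.rep_irr hC.absIrred
  intro g w hw'
  obtain ⟨l, hl⟩ := hw (e (toSoc P g))
  obtain ⟨c, -, h⟩ := (coreRep hC e).prop_of (mem_coreRep hC e g) hl
  rw [h, LinearMap.smul_apply]
  apply W.smul_mem
  clear hl h
  induction l with
  | nil => exact hw'
  | cons i l ih => exact hW i _ ih

/-- **The commuting case.** -/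
theorem core_comm (hC : Core P) (e : Soc P ≃* T) {t : ℕ → T} (D : SpData t)
    (gen : Subgroup.closure {x | ∃ v, 0 < v ∧ v < 64 ∧ x = t v} = ⊤) (h2 : (2 : F) ≠ 0)
    (hn : Fintype.card ι ≤ 13) (hc : (coreRep hC e).CommL (t 1) (t 2)) :
    Fintype.card ι = 7 ∧ ∀ g ∈ P, ∃ z : ℤ, tr g = z ∧ tr g⁻¹ = z := by
  have : Nonempty ι := hC.nonempty
  obtain ⟨S, hA⟩ := D.exists_CA (coreRep hC e) hc
  have hw := hA.word (coreRep hC e) D gen
  have h2' : (2 : AlgebraicClosure F) ≠ 0 := by
    intro h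
    apply h2
    apply (algebraMap F (AlgebraicClosure F)).injective
    rw [map_zero, map_ofNat, h]
  have hfin : Module.finrank (AlgebraicClosure F) (ι → AlgebraicClosure F) ≤ 13 := by
    rw [Module.finrank_fintype_fun_eq_card]; exact hn
  have hl : Ga S 1 * Ga S 2 * Ga S 3 ≠ 1 := by
    intro h
    have hm : ∀ {v}, 0 < v → v < 64 → Ga S v ∈ (coreRep hC e).L (t v) := fun h0 h => D.ga_mem _ hA.mem h0 h
    have h3 := (coreRep hC e).mul ((coreRep hC e).mul (hm (v := 1) (by norm_num) (by norm_num))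
      (hm (v := 2) (by norm_num) (by norm_num))) (hm (v := 3) (by norm_num) (by norm_num))
    rw [h, ← one_smul (AlgebraicClosure F) (1 : Module.End (AlgebraicClosure F) (ι → AlgebraicClosure F))] at h3
    exact D.ne ((coreRep hC e).inj h3)
  have hirr := irr_of_word hC e hw
  have h7 := finrank_seven hA.cox h2' hfin hA.prod hl hirr
  rw [Module.finrank_fintype_fun_eq_card] at h7
  refine ⟨h7, ?_⟩
  obtain ⟨b, hb⟩ := exists_basis hA.cox h2' hfin hA.prod hl hirr
  have hexact := word_of_perfect (H911.Five.rep P) hC.commutator_top hA.cox.sq (fun g => by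
    obtain ⟨l, hl⟩ := hw (e (toSoc P g))
    obtain ⟨c, hc, h⟩ := (coreRep hC e).prop_of (mem_coreRep hC e g) hl
    exact ⟨c, hc, l, h⟩)
  intro g hg
  obtain ⟨l, hl⟩ := hexact ⟨g, hg⟩
  obtain ⟨z, hz1, hz2⟩ := trace_word b hb C7_symm (n := 2) (by norm_num) C7_D7 D7_C7 l
  have hinv : H911.Five.rep P (⟨g, hg⟩ : P)⁻¹ = pS S l.reverse :=
    eq_rev hA.cox.sq (by rw [← hl, ← map_mul, inv_mul_cancel, map_one])
  refine ⟨z, ?_, ?_⟩
  · apply (algebraMap F (AlgebraicClosure F)).injective
    rw [← tr_rep ⟨g, hg⟩, hl, hz1, map_intCast]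
  · apply (algebraMap F (AlgebraicClosure F)).injective
    have := tr_rep (⟨g, hg⟩ : P)⁻¹
    rw [Subgroup.coe_inv] at this
    rw [← this, hinv, hz2, map_intCast]

end core

end Cfsg.Agent.H916.SpSix
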