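import Cfsg.Agent.H916.OmB
import Cfsg.Agent.H916.OmC
import Cfsg.Agent.H916.SpSixI

/-!
# Cores with simple group `Ω₈⁺(2)` in odd characteristic and dimension at most 13: the dimension is 8
-/

set_option autoImplicit false
set_option linter.unusedSectionVars false
set_option linter.unusedVariables false

namespace Cfsg.Agent.H916.Om

open SpSix Cfsg Cfsg.Geo Cfsg.Agent.H915.LD Matrix Cfsg.Agent.LieClassical.OrthForms

universe u v

variable {ι : Type} [Fintype ι] [DecidableEq ι] {F : Type u} [Field F] {P : Subgroup (GL ι F)}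

theorem core_dim {T : Type v} [Group T] (hC : Core P) (e : Soc P ≃* T) {τ : ℕ → ℕ → T} (D : OmData τ)
    (h2 : (2 : F) ≠ 0) (hn : Fintype.card ι ≤ 13) : Fintype.card ι = 8 := by
  have : Nonempty ι := hC.nonempty
  have h2' : (2 : AlgebraicClosure F) ≠ 0 := by
    intro h
    apply h2
    apply (algebraMap F (AlgebraicClosure F)).injective
    rw [map_zero, map_ofNat, h]
  have h := D.finrank_eight (coreRep hC e) h2' (by rw [Module.finrank_fintype_fun_eq_card]; exact hn)
  rwa [Module.finrank_fintype_fun_eq_card] at h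

/-- **`Ω₈⁺(2)`: dimension 8.** -/
theorem omega_dim {K : Type v} [Field K] (hK : ∀ x : K, x = 0 ∨ x = 1) (hC : Core P)
    (e : Soc P ≃* POmega K (quadFormPlus 4 K)) (h2 : (2 : F) ≠ 0) (hn : Fintype.card ι ≤ 13) :
    Fintype.card ι = 8 := by
  rw [← coe_plusForm] at e
  exact core_dim hC e (omData hK) h2 hn

end Cfsg.Agent.H916.Om
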