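import Cfsg.Agent.H916.SpSixD
import Cfsg.Agent.ClassicalGeometry.SympBasic
import Cfsg.Agent.S0765

/-!
# The transvections of `PSp₆(2)` indexed by masks
-/

set_option autoImplicit false
set_option linter.unusedSectionVars false
set_option linter.unusedVariables false

namespace Cfsg.Agent.H916.SpSix

open Cfsg Matrix Cfsg.Agent.ClassicalGeometry.SympBasic

section bits

variable {K : Type*} [Field K] (hK : ∀ x : K, x = 0 ∨ x = 1)

/-- bit to field element -/
def cb (K : Type*) [Field K] (b : Bool) : K := if b then 1 else 0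

include hK in
theorem one_add_one : (1 : K) + 1 = 0 := by
  rcases hK (1 + 1) with h | h
  · exact h
  · exact absurd (add_eq_left.1 h) one_ne_zero

include hK in
theorem neg_eq' (x : K) : -x = x := by
  have h := one_add_one hK
  linear_combination -x * h

theorem cb_mul (a b : Bool) : cb K a * cb K b = cb K (a && b) := by
  cases a <;> cases b <;> simp [cb]

include hK in
theorem cb_add (a b : Bool) : cb K a + cb K b = cb K (a ^^ b) := by
  cases a <;> cases b <;> simp [cb, one_add_one hK]

theorem cb_inj {a b : Bool} (h : cb K a = cb K b) : a = b := by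
  cases a <;> cases b <;> simp_all [cb]

/-- the vector of a mask -/
def vec (K : Type*) [Field K] (v : ℕ) : Fin 3 ⊕ Fin 3 → K :=
  Sum.elim (fun i => cb K (v.testBit i)) (fun i => cb K (v.testBit (i + 3)))

include hK in
theorem form_vec (a b : ℕ) : sympForm 3 K (vec K a) (vec K b) = cb K (om a b) := by
  rw [sympForm_eq_sum, Fin.sum_univ_three]
  simp only [vec, Sum.elim_inl, Sum.elim_inr, cb_mul, sub_eq_add_neg, neg_eq' hK, cb_add hK]
  congr 1
  show ((((a.testBit 3 && b.testBit 0) ^^ (a.testBit 0 && b.testBit 3)) ^^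
    ((a.testBit 4 && b.testBit 1) ^^ (a.testBit 1 && b.testBit 4))) ^^
    ((a.testBit 5 && b.testBit 2) ^^ (a.testBit 2 && b.testBit 5))) = _
  rw [om]
  rw [Bool.xor_comm (a.testBit 3 && b.testBit 0), Bool.xor_comm (a.testBit 4 && b.testBit 1),
    Bool.xor_comm (a.testBit 5 && b.testBit 2)]

include hK in
theorem vec_add (a b : ℕ) : vec K a + vec K b = vec K (a ^^^ b) := by
  funext i
  rcases i with i | i <;> simp [vec, cb_add hK, Nat.testBit_xor]

theorem om_comm (a b : ℕ) : om a b = om b a := by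
  have key : ∀ x y z w : Bool, ((x && y) ^^ (z && w)) = ((w && z) ^^ (y && x)) := by decide
  unfold om
  rw [key (a.testBit 0), key (a.testBit 1), key (a.testBit 2)]

include hK in
theorem transv_vec (v w : ℕ) : sympTransvection 3 (vec K v) 1 *ᵥ vec K w = vec K (rf v w) := by
  rw [sympTransvection_mulVec, form_vec hK, one_mul, rf, om_comm w v]
  cases h : om v w
  · simp [cb]
  · rw [cb, if_pos rfl, if_pos rfl, one_smul, add_comm, vec_add hK]

theorem exists_mask6 : ∀ ε : Fin 6 → Bool, ∃ m : Fin 64, ∀ i : Fin 6, (m : ℕ).testBit i = ε i := by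
  decide +kernel

include hK in
theorem exists_vec (x : Fin 3 ⊕ Fin 3 → K) : ∃ v : ℕ, v < 64 ∧ x = vec K v := by
  classical
  obtain ⟨m, hm⟩ := exists_mask6 (fun i => if h : (i : ℕ) < 3 then decide (x (Sum.inl ⟨i, h⟩) = 1) else
    decide (x (Sum.inr ⟨(i : ℕ) - 3, by omega⟩) = 1))
  refine ⟨m, m.2, ?_⟩
  have hc : ∀ y : K, y = cb K (decide (y = 1)) := by
    intro y
    rcases hK y with h | h <;> simp [cb, h]
  funext j
  rcases j with j | j
  · have h1 := hm ⟨j, by omega⟩
    simp only [j.2, dif_pos, Fin.eta] at h1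
    rw [vec, Sum.elim_inl, h1]
    exact hc _
  · have h1 := hm ⟨j + 3, by omega⟩
    simp only [Nat.not_lt.2 (Nat.le_add_left 3 (j : ℕ)), dif_neg, not_false_eq_true] at h1
    rw [vec, Sum.elim_inr, h1]
    have h2 : (⟨(j : ℕ) + 3 - 3, by omega⟩ : Fin 3) = j := by ext; simp
    rw [h2]
    exact hc _

theorem vec_inj {a b : ℕ} (ha : a < 64) (hb : b < 64) (h : vec K a = vec K b) : a = b := by
  have h1 : ∀ i : Fin 3, a.testBit i = b.testBit i := fun i => cb_inj (congrFun h (Sum.inl i))
  have h2 : ∀ i : Fin 3, a.testBit (i + 3) = b.testBit (i + 3) := fun i => cb_inj (congrFun h (Sum.inr i))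
  apply Nat.eq_of_testBit_eq
  intro j
  by_cases hj : j < 3
  · exact h1 ⟨j, hj⟩
  by_cases hj' : j < 6
  · have := h2 ⟨j - 3, by omega⟩
    simp only at this
    rwa [Nat.sub_add_cancel (by omega)] at this
  · rw [Nat.testBit_lt_two_pow (lt_of_lt_of_le ha (by
      calc 64 = 2 ^ 6 := by norm_num
        _ ≤ 2 ^ j := Nat.pow_le_pow_right (by norm_num) (by omega))),
      Nat.testBit_lt_two_pow (lt_of_lt_of_le hb (by
      calc 64 = 2 ^ 6 := by norm_num
        _ ≤ 2 ^ j := Nat.pow_le_pow_right (by norm_num) (by omega)))]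

end bits

section group

variable {K : Type*} [Field K] (hK : ∀ x : K, x = 0 ∨ x = 1)

/-- the transvection of a mask -/
def tr0 (K : Type*) [Field K] (v : ℕ) : Matrix.symplecticGroup (Fin 3) K := transv (vec K v) 1

include hK in
theorem tr0_sq (v : ℕ) : tr0 K v * tr0 K v = 1 := by
  apply Subtype.ext
  show sympTransvection 3 (vec K v) 1 * sympTransvection 3 (vec K v) 1 = 1
  rw [sympTransvection_mul, one_add_one hK, sympTransvection_zero]

include hK in
theorem tr0_cj (v w : ℕ) : tr0 K v * tr0 K w * tr0 K v = tr0 K (rf v w) := by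
  have h : tr0 K v * tr0 K w = tr0 K (rf v w) * tr0 K v := by
    apply Subtype.ext
    show sympTransvection 3 (vec K v) 1 * sympTransvection 3 (vec K w) 1 = sympTransvection 3 (vec K (rf v w)) 1 *
      sympTransvection 3 (vec K v) 1
    rw [mul_sympTransvection (sympTransvection_mem (vec K v) 1), transv_vec hK]
  rw [h, mul_assoc, tr0_sq hK, mul_one]

theorem fano_check : ∀ x : Fin 64, rf 1 (rf 2 (rf 3 (rf 4 (rf 5 (rf 6 (rf 7 x)))))) = x := by decide +kernel

include hK in
theorem ext_vec {A B : Matrix.symplecticGroup (Fin 3) K}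
    (h : ∀ v : ℕ, v < 64 → (A : Matrix (Fin 3 ⊕ Fin 3) (Fin 3 ⊕ Fin 3) K) *ᵥ vec K v =
      (B : Matrix (Fin 3 ⊕ Fin 3) (Fin 3 ⊕ Fin 3) K) *ᵥ vec K v) : A = B := by
  apply Subtype.ext
  rw [← Matrix.mulVec_injective.eq_iff]
  funext x
  obtain ⟨v, hv, rfl⟩ := exists_vec hK x
  exact h v hv

include hK in
theorem tr0_mulVec (v w : ℕ) : ((tr0 K v : Matrix.symplecticGroup (Fin 3) K) : Matrix _ _ K) *ᵥ vec K w = vec K (rf v w) :=
  transv_vec hK v w

include hK in
theorem tr0_fano : tr0 K 1 * tr0 K 2 * tr0 K 3 * tr0 K 4 * tr0 K 5 * tr0 K 6 * tr0 K 7 = 1 := by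
  apply ext_vec hK
  intro v hv
  simp only [coe_mul_mulVec, tr0_mulVec hK]
  rw [fano_check ⟨v, hv⟩]
  rw [Submonoid.coe_one, Matrix.one_mulVec]

include hK in
theorem tr0_ne : tr0 K 1 * tr0 K 2 * tr0 K 3 ∉ Subgroup.center (Matrix.symplecticGroup (Fin 3) K) := by
  intro h
  have h1 := Subgroup.mem_center_iff.1 h (tr0 K 16)
  have h2 : (tr0 K 1 * tr0 K 2 * tr0 K 3) * tr0 K 16 = tr0 K 17 * (tr0 K 1 * tr0 K 2 * tr0 K 3) := by
    apply Subtype.ext
    show ((tr0 K 1 * tr0 K 2 * tr0 K 3 : Matrix.symplecticGroup (Fin 3) K) : Matrix _ _ K) *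
      sympTransvection 3 (vec K 16) 1 = sympTransvection 3 (vec K 17) 1 * _
    rw [mul_sympTransvection (tr0 K 1 * tr0 K 2 * tr0 K 3).2]
    congr 2
    show ((tr0 K 1 * tr0 K 2 * tr0 K 3 : Matrix.symplecticGroup (Fin 3) K) : Matrix _ _ K) *ᵥ (vec K 16) = vec K 17
    simp only [coe_mul_mulVec, tr0_mulVec hK]
    rfl
  rw [← h1] at h2
  have h3 := mul_right_cancel h2
  have h4 := tr0_mulVec hK 16 2
  rw [h3, tr0_mulVec hK] at h4
  have h5 := vec_inj (by decide) (by decide) h4
  revert h5
  decide

/-- the transvection in the simple group -/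
def trP (K : Type*) [Field K] (v : ℕ) : PSp 3 K := QuotientGroup.mk (tr0 K v)

include hK in
theorem spData : SpData (trP K) where
  sq {v} _ _ := by
    show QuotientGroup.mk (tr0 K v * tr0 K v) = _
    rw [tr0_sq hK]; rfl
  cj {v w} _ _ _ _ := by
    show QuotientGroup.mk (tr0 K v * tr0 K w * tr0 K v) = QuotientGroup.mk _
    rw [tr0_cj hK]
  fano := by
    show QuotientGroup.mk (tr0 K 1 * tr0 K 2 * tr0 K 3 * tr0 K 4 * tr0 K 5 * tr0 K 6 * tr0 K 7) = _
    rw [tr0_fano hK]; rfl
  ne := by
    intro h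
    apply tr0_ne hK
    rw [← QuotientGroup.eq_one_iff]
    exact h

include hK in
theorem spGen : Subgroup.closure {x : PSp 3 K | ∃ v, 0 < v ∧ v < 64 ∧ x = trP K v} = ⊤ := by
  rw [eq_top_iff]
  intro x hx
  clear hx
  induction x using QuotientGroup.induction_on with
  | H g =>
    have hg : g ∈ transvGroup 3 K := by
      have h : transvGroup 3 K = ⊤ := Cfsg.Agent.S0765.result 3
      rw [h]; trivial
    induction hg using Subgroup.closure_induction with
    | mem A hA =>
      obtain ⟨w, c, hw⟩ := hA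
      obtain ⟨v, hv, rfl⟩ := exists_vec hK w
      rcases hK c with rfl | rfl
      · have : A = 1 := by
          apply Subtype.ext
          rw [hw, sympTransvection_zero]; rfl
        rw [this]
        exact Subgroup.one_mem _
      · by_cases h0 : v = 0
        · have : A = 1 := by
            apply Subtype.ext
            rw [hw, h0]
            have hz : vec K 0 = 0 := by funext i; rcases i with i | i <;> simp [vec, cb]
            rw [hz, sympTransvection_def]
            simp
          rw [this]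
          exact Subgroup.one_mem _
        · apply Subgroup.subset_closure
          refine ⟨v, Nat.pos_of_ne_zero h0, hv, ?_⟩
          show QuotientGroup.mk A = QuotientGroup.mk _
          congr 1
          exact Subtype.ext hw
    | one => exact Subgroup.one_mem _
    | mul a b _ _ ha hb => exact Subgroup.mul_mem _ ha hb
    | inv a _ ha => exact Subgroup.inv_mem _ ha

end group

end Cfsg.Agent.H916.SpSix
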