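import Cfsg.Agent.H916.SpSixI
import Cfsg.Agent.H916.SpSixJ
import Cfsg.Agent.H916.Halving

/-!
# Cores with simple group `Sp₆(2)`, in odd characteristic and dimension at most 12

`spSix_seven` : in dimension 7 the traces are integers and `P` is self-dual (`SD P`, `Fr P p`);
`spSix_dim` : the dimension is 7 or 8.
-/

set_option autoImplicit false
set_option linter.unusedSectionVars false
set_option linter.unusedVariables false

namespace Cfsg.Agent.H916.SpSix

open TreeTrace Cfsg Cfsg.Geo Cfsg.Agent.H915.LD Matrix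

universe u v

variable {ι : Type} [Fintype ι] [DecidableEq ι] {F : Type u} [Field F] {P : Subgroup (GL ι F)}

/-- the anticommuting case -/
theorem core_anti {T : Type v} [Group T] (hC : Core P) (e : Soc P ≃* T) {t : ℕ → T} (D : SpData t)
    (h2 : (2 : F) ≠ 0) (hc : (coreRep hC e).AntiL (t 1) (t 2)) : 8 ∣ Fintype.card ι := by
  have : Nonempty ι := hC.nonempty
  have h2' : (2 : AlgebraicClosure F) ≠ 0 := by
    intro h
    apply h2
    apply (algebraMap F (AlgebraicClosure F)).injective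
    rw [map_zero, map_ofNat, h]
  obtain ⟨i, hi⟩ := IsAlgClosed.exists_pow_nat_eq (-1 : AlgebraicClosure F) (n := 2) (by norm_num)
  rw [sq] at hi
  choose g hg hg2 using fun j : Fin 6 => (coreRep hC e).exists_inv (D.sq (v := j + 1) (by omega) (by omega))
  have h8 := Halving.eight_dvd h2' hi hg2 (fun a b hab => by
    apply D.anti_all (coreRep hC e) hc (v := (a : ℕ) + 1) (w := (b : ℕ) + 1) (by omega) (by omega) (by omega)
      (by omega) (fun h => hab (by ext; omega)) _ _ (hg a) _ (hg b)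
    fin_cases a <;> fin_cases b <;> rfl)
  rwa [Module.finrank_fintype_fun_eq_card] at h8

theorem core_sp {T : Type v} [Group T] (hC : Core P) (e : Soc P ≃* T) {t : ℕ → T} (D : SpData t)
    (gen : Subgroup.closure {x | ∃ v, 0 < v ∧ v < 64 ∧ x = t v} = ⊤) (h2 : (2 : F) ≠ 0)
    (hn : Fintype.card ι ≤ 13) :
    (Fintype.card ι = 7 ∧ ∀ g ∈ P, ∃ z : ℤ, tr g = z ∧ tr g⁻¹ = z) ∨
      (Fintype.card ι = 8 ∧ (coreRep hC e).AntiL (t 1) (t 2)) := by
  have : Nonempty ι := hC.nonempty
  rcases D.dichotomy (coreRep hC e) with hc | hc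
  · exact Or.inl (core_comm hC e D gen h2 hn hc)
  · obtain ⟨m, hm⟩ := core_anti hC e D h2 hc
    have := Fintype.card_pos (α := ι)
    exact Or.inr ⟨by omega, hc⟩

theorem of_int {p : ℕ} [_root_.Fact p.Prime] [CharP F p] (h : ∀ g ∈ P, ∃ z : ℤ, tr g = z ∧ tr g⁻¹ = z) :
    SD P ∧ Fr P p := by
  constructor
  · intro g hg
    obtain ⟨z, h1, h2⟩ := h g hg
    rw [h1, h2]
  · intro g hg
    obtain ⟨z, h1, h2⟩ := h g hg
    rw [h1, ← frobenius_def, map_intCast]

variable {K : Type v} [Field K] (hK : ∀ x : K, x = 0 ∨ x = 1)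

include hK

theorem spSix_dim (hC : Core P) (e : Soc P ≃* PSp 3 K) (h2 : (2 : F) ≠ 0) (hn : Fintype.card ι ≤ 13) :
    Fintype.card ι = 7 ∨ Fintype.card ι = 8 := by
  rcases core_sp hC e (spData hK) (spGen hK) h2 hn with h | h
  · exact Or.inl h.1
  · exact Or.inr h.1

theorem spSix_seven_int (hC : Core P) (e : Soc P ≃* PSp 3 K) (h2 : (2 : F) ≠ 0) (hn : Fintype.card ι = 7) :
    ∀ g ∈ P, ∃ z : ℤ, tr g = z ∧ tr g⁻¹ = z := by
  rcases core_sp hC e (spData hK) (spGen hK) h2 (by omega) with h | h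
  · exact h.2
  · have := h.1; omega

/-- **`Sp₆(2)` in dimension 7: self-dual, over the prime field.** -/
theorem spSix_seven (hC : Core P) (p : ℕ) [_root_.Fact p.Prime] [CharP F p] (e : Soc P ≃* PSp 3 K) (h2 : (2 : F) ≠ 0)
    (hn : Fintype.card ι = 7) : SD P ∧ Fr P p :=
  of_int (spSix_seven_int hK hC e h2 hn)

end Cfsg.Agent.H916.SpSix
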