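import Cfsg.Agent.H916.SpEightB

/-!
# Cores with simple group `Sp₆(2)` in dimension eight (and odd characteristic): self-dual, over the prime field
-/

set_option autoImplicit false
set_option linter.unusedSectionVars false
set_option linter.unusedVariables false

namespace Cfsg.Agent.H916.SpEight

open SpSix Halving Pauli TreeTrace CliffTrace Cfsg Cfsg.Geo Cfsg.Agent.H915.LD Matrix

universe u v

variable {ι : Type} [Fintype ι] [DecidableEq ι] {F : Type u} [Field F] {P : Subgroup (GL ι F)}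

/-- traces in the prime field, and self-dual -/
theorem of_bot {p : ℕ} [_root_.Fact p.Prime] [CharP F p]
    (h : ∀ g ∈ P, algebraMap F (AlgebraicClosure F) (tr g) ∈ (⊥ : Subfield (AlgebraicClosure F)) ∧ tr g⁻¹ = tr g) :
    SD P ∧ Fr P p := by
  refine ⟨fun g hg => (h g hg).2, fun g hg => ?_⟩
  have : CharP (AlgebraicClosure F) p := charP_of_injective_algebraMap (algebraMap F (AlgebraicClosure F)).injective p
  have h1 : (⊥ : Subfield (AlgebraicClosure F)) ≤ (frobenius (AlgebraicClosure F) p).eqLocusField (RingHom.id _) :=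
    bot_le
  have h2 := h1 (h g hg).1
  rw [RingHom.mem_eqLocusField, frobenius_def, RingHom.id_apply, ← map_pow] at h2
  exact (algebraMap F (AlgebraicClosure F)).injective h2

variable {T : Type v} [Group T]

/-- the word property for a family of lifts of generating involutions -/
theorem word_of_gen {κ : Type*} {k V : Type*} [Field k] [AddCommGroup V] [Module k V] (R : PRep T k V)
    {S : κ → Module.End k V} {s : κ → T} (hS : ∀ i, S i ∈ R.L (s i)) (hS2 : ∀ i, S i * S i = 1)
    (gen : Subgroup.closure (Set.range s) = ⊤) (x : T) : ∃ l : List κ, pS S l ∈ R.L x := by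
  have hs : x ∈ Subgroup.closure (Set.range s) := by rw [gen]; trivial
  have hone : (1 : Module.End k V) ∈ R.L 1 := by
    obtain ⟨A, hA⟩ := R.ex 1
    obtain ⟨c, hc, rfl⟩ := R.one hA
    have := R.smul (inv_ne_zero hc) hA
    rwa [smul_smul, inv_mul_cancel₀ hc, one_smul] at this
  induction hs using Subgroup.closure_induction with
  | mem x hx =>
    obtain ⟨i, rfl⟩ := hx
    exact ⟨[i], by rw [pS, pS, mul_one]; exact hS i⟩
  | one => exact ⟨[], hone⟩
  | mul x y _ _ hx hy =>
    obtain ⟨l, hl⟩ := hx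
    obtain ⟨l', hl'⟩ := hy
    exact ⟨l ++ l', by rw [pS_append]; exact R.mul hl hl'⟩
  | inv x _ hx =>
    obtain ⟨l, hl⟩ := hx
    refine ⟨l.reverse, ?_⟩
    obtain ⟨B, hB⟩ := R.ex x⁻¹
    have h1 := R.mul hB hl
    rw [inv_mul_cancel] at h1
    obtain ⟨c, hc, h1⟩ := R.one h1
    have h2 : c⁻¹ • B = pS S l.reverse := by
      apply eq_rev hS2
      rw [smul_mul_assoc, h1, smul_smul, inv_mul_cancel₀ hc, one_smul]
    rw [← h2]
    exact R.smul (inv_ne_zero hc) hB

/-- the masks -/
abbrev Mk : Type := {v : ℕ // 0 < v ∧ v < 64}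

/-- scalar anticommutators in the prime field -/
theorem scal_of_anti {k V : Type*} [Field k] [IsAlgClosed k] [AddCommGroup V] [Module k V] [FiniteDimensional k V]
    (R : PRep T k V) {t : ℕ → T} (D : SpData t) (h2 : (2 : k) ≠ 0) (hV : Module.finrank k V = 8)
    (hc : R.AntiL (t 1) (t 2)) {S : Mk → Module.End k V} (hS : ∀ i : Mk, S i ∈ R.L (t i)) (hS2 : ∀ i, S i * S i = 1)
    (i j : Mk) : ∃ c : k, c ∈ (⊥ : Subfield k) ∧ S i * S j + S j * S i = c • 1 := by
  by_cases hij : i = j
  · subst hij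
    exact ⟨2, ofNat_mem _ 2, by rw [hS2, two_smul]⟩
  · by_cases ho : om i j = true
    · rcases na_all R D h2 hV hc i.2.1 i.2.2 j.2.1 j.2.2 ho _ (hS i) _ (hS j) (hS2 i) (hS2 j) with h | h
      · exact ⟨1, one_mem _, by rw [h, one_smul]⟩
      · exact ⟨-1, neg_mem (one_mem _), by rw [h, neg_one_smul]⟩
    · rw [Bool.not_eq_true] at ho
      refine ⟨0, zero_mem _, ?_⟩
      rw [D.anti_all R hc i.2.1 i.2.2 j.2.1 j.2.2 (fun h => hij (Subtype.ext h)) ho _ (hS i) _ (hS j), zero_smul]
      abel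

theorem core_eight (hC : Core P) (e : Soc P ≃* T) {t : ℕ → T} (D : SpData t)
    (gen : Subgroup.closure {x | ∃ v, 0 < v ∧ v < 64 ∧ x = t v} = ⊤) (h2 : (2 : F) ≠ 0)
    (hn : Fintype.card ι = 8) (hc : (coreRep hC e).AntiL (t 1) (t 2)) :
    ∀ g ∈ P, algebraMap F (AlgebraicClosure F) (tr g) ∈ (⊥ : Subfield (AlgebraicClosure F)) ∧ tr g⁻¹ = tr g := by
  have : Nonempty ι := hC.nonempty
  have h2' : (2 : AlgebraicClosure F) ≠ 0 := by
    intro h
    apply h2
    apply (algebraMap F (AlgebraicClosure F)).injective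
    rw [map_zero, map_ofNat, h]
  have hV : Module.finrank (AlgebraicClosure F) (ι → AlgebraicClosure F) = 8 := by
    rw [Module.finrank_fintype_fun_eq_card]; exact hn
  choose S hS hS2 using fun i : Mk => (coreRep hC e).exists_inv (D.sq i.2.1 i.2.2)
  have hgen : Subgroup.closure (Set.range fun i : Mk => t i) = ⊤ := by
    rw [eq_top_iff, ← gen]
    apply Subgroup.closure_mono
    rintro x ⟨v, h0, h, rfl⟩
    exact ⟨⟨v, h0, h⟩, rfl⟩
  have hw := word_of_gen (coreRep hC e) hS hS2 hgen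
  have hexact := even_of_perfect (H911.Five.rep P) hC.commutator_top hS2 (fun g => by
    obtain ⟨l, hl⟩ := hw (e (toSoc P g))
    obtain ⟨c, hc, h⟩ := (coreRep hC e).prop_of (mem_coreRep hC e g) hl
    exact ⟨c, hc, l, h⟩)
  have hcc := scal_of_anti (coreRep hC e) D h2' hV hc hS hS2
  choose c hc1 hc2 using hcc
  have h1 : LinearMap.trace (AlgebraicClosure F) (ι → AlgebraicClosure F) 1 ∈ (⊥ : Subfield (AlgebraicClosure F)) := by
    rw [LinearMap.trace_one]
    exact natCast_mem _ _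
  intro g hg
  obtain ⟨l, ⟨m, hm⟩, hl⟩ := hexact ⟨g, hg⟩
  obtain ⟨z1, z2⟩ := trace_even (⊥ : Subfield (AlgebraicClosure F)) h2' hc2 hc1 h1 m l (by omega)
  have hinv : H911.Five.rep P (⟨g, hg⟩ : P)⁻¹ = pS S l.reverse :=
    eq_rev hS2 (by rw [← hl, ← map_mul, inv_mul_cancel, map_one])
  refine ⟨?_, ?_⟩
  · rw [← tr_rep ⟨g, hg⟩, hl]
    exact z1
  · apply (algebraMap F (AlgebraicClosure F)).injective
    have := tr_rep (⟨g, hg⟩ : P)⁻¹
    rw [Subgroup.coe_inv] at this
    rw [← this, hinv, z2, ← hl, tr_rep]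

/-- **`Sp₆(2)` in dimension 8: self-dual, over the prime field.** -/
theorem spSix_eight {K : Type v} [Field K] (hK : ∀ x : K, x = 0 ∨ x = 1) (hC : Core P) (p : ℕ)
    [_root_.Fact p.Prime] [CharP F p] (e : Soc P ≃* PSp 3 K) (h2 : (2 : F) ≠ 0)
    (hn : Fintype.card ι = 8) : SD P ∧ Fr P p := by
  rcases core_sp hC e (spData hK) (spGen hK) h2 (by omega) with h | h
  · omega
  · exact of_bot (core_eight hC e (spData hK) (spGen hK) h2 hn h.2)

end Cfsg.Agent.H916.SpEight
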