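import Cfsg.Agent.H916.TreeTrace

/-!
# Traces of even words in operators with scalar anticommutators
-/

set_option autoImplicit false
set_option linter.unusedSectionVars false
set_option linter.unusedVariables false

namespace Cfsg.Agent.H916.CliffTrace

open TreeTrace

section perfect

variable {k V : Type*} [Field k] [AddCommGroup V] [Module k V] {ι : Type*} {S : ι → Module.End k V}

/-- a perfect group of scalar multiples of words consists of words of even length -/
theorem even_of_perfect {L : Type*} [Group L] (ρ : L →* Module.End k V) (hperf : commutator L = ⊤)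
    (hS : ∀ i, S i * S i = 1) (h : ∀ g, ∃ c : k, c ≠ 0 ∧ ∃ l, ρ g = c • pS S l) :
    ∀ g, ∃ l : List ι, Even l.length ∧ ρ g = pS S l := by
  let H : Subgroup L :=
    { carrier := {g | ∃ l : List ι, Even l.length ∧ ρ g = pS S l}
      mul_mem' := by
        rintro a b ⟨l, e, hl⟩ ⟨l', e', hl'⟩
        exact ⟨l ++ l', by rw [List.length_append]; exact e.add e', by rw [map_mul, hl, hl', pS_append]⟩
      one_mem' := ⟨[], ⟨0, rfl⟩, by rw [map_one]; rfl⟩
      inv_mem' := by
        rintro a ⟨l, e, hl⟩
        exact ⟨l.reverse, by rw [List.length_reverse]; exact e,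
          eq_rev hS (by rw [← hl, ← map_mul, inv_mul_cancel, map_one])⟩ }
  have hinv : ∀ {g : L} {c : k} {l : List ι}, c ≠ 0 → ρ g = c • pS S l → ρ g⁻¹ = c⁻¹ • pS S l.reverse := by
    intro g c l hc hg
    have h1 : ρ g⁻¹ * ρ g = 1 := by rw [← map_mul, inv_mul_cancel, map_one]
    rw [hg, mul_smul_comm, ← smul_mul_assoc] at h1
    have h2 := eq_rev hS h1
    rw [← h2, smul_smul, inv_mul_cancel₀ hc, one_smul]
  have hH : commutator L ≤ H := by
    rw [commutator_def, Subgroup.commutator_le]
    intro a _ b _
    obtain ⟨c, hc, l, hl⟩ := h a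
    obtain ⟨c', hc', l', hl'⟩ := h b
    refine ⟨l ++ l' ++ l.reverse ++ l'.reverse, ?_, ?_⟩
    · simp only [List.length_append, List.length_reverse]
      exact ⟨l.length + l'.length, by ring⟩
    rw [commutatorElement_def, map_mul, map_mul, map_mul, hinv hc hl, hinv hc' hl', hl, hl', pS_append, pS_append,
      pS_append]
    simp only [smul_mul_assoc, mul_smul_comm, smul_smul]
    rw [show c'⁻¹ * (c⁻¹ * (c' * c)) = 1 by field_simp, one_smul]
  intro g
  have : g ∈ H := hH (by rw [hperf]; trivial)
  exact this

end perfect

section cliff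

variable {k V : Type*} [Field k] [AddCommGroup V] [Module k V] {ι : Type*} {S : ι → Module.End k V}
  {c : ι → ι → k}

/-- moving a letter to the right -/
def mvR (S : ι → Module.End k V) (c : ι → ι → k) (i : ι) : List ι → List ι → Module.End k V
  | _, [] => 0
  | p, j :: l => c i j • pS S (p ++ l) - mvR S c i (p ++ [j]) l

/-- moving a letter to the left, in the reversed word -/
def mvL (S : ι → Module.End k V) (c : ι → ι → k) (i : ι) : List ι → List ι → Module.End k V
  | _, [] => 0
  | p, j :: l => c i j • pS S (p ++ l).reverse - mvL S c i (p ++ [j]) l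

theorem mvR_eq (h : ∀ i j, S i * S j + S j * S i = c i j • 1) (i : ι) (l : List ι) : ∀ p : List ι,
    pS S p * S i * pS S l = mvR S c i p l + (-1 : k) ^ l.length • (pS S (p ++ l) * S i) := by
  induction l with
  | nil =>
    intro p
    rw [mvR, pS, mul_one, List.append_nil, List.length_nil, pow_zero, one_smul, zero_add]
  | cons j l ih =>
    intro p
    have h1 := ih (p ++ [j])
    have h2 : S i * S j = c i j • 1 - S j * S i := eq_sub_of_add_eq (h i j)
    rw [mvR, pS, List.length_cons, pow_succ]
    calc pS S p * S i * (S j * pS S l) = pS S p * (S i * S j) * pS S l := by simp only [mul_assoc]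
      _ = c i j • (pS S p * pS S l) - (pS S p * S j) * S i * pS S l := by
        rw [h2, mul_sub, sub_mul, mul_smul_comm, mul_one, smul_mul_assoc]; simp only [mul_assoc]
      _ = c i j • pS S (p ++ l) - pS S (p ++ [j]) * S i * pS S l := by
        rw [pS_append, pS_append, pS, pS, mul_one]
      _ = _ := by
        rw [h1, List.append_assoc, List.singleton_append, mul_neg_one, neg_smul]
        abel

theorem mvL_eq (h : ∀ i j, S i * S j + S j * S i = c i j • 1) (i : ι) (l : List ι) : ∀ p : List ι,
    pS S l.reverse * S i * pS S p.reverse = mvL S c i p l + (-1 : k) ^ l.length • (S i * pS S (p ++ l).reverse) := by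
  induction l with
  | nil =>
    intro p
    rw [mvL, List.reverse_nil, pS, one_mul, List.append_nil, List.length_nil, pow_zero, one_smul, zero_add]
  | cons j l ih =>
    intro p
    have h1 := ih (p ++ [j])
    have h2 : S j * S i = c i j • 1 - S i * S j := eq_sub_of_add_eq (by rw [add_comm]; exact h i j)
    rw [mvL, List.length_cons, pow_succ]
    calc pS S (j :: l).reverse * S i * pS S p.reverse = pS S l.reverse * (S j * S i) * pS S p.reverse := by
          rw [List.reverse_cons, pS_append, pS, pS, mul_one]; simp only [mul_assoc]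
      _ = c i j • (pS S l.reverse * pS S p.reverse) - pS S l.reverse * S i * (S j * pS S p.reverse) := by
        rw [h2, mul_sub, sub_mul, mul_smul_comm, mul_one, smul_mul_assoc]; simp only [mul_assoc]
      _ = c i j • pS S (p ++ l).reverse - pS S l.reverse * S i * pS S (p ++ [j]).reverse := by
        rw [List.reverse_append, pS_append, List.reverse_append, pS_append, List.reverse_singleton, pS, pS, mul_one]
      _ = _ := by
        rw [h1, List.append_assoc, List.singleton_append, mul_neg_one, neg_smul]
        abel

variable (K : Subfield k)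

/-- **Traces of even words.** -/
theorem trace_even (h2 : (2 : k) ≠ 0) (h : ∀ i j, S i * S j + S j * S i = c i j • 1) (hc : ∀ i j, c i j ∈ K)
    (h1 : LinearMap.trace k V 1 ∈ K) (n : ℕ) : ∀ l : List ι, l.length = 2 * n →
    LinearMap.trace k V (pS S l) ∈ K ∧ LinearMap.trace k V (pS S l.reverse) = LinearMap.trace k V (pS S l) := by
  induction n with
  | zero =>
    intro l hl
    obtain rfl := List.length_eq_zero_iff.1 hl
    exact ⟨h1, rfl⟩
  | succ n ih =>
    intro l hl
    obtain ⟨i, l, rfl⟩ : ∃ i l', l = i :: l' := by
      cases l with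
      | nil => simp at hl
      | cons i l => exact ⟨i, l, rfl⟩
    rw [List.length_cons] at hl
    have key : ∀ (m p : List ι), p.length + m.length = 2 * n + 1 →
        LinearMap.trace k V (mvR S c i p m) ∈ K ∧
        LinearMap.trace k V (mvL S c i p m) = LinearMap.trace k V (mvR S c i p m) := by
      intro m
      induction m with
      | nil => intro p _; rw [mvR, mvL, map_zero]; exact ⟨K.zero_mem, rfl⟩
      | cons j m ihm =>
        intro p hp
        rw [List.length_cons] at hp
        obtain ⟨a1, a2⟩ := ih (p ++ m) (by rw [List.length_append]; omega)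
        obtain ⟨b1, b2⟩ := ihm (p ++ [j]) (by rw [List.length_append, List.length_singleton]; omega)
        rw [mvR, mvL, map_sub, map_sub, map_smul, map_smul, a2, b2]
        exact ⟨K.sub_mem (K.mul_mem (hc i j) a1) b1, rfl⟩
    obtain ⟨k1, k2⟩ := key l [] (by rw [List.length_nil]; omega)
    have hodd : (-1 : k) ^ l.length = -1 := Odd.neg_one_pow ⟨n, by omega⟩
    have e1 := mvR_eq h i l []
    have e2 := mvL_eq h i l []
    rw [pS, one_mul, List.nil_append, hodd, neg_one_smul] at e1
    rw [List.reverse_nil, pS, mul_one, List.nil_append, hodd, neg_one_smul] at e2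
    have t1 := congrArg (LinearMap.trace k V) e1
    have t2 := congrArg (LinearMap.trace k V) e2
    rw [map_add, map_neg, LinearMap.trace_mul_comm k (pS S l) (S i)] at t1
    rw [map_add, map_neg, LinearMap.trace_mul_comm k (S i) (pS S l.reverse)] at t2
    have q1 : LinearMap.trace k V (pS S (i :: l)) = 2⁻¹ * LinearMap.trace k V (mvR S c i [] l) := by
      rw [pS, eq_inv_mul_iff_mul_eq₀ h2]
      linear_combination t1
    have q2 : LinearMap.trace k V (pS S (i :: l).reverse) = 2⁻¹ * LinearMap.trace k V (mvL S c i [] l) := by
      rw [List.reverse_cons, pS_append, pS, pS, mul_one, eq_inv_mul_iff_mul_eq₀ h2]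
      linear_combination t2
    rw [q1, q2, k2]
    exact ⟨K.mul_mem (K.inv_mem (ofNat_mem K 2)) k1, rfl⟩

end cliff

end Cfsg.Agent.H916.CliffTrace
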