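import Cfsg.Agent.H928.FrameM
import Cfsg.Agent.H916.FrameOdd

/-!
# Orthogonal frames, `p = 5`: either all roots have support at most two, or all vectors of norm `1` are roots
-/

set_option autoImplicit false
set_option linter.unusedSectionVars false
set_option linter.unusedSimpArgs false
set_option linter.unusedVariables false

namespace Cfsg.Agent.H916.FrameFive

open Matrix
open Cfsg.Agent.H928 Cfsg.Agent.H916.FrameOdd

variable {ι : Type*} [Fintype ι] [DecidableEq ι] {F : Type*} [Field F]
variable {X : Subgroup ((ι → F) ≃ₗ[F] (ι → F))}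

theorem five_cases [Fintype F] (hF : Fintype.card F = 5) :
    (5 : F) = 0 ∧ ∀ a : F, a = 0 ∨ a * a = 1 ∨ a * a = -1 := by
  have h5 : (5 : F) = 0 := by
    have := FiniteField.cast_card_eq_zero F
    rw [hF] at this
    exact_mod_cast this
  refine ⟨h5, fun a => ?_⟩
  have h := FiniteField.pow_card a
  rw [hF] at h
  have h1 : a * ((a * a - 1) * (a * a + 1)) = 0 := by linear_combination h
  rcases mul_eq_zero.1 h1 with h2 | h2
  · exact Or.inl h2
  · rcases mul_eq_zero.1 h2 with h3 | h3
    · exact Or.inr (Or.inl (by linear_combination h3))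
    · exact Or.inr (Or.inr (by linear_combination h3))

theorem dot_sg (I : Finset ι) (u : ι → F) : (sg F I u) ⬝ᵥ u = u ⬝ᵥ u - 2 * ∑ k ∈ I, u k * u k := by
  classical
  have e1 : ∑ k ∈ I, u k * u k = ∑ k, if k ∈ I then u k * u k else 0 := by
    rw [← Finset.sum_filter, Finset.filter_mem_eq_inter, Finset.univ_inter]
  rw [dotProduct, dotProduct, e1, Finset.mul_sum, ← Finset.sum_sub_distrib]
  refine Finset.sum_congr rfl fun k _ => ?_
  rw [sg_apply]
  split_ifs
  · ring
  · ring

/-- even sign changes preserve roots -/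
theorem root_sg_even (B : Base X) {S : Finset ι} (hS : Even S.card) {u : ι → F} (hu : Root X u) :
    Root X (sg F S u) := by
  by_cases hne : Nonempty ι
  · obtain ⟨k⟩ := hne
    obtain ⟨n, hn⟩ := hS
    apply B.root_map' (sg_even B n S (by omega)) hu (B.root_ee k)
    by_cases hk : k ∈ S
    · rw [sg_ee_mem hk]; exact (B.root_ee k).neg
    · rw [sg_ee_not_mem hk]; exact B.root_ee k
  · exact ⟨by rw [sg_isIso, hu.1], fun k => absurd ⟨k⟩ hne⟩

section

variable (h5 : (5 : F) = 0) (hc : ∀ a : F, a = 0 ∨ a * a = 1 ∨ a * a = -1)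

include h5

/-- shrinking a root -/
theorem shrink (B : Base X) (hn : 3 ≤ Fintype.card ι) {u : ι → F} (hu : Root X u) (I : Finset ι)
    (hs : ∑ k ∈ I, u k * u k = -1) (hpar : Even I.card ∨ ∃ m, u m = 0) :
    Root X (fun k => if k ∈ I then -2 * u k else 0) := by
  have hv : Root X (sg F I u) := by
    rcases hpar with h | ⟨m, hm⟩
    · exact root_sg_even B h hu
    · exact B.root_flips hn I hu hm
  have hr := B.root_rf hu hv
  have e : rf u (sg F I u) = fun k => if k ∈ I then -2 * u k else 0 := by
    funext k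
    rw [rf_apply hu.1, dot_sg, hu.1, hs, Pi.sub_apply, Pi.smul_apply, smul_eq_mul, sg_apply]
    by_cases hk : k ∈ I
    · rw [if_pos hk, if_pos hk]
      linear_combination (- u k) * h5
    · rw [if_neg hk, if_neg hk]
      linear_combination (- u k) * h5
  rw [e] at hr
  exact hr

/-- first type of vectors: four coordinates of square `-1` -/
def T4 (w : ι → F) : Prop := ∃ I : Finset ι, I.card = 4 ∧ (∀ k ∈ I, w k * w k = -1) ∧ ∀ k, k ∉ I → w k = 0

omit h5 in
/-- second type of vectors: coordinates with squares `1, 1, -1` -/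
def T3 (w : ι → F) : Prop := ∃ a b c : ι, a ≠ b ∧ a ≠ c ∧ b ≠ c ∧ w a * w a = 1 ∧ w b * w b = 1 ∧
  w c * w c = -1 ∧ ∀ k, k ≠ a → k ≠ b → k ≠ c → w k = 0

theorem t4_of_four (B : Base X) (hn : 3 ≤ Fintype.card ι) {u : ι → F} (hu : Root X u) (I : Finset ι)
    (hI : I.card = 4) (h1 : ∀ k ∈ I, u k * u k = 1) : ∃ w, Root X w ∧ T4 w := by
  refine ⟨_, shrink h5 B hn hu I ?_ (Or.inl (by rw [hI]; exact ⟨2, rfl⟩)), I, hI, ?_, ?_⟩
  · rw [Finset.sum_congr rfl h1, Finset.sum_const, hI]
    simp only [nsmul_eq_mul]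
    push_cast
    linear_combination h5
  · intro k hk
    beta_reduce
    rw [if_pos hk]
    linear_combination 4 * h1 k hk + h5
  · intro k hk
    beta_reduce
    rw [if_neg hk]

theorem t3_of (B : Base X) (hn : 3 ≤ Fintype.card ι) {u : ι → F} (hu : Root X u) {x y z m : ι}
    (hxy : x ≠ y) (hxz : x ≠ z) (hyz : y ≠ z) (hx : u x * u x = 1) (hy : u y * u y = -1)
    (hz : u z * u z = -1) (hm : u m = 0) : ∃ w, Root X w ∧ T3 w := by
  refine ⟨_, shrink h5 B hn hu {x, y, z} ?_ (Or.inr ⟨m, hm⟩), y, z, x, hyz, Ne.symm hxy, Ne.symm hxz,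
    ?_, ?_, ?_, ?_⟩
  · rw [Finset.sum_insert (by simp [hxy, hxz]), Finset.sum_insert (by simp [hyz]), Finset.sum_singleton,
      hx, hy, hz]
    ring
  · beta_reduce
    rw [if_pos (by simp)]
    linear_combination 4 * hy - h5
  · beta_reduce
    rw [if_pos (by simp)]
    linear_combination 4 * hz - h5
  · beta_reduce
    rw [if_pos (by simp)]
    linear_combination 4 * hx + h5
  · intro k h1 h2 h3
    beta_reduce
    rw [if_neg (by simp [h1, h2, h3])]

include hc

theorem norm_eq [DecidableEq F] (u : ι → F) : u ⬝ᵥ u = (((Finset.univ.filter (fun k => u k * u k = 1)).card : ℤ) -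
    ((Finset.univ.filter (fun k => u k * u k = -1)).card : ℤ) : ℤ) := by
  have h2 : (2 : F) ≠ 0 := by
    intro h
    apply one_ne_zero (α := F)
    linear_combination h5 - 2 * h
  push_cast
  rw [dotProduct, Finset.card_eq_sum_ones, Finset.card_eq_sum_ones, Nat.cast_sum, Nat.cast_sum,
    Finset.sum_filter, Finset.sum_filter, ← Finset.sum_sub_distrib]
  refine Finset.sum_congr rfl fun k _ => ?_
  rcases hc (u k) with h | h | h
  · rw [h, if_neg (by simp), if_neg (by simp)]; ring
  · have h3 : ¬ u k * u k = -1 := by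
      rw [h]; intro h'
      exact h2 (by linear_combination h')
    rw [if_pos h, if_neg h3, h]; push_cast; ring
  · have h3 : ¬ u k * u k = 1 := by
      rw [h]; intro h'
      exact h2 (by linear_combination -h')
    rw [if_neg h3, if_pos h, h]; push_cast; ring

/-- every root of support at least three leads to a root of one of the two types -/
theorem reduce (B : Base X) (hn : 7 ≤ Fintype.card ι) {u : ι → F} (hu : Root X u) (hs : 3 ≤ sz u) :
    (∃ w, Root X w ∧ T4 w) ∨ ∃ w, Root X w ∧ T3 w := by
  classical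
  have h2 := B.two
  set A := Finset.univ.filter (fun k => u k * u k = 1) with hA
  set C := Finset.univ.filter (fun k => u k * u k = -1) with hC
  have hAm : ∀ k, k ∈ A ↔ u k * u k = 1 := fun k => by simp [hA]
  have hCm : ∀ k, k ∈ C ↔ u k * u k = -1 := fun k => by simp [hC]
  have hdisj : Disjoint A C := by
    rw [Finset.disjoint_left]
    intro k h1 h3
    rw [hAm] at h1
    rw [hCm] at h3
    exact h2 (by linear_combination h3 - h1)
  have hsz : sz u = A.card + C.card := by
    rw [← Finset.card_union_of_disjoint hdisj]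
    unfold sz
    congr 1
    ext k
    simp only [Finset.mem_filter, Finset.mem_univ, true_and, Finset.mem_union, hAm, hCm]
    constructor
    · intro h
      rcases hc (u k) with h' | h' | h'
      · exact absurd h' h
      · exact Or.inl h'
      · exact Or.inr h'
    · rintro (h | h) h'
      · rw [h'] at h; simp at h
      · rw [h'] at h; simp at h
  have h0 : ∀ k, k ∉ A → k ∉ C → u k = 0 := by
    intro k h1 h3
    rcases hc (u k) with h' | h' | h'
    · exact h'
    · exact absurd ((hAm k).2 h') h1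
    · exact absurd ((hCm k).2 h') h3
  have hchar : CharP F 5 := (CharP.charP_iff_prime_eq_zero (by norm_num)).2 (by exact_mod_cast h5)
  have hmod : (5 : ℤ) ∣ (A.card : ℤ) - (C.card : ℤ) - 1 := by
    apply (CharP.intCast_eq_zero_iff F 5 _).1
    have h3 := norm_eq h5 hc u
    rw [hu.1] at h3
    push_cast at h3 ⊢
    linear_combination -h3
  have hzero : A.card + C.card ≤ 6 → ∃ m, u m = 0 := by
    intro h
    obtain ⟨m, hm⟩ := exists_not_mem (A ∪ C) (lt_of_le_of_lt (Finset.card_union_le _ _) (by omega))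
    rw [Finset.mem_union, not_or] at hm
    exact ⟨m, h0 m hm.1 hm.2⟩
  by_cases hA4 : 4 ≤ A.card
  · obtain ⟨I, hIA, hI⟩ := Finset.exists_subset_card_eq hA4
    exact Or.inl (t4_of_four h5 B (by omega) hu I hI fun k hk => (hAm k).1 (hIA hk))
  by_cases hC6 : 6 ≤ C.card
  · obtain ⟨I, hIC, hI⟩ := Finset.exists_subset_card_eq hC6
    have hI1 : ∀ k ∈ I, u k * u k = -1 := fun k hk => (hCm k).1 (hIC hk)
    have hw := shrink h5 B (by omega) hu I (by
      rw [Finset.sum_congr rfl hI1, Finset.sum_const, hI]
      simp only [nsmul_eq_mul]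
      push_cast
      linear_combination -h5) (Or.inl (by rw [hI]; exact ⟨3, rfl⟩))
    obtain ⟨J, hJI, hJ⟩ := Finset.exists_subset_card_eq (s := I) (n := 4) (by omega)
    refine Or.inl (t4_of_four h5 B (by omega) hw J hJ fun k hk => ?_)
    beta_reduce
    rw [if_pos (hJI hk)]
    linear_combination 4 * hI1 k (hJI hk) - h5
  have hcases : (A.card = 0 ∧ C.card = 4) ∨ (A.card = 1 ∧ C.card = 5) ∨ (A.card = 2 ∧ C.card = 1) ∨
      (A.card = 3 ∧ C.card = 2) := by omega
  have htri : 1 ≤ A.card → 2 ≤ C.card → A.card + C.card ≤ 6 → ∃ w, Root X w ∧ T3 w := by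
    intro ha hb hab
    obtain ⟨x, hx⟩ := Finset.card_pos.1 (show 0 < A.card by omega)
    obtain ⟨y, hy, z, hz, hyz⟩ := Finset.one_lt_card.1 (show 1 < C.card by omega)
    obtain ⟨m, hm⟩ := hzero hab
    have hxy : x ≠ y := fun h => Finset.disjoint_left.1 hdisj hx (h ▸ hy)
    have hxz : x ≠ z := fun h => Finset.disjoint_left.1 hdisj hx (h ▸ hz)
    exact t3_of h5 B (by omega) hu hxy hxz hyz ((hAm x).1 hx) ((hCm y).1 hy) ((hCm z).1 hz) hm
  rcases hcases with ⟨ha, hb⟩ | ⟨ha, hb⟩ | ⟨ha, hb⟩ | ⟨ha, hb⟩
  · left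
    refine ⟨u, hu, C, hb, fun k hk => (hCm k).1 hk, fun k hk => h0 k ?_ hk⟩
    rw [Finset.card_eq_zero.1 ha]
    exact Finset.notMem_empty k
  · exact Or.inr (htri (by omega) (by omega) (by omega))
  · right
    obtain ⟨x, hx, y, hy, hxy⟩ := Finset.one_lt_card.1 (show 1 < A.card by omega)
    obtain ⟨z, hz⟩ := Finset.card_pos.1 (show 0 < C.card by omega)
    have hxz : x ≠ z := fun h => Finset.disjoint_left.1 hdisj hx (h ▸ hz)
    have hyz : y ≠ z := fun h => Finset.disjoint_left.1 hdisj hy (h ▸ hz)
    refine ⟨u, hu, x, y, z, hxy, hxz, hyz, (hAm x).1 hx, (hAm y).1 hy, (hCm z).1 hz, ?_⟩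
    intro k h1 h3 h4
    apply h0
    · intro hk
      have h6 : ({x, y, k} : Finset ι) ⊆ A := by
        intro c hc'
        simp only [Finset.mem_insert, Finset.mem_singleton] at hc'
        rcases hc' with rfl | rfl | rfl <;> assumption
      have h7 := Finset.card_le_card h6
      rw [Finset.card_eq_three.2 ⟨x, y, k, hxy, Ne.symm h1, Ne.symm h3, rfl⟩] at h7
      omega
    · intro hk
      have h6 : ({z, k} : Finset ι) ⊆ C := by
        intro c hc'
        simp only [Finset.mem_insert, Finset.mem_singleton] at hc'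
        rcases hc' with rfl | rfl <;> assumption
      have h7 := Finset.card_le_card h6
      rw [Finset.card_pair (Ne.symm h4)] at h7
      omega
  · exact Or.inr (htri (by omega) (by omega) (by omega))

omit hc in
/-- from the first type to the second -/
theorem t3_of_t4 (B : Base X) (hn : 7 ≤ Fintype.card ι) {u : ι → F} (hu : Root X u) (h4 : T4 u) :
    ∃ w, Root X w ∧ T3 w := by
  classical
  obtain ⟨I, hI, h1, h0⟩ := h4
  obtain ⟨a, b, c, d, hab, hac, had, hbc, hbd, hcd, rfl⟩ := Finset.card_eq_four.1 hI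
  obtain ⟨e, he⟩ := exists_not_mem ({a, b, c, d} : Finset ι) (by rw [hI]; omega)
  obtain ⟨f, hf⟩ := exists_not_mem (insert e ({a, b, c, d} : Finset ι))
    (lt_of_le_of_lt (Finset.card_insert_le _ _) (by rw [hI]; omega))
  have hfe : f ≠ e := fun h => hf (by rw [h]; exact Finset.mem_insert_self _ _)
  have hf' : f ∉ ({a, b, c, d} : Finset ι) := fun h => hf (Finset.mem_insert_of_mem h)
  have ue := h0 e he
  have uf := h0 f hf'
  simp only [Finset.mem_insert, Finset.mem_singleton, not_or] at he hf'
  obtain ⟨hea, heb, hec, hed⟩ := he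
  obtain ⟨hfa, hfb, hfc, hfd⟩ := hf'
  have ua := h1 a (by simp)
  have ub := h1 b (by simp)
  have uc := h1 c (by simp)
  have ud := h1 d (by simp)
  let v : ι → F := (u b) • ee F b + (u c) • ee F c - (u d) • ee F d + (u a) • ee F e
  have hva : v a = 0 := by
    simp only [v, Pi.add_apply, Pi.sub_apply, Pi.smul_apply, smul_eq_mul]
    rw [ee_ne hab, ee_ne hac, ee_ne had, ee_ne (Ne.symm hea)]; ring
  have hvb : v b = u b := by
    simp only [v, Pi.add_apply, Pi.sub_apply, Pi.smul_apply, smul_eq_mul]
    rw [ee_same, ee_ne hbc, ee_ne hbd, ee_ne (Ne.symm heb)]; ring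
  have hvc : v c = u c := by
    simp only [v, Pi.add_apply, Pi.sub_apply, Pi.smul_apply, smul_eq_mul]
    rw [ee_same, ee_ne (Ne.symm hbc), ee_ne hcd, ee_ne (Ne.symm hec)]; ring
  have hvd : v d = - u d := by
    simp only [v, Pi.add_apply, Pi.sub_apply, Pi.smul_apply, smul_eq_mul]
    rw [ee_same, ee_ne (Ne.symm hbd), ee_ne (Ne.symm hcd), ee_ne (Ne.symm hed)]; ring
  have hve : v e = u a := by
    simp only [v, Pi.add_apply, Pi.sub_apply, Pi.smul_apply, smul_eq_mul]
    rw [ee_same, ee_ne heb, ee_ne hec, ee_ne hed]; ring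
  have hvo : ∀ k, k ≠ b → k ≠ c → k ≠ d → k ≠ e → v k = 0 := by
    intro k k1 k2 k3 k4
    simp only [v, Pi.add_apply, Pi.sub_apply, Pi.smul_apply, smul_eq_mul]
    rw [ee_ne k1, ee_ne k2, ee_ne k3, ee_ne k4]; ring
  have hv : Root X v := by
    refine B.root_move (by omega) (Equiv.swap a e) hu hfe.symm ue uf fun k => ?_
    by_cases ka : k = a
    · subst ka
      rw [Equiv.swap_apply_left, hve]; exact Or.inl rfl
    by_cases ke : k = e
    · subst ke
      rw [Equiv.swap_apply_right, hva, ue]; exact Or.inl rfl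
    rw [Equiv.swap_apply_of_ne_of_ne ka ke]
    by_cases kb : k = b
    · subst kb; exact Or.inl hvb
    by_cases kc : k = c
    · subst kc; exact Or.inl hvc
    by_cases kd : k = d
    · subst kd; exact Or.inr hvd
    left
    rw [hvo k kb kc kd ke, h0 k (by simp [ka, kb, kc, kd])]
  have huv : v ⬝ᵥ u = -1 := by
    have e1 : v ⬝ᵥ u = u b * u b + u c * u c - u d * u d + u a * u e := by
      simp only [v, add_dotProduct, sub_dotProduct, smul_dotProduct, ee_dot, smul_eq_mul]
    rw [e1, ub, uc, ud, ue]; ring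
  have hw := B.root_rf hu hv
  have hwk : ∀ k, rf u v k = v k + 2 * u k := by
    intro k
    rw [rf_apply hu.1, huv, Pi.sub_apply, Pi.smul_apply, smul_eq_mul]
    ring
  refine t3_of h5 B (by omega) hw (x := a) (y := d) (z := e) (m := f) had (Ne.symm hea)
    (Ne.symm hed) ?_ ?_ ?_ ?_
  · rw [hwk, hva]
    linear_combination 4 * ua - h5
  · rw [hwk, hvd]
    linear_combination ud
  · rw [hwk, hve, ue]
    linear_combination ua
  · rw [hwk, hvo f hfb hfc hfd hfe, uf]; ring

/-- from the second type to everything -/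
theorem all_of_t3 (B : Base X) [Fintype F] (hF : Fintype.card F = 5) (hn : 7 ≤ Fintype.card ι) {u : ι → F}
    (hu : Root X u) (h3 : T3 u) (v : ι → F) (hv : v ⬝ᵥ v = 1) : Root X v := by
  classical
  have h2 := B.two
  obtain ⟨a, b, c, hab, hac, hbc, ua, ub, uc, u0⟩ := h3
  obtain ⟨m, hm⟩ := exists_not_mem ({a, b, c} : Finset ι) (lt_of_le_of_lt Finset.card_le_three (by omega))
  obtain ⟨n, hn'⟩ := exists_not_mem ({m, a, b, c} : Finset ι) (lt_of_le_of_lt Finset.card_le_four (by omega))
  simp only [Finset.mem_insert, Finset.mem_singleton, not_or] at hm hn'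
  have um := u0 m hm.1 hm.2.1 hm.2.2
  have un := u0 n hn'.2.1 hn'.2.2.1 hn'.2.2.2
  -- every vector of the second type is a root
  have key : ∀ w : ι → F, T3 w → Root X w := by
    rintro w ⟨a', b', c', hab', hac', hbc', wa, wb, wc, w0⟩
    obtain ⟨σ, s1, s2, s3⟩ := exists_perm_three hab hac hbc hab' hac' hbc'
    refine B.root_move (by omega) σ hu (Ne.symm hn'.1) um un fun k => ?_
    by_cases ka : k = a
    · subst ka
      rw [s1]
      exact mul_self_eq_mul_self_iff.1 (by rw [wa, ua])
    by_cases kb : k = b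
    · subst kb
      rw [s2]
      exact mul_self_eq_mul_self_iff.1 (by rw [wb, ub])
    by_cases kc : k = c
    · subst kc
      rw [s3]
      exact mul_self_eq_mul_self_iff.1 (by rw [wc, uc])
    left
    rw [u0 k ka kb kc, w0]
    · intro h; exact ka (σ.injective (h.trans s1.symm))
    · intro h; exact kb (σ.injective (h.trans s2.symm))
    · intro h; exact kc (σ.injective (h.trans s3.symm))
  apply B.all_roots_of_three (by rw [Nat.card_eq_fintype_card, hF]; norm_num) _ (by omega) _ v hv
  · intro h
    apply h2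
    linear_combination h5 - h
  · -- all triples
    intro i j k hij hik hjk z hz hz1
    have hsum : z i * z i + z j * z j + z k * z k = 1 := by
      rw [← hz1, dotProduct, ← Finset.sum_subset (Finset.subset_univ ({i, j, k} : Finset ι))]
      · rw [Finset.sum_insert (by simp [hij, hik]), Finset.sum_insert (by simp [hjk]),
          Finset.sum_singleton]
        ring
      · intro l _ hl
        rw [hz l hl, mul_zero]
    have hz' : ∀ l, l ≠ i → l ≠ j → l ≠ k → z l = 0 := fun l h1 h3 h4 => hz l (by simp [h1, h3, h4])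
    have h1n : (1 : F) ≠ 0 := one_ne_zero
    have single : ∀ i j k : ι, (∀ l, l ≠ i → l ≠ j → l ≠ k → z l = 0) → z i * z i = 1 → z j = 0 → z k = 0 →
        Root X z := by
      intro i j k hz' h1 h3 h4
      have hz0 : ∀ l, l ≠ i → z l = 0 := by
        intro l hl
        by_cases hj : l = j
        · rw [hj, h3]
        · by_cases hk : l = k
          · rw [hk, h4]
          · exact hz' l hl hj hk
      have h5' : z i = 1 ∨ z i = -1 := by
        rcases mul_self_eq_one_iff.1 h1 with h | h
        · exact Or.inl h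
        · exact Or.inr h
      rcases h5' with h | h
      · have : z = ee F i := by
          funext l
          by_cases hl : l = i
          · rw [hl, h, ee_same]
          · rw [hz0 l hl, ee_ne hl]
        rw [this]; exact B.root_ee i
      · have : z = - ee F i := by
          funext l
          rw [Pi.neg_apply]
          by_cases hl : l = i
          · rw [hl, h, ee_same]
          · rw [hz0 l hl, ee_ne hl, neg_zero]
        rw [this]; exact (B.root_ee i).neg
    have c1 : ∀ t : F, t = 0 → t * t = 0 := fun t ht => by rw [ht, mul_zero]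
    rcases hc (z i) with hi | hi | hi <;> rcases hc (z j) with hj | hj | hj <;>
      rcases hc (z k) with hk | hk | hk
    · exfalso; apply h1n; rw [← hsum, hi, hj, hk]; ring
    · exact single k i j (fun l h1 h3 h4 => hz' l h3 h4 h1) hk hi hj
    · exfalso; rw [hi, hj, hk] at hsum; apply h2; linear_combination -hsum
    · exact single j i k (fun l h1 h3 h4 => hz' l h3 h1 h4) hj hi hk
    · exfalso; rw [hi, hj, hk] at hsum; apply h1n; linear_combination hsum
    · exfalso; rw [hi, hj, hk] at hsum; apply h1n; linear_combination -hsum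
    · exfalso; rw [hi, hj, hk] at hsum; apply h2; linear_combination -hsum
    · exfalso; rw [hi, hj, hk] at hsum; apply h1n; linear_combination -hsum
    · exfalso; rw [hi, hj, hk] at hsum; apply h2; linear_combination h5 + hsum
    · exact single i j k hz' hi hj hk
    · exfalso; rw [hi, hj, hk] at hsum; apply h1n; linear_combination hsum
    · exfalso; rw [hi, hj, hk] at hsum; apply h1n; linear_combination -hsum
    · exfalso; rw [hi, hj, hk] at hsum; apply h1n; linear_combination hsum
    · exfalso; rw [hi, hj, hk] at hsum; apply h2; linear_combination hsum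
    · exact key z ⟨i, j, k, hij, hik, hjk, hi, hj, hk, hz'⟩
    · exfalso; rw [hi, hj, hk] at hsum; apply h1n; linear_combination -hsum
    · exact key z ⟨i, k, j, hik, hij, Ne.symm hjk, hi, hk, hj, fun l h1 h3 h4 => hz' l h1 h4 h3⟩
    · exfalso; rw [hi, hj, hk] at hsum; apply h2; linear_combination -hsum
    · exfalso; rw [hi, hj, hk] at hsum; apply h2; linear_combination -hsum
    · exfalso; rw [hi, hj, hk] at hsum; apply h1n; linear_combination -hsum
    · exfalso; rw [hi, hj, hk] at hsum; apply h2; linear_combination h5 + hsum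
    · exfalso; rw [hi, hj, hk] at hsum; apply h1n; linear_combination -hsum
    · exact key z ⟨j, k, i, hjk, Ne.symm hij, Ne.symm hik, hj, hk, hi, fun l h1 h3 h4 => hz' l h4 h1 h3⟩
    · exfalso; rw [hi, hj, hk] at hsum; apply h2; linear_combination -hsum
    · exfalso; rw [hi, hj, hk] at hsum; apply h2; linear_combination h5 + hsum
    · exfalso; rw [hi, hj, hk] at hsum; apply h2; linear_combination -hsum
    · exfalso; rw [hi, hj, hk] at hsum; apply h1n; linear_combination h5 + hsum

end

/-- **`p = 5`** -/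
theorem five (B : Base X) [Fintype F] (hF : Fintype.card F = 5) (hn : 7 ≤ Fintype.card ι) :
    (∀ u, Root X u → Supp2 u) ∨ (∀ u : ι → F, u ⬝ᵥ u = 1 → Root X u) := by
  obtain ⟨h5, hc⟩ := five_cases hF
  by_cases h : ∀ u, Root X u → Supp2 u
  · exact Or.inl h
  right
  push Not at h
  obtain ⟨u, hu, hu2⟩ := h
  have hne : Nonempty ι := Fintype.card_pos_iff.1 (by omega)
  have hsz3 : 3 ≤ sz u := by
    by_contra h
    exact hu2 (supp2_of_sz (by omega) hne)
  obtain ⟨w, hw, hw3⟩ : ∃ w, Root X w ∧ T3 w := by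
    rcases reduce h5 hc B hn hu hsz3 with ⟨w, hw, hw4⟩ | h
    · exact t3_of_t4 h5 B hn hw hw4
    · exact h
  exact all_of_t3 h5 hc B hF hn hw hw3

end Cfsg.Agent.H916.FrameFive
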