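import Cfsg.Agent.H928.FrameN
import Cfsg.Agent.H916.FrameIV
import Cfsg.Agent.H916.FrameOdd
import Cfsg.Agent.H916.FrameThree
import Cfsg.Agent.H916.FrameFive

/-!
# Orthogonal frames over prime fields in odd dimension `≥ 7`: the frame stabiliser is maximal in `Ω`
-/

set_option autoImplicit false

namespace Cfsg.Agent.H916.FrameSeven

open Matrix
open Cfsg.Agent.H928

variable {ι : Type*} [Fintype ι] [DecidableEq ι] {F : Type*} [Field F] [Fintype F]
variable {X : Subgroup ((ι → F) ≃ₗ[F] (ι → F))}

/-- the dichotomy for roots, all odd primes, all dimensions `≥ 7` -/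
theorem dichotomy_roots (B : Base X) (hp : (Fintype.card F).Prime) (hn : 7 ≤ Fintype.card ι) :
    (∀ u, Root X u → Supp2 u) ∨ (∀ u : ι → F, u ⬝ᵥ u = 1 → Root X u) := by
  have hcast : ((Fintype.card F : ℕ) : F) = 0 := FiniteField.cast_card_eq_zero F
  have key : ∀ r : ℕ, r.Prime → ((r : ℕ) : F) = 0 → Fintype.card F = r := by
    intro r hr h
    by_contra hne
    have hco : Nat.Coprime (Fintype.card F) r := (Nat.coprime_primes hp hr).2 hne
    have h1 : ((1 : ℕ) : F) = 0 := by
      have h2 := Nat.gcd_eq_gcd_ab (Fintype.card F) r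
      rw [hco] at h2
      have h3 := congrArg (Int.cast : ℤ → F) h2
      push_cast at h3
      rw [hcast, h, zero_mul, zero_mul, add_zero] at h3
      simpa using h3
    simp at h1
  by_cases h3 : (3 : F) = 0
  · exact FrameThree.three B (key 3 (by norm_num) (by exact_mod_cast h3)) (by omega)
  by_cases h5 : (5 : F) = 0
  · exact FrameFive.five B (key 5 (by norm_num) (by exact_mod_cast h5)) hn
  exact B.dich_seven hp rfl h3 h5 hn

theorem dichotomy_odd (B : Base X) (hp : (Fintype.card F).Prime) (hn : 7 ≤ Fintype.card ι)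
    (hodd : Odd (Fintype.card ι)) :
    (∀ g ∈ X, Mono g) ∨ (∀ u v : ι → F, u ⬝ᵥ u = 1 → v ⬝ᵥ v = 1 → rf u * rf v ∈ X) := by
  rcases dichotomy_roots B hp hn with h | h
  · left
    refine FrameOdd.mono_of_roots B (by omega) h hodd ?_
    by_cases h3 : (3 : F) = 0
    · right
      rintro ⟨a, ha⟩
      have hcard : Fintype.card F = 3 := by
        by_contra hne
        have hco : Nat.Coprime (Fintype.card F) 3 := (Nat.coprime_primes hp (by norm_num)).2 hne
        have h1 : ((1 : ℕ) : F) = 0 := by
          have h2 := Nat.gcd_eq_gcd_ab (Fintype.card F) 3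
          rw [hco] at h2
          have h3' := congrArg (Int.cast : ℤ → F) h2
          push_cast at h3'
          rw [FiniteField.cast_card_eq_zero F, h3, zero_mul, zero_mul, add_zero] at h3'
          simpa using h3'
        simp at h1
      obtain ⟨_, hc⟩ := FrameThree.three_cases hcard
      rcases hc a with h1 | h1 | h1
      · rw [h1, mul_zero] at ha; exact B.two ha
      · apply one_ne_zero (α := F)
        rw [h1] at ha
        linear_combination ha
      · apply one_ne_zero (α := F)
        rw [h1] at ha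
        linear_combination ha
    · exact Or.inl h3
  · right
    intro u v hu hv
    have hne : Nonempty ι := Fintype.card_pos_iff.1 (by omega)
    exact B.mul_mem_of_roots (h u hu) (h v hv)

/-- **Frames of 1-spaces over a prime field, odd dimension `≥ 7`.** -/
theorem frame_maximal_odd {ι : Type} [Fintype ι] [DecidableEq ι] {Q : (ι → F) → F}
    (hQ : Cfsg.Geo.IsNondegenerateQuadraticForm Q) (h2 : (2 : F) ≠ 0) (hp : (Fintype.card F).Prime)
    (hn : 7 ≤ Fintype.card ι) (hodd : Odd (Fintype.card ι)) {t : ℕ}
    {D : Fin t → Submodule F (ι → F)} (hD : Cfsg.Geo.IsOrthogonalMDecomposition Q 1 D) :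
    Cfsg.Geo.IsMaximalIn (Cfsg.Geo.omegaGL Q)
      (Cfsg.Geo.decompositionStabilizer D ⊓ Cfsg.Geo.omegaGL Q) := by
  refine FrameIV.frame_maximal hQ h2 (by omega) hD fun ht X B => ?_
  exact dichotomy_odd B hp (by rw [Fintype.card_fin, ht]; exact hn)
    (by rw [Fintype.card_fin, ht]; exact hodd)

end Cfsg.Agent.H916.FrameSeven
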