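import Cfsg.Agent.H916.T8

/-!
# Cores with simple group `Sp₆(2)` (dimension 8) or `Ω₈⁺(2)` contain `-1`
-/

set_option autoImplicit false
set_option linter.unusedSectionVars false
set_option linter.unusedVariables false

namespace Cfsg.Agent.H916.T8

open SpSix Om Halving Cfsg Cfsg.Agent.H915.LD Matrix Cfsg.Agent.LieClassical.OrthForms

universe u v

section core

variable {ι : Type} [Fintype ι] [DecidableEq ι] {F : Type u} [Field F] {P : Subgroup (GL ι F)} {T : Type v} [Group T]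

theorem neg_one_of_anti (hC : Core P) (e : Soc P ≃* T) {x y : T} (h : (coreRep hC e).AntiL x y) :
    (-1 : GL ι F) ∈ P := by
  obtain ⟨g, hg⟩ := toSoc_surjective P (e.symm x)
  obtain ⟨g', hg'⟩ := toSoc_surjective P (e.symm y)
  have h1 := mem_coreRep hC e g
  have h2 := mem_coreRep hC e g'
  rw [hg, MulEquiv.apply_symm_apply] at h1
  rw [hg', MulEquiv.apply_symm_apply] at h2
  have h3 := h _ h1 _ h2
  rw [← map_mul, ← map_mul] at h3
  have h4 : ((g * g' : P) : GL ι F) = -((g' * g : P) : GL ι F) := by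
    apply Units.ext
    ext i j
    have h5 := congrFun (LinearMap.congr_fun h3 (Pi.single j 1)) i
    rw [LinearMap.neg_apply, Pi.neg_apply, H911.Five.rep_apply, H911.Five.rep_apply] at h5
    simp only [Matrix.mulVec_single_one, Matrix.col_apply, Matrix.map_apply] at h5
    apply (algebraMap F (AlgebraicClosure F)).injective
    rw [Units.val_neg, Matrix.neg_apply, map_neg]
    exact h5
  have h5 : (-1 : GL ι F) = ((g * g' * (g' * g)⁻¹ : P) : GL ι F) := by
    rw [Subgroup.coe_mul, h4, Subgroup.coe_inv, neg_mul, mul_inv_cancel]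
  rw [h5]
  exact (g * g' * (g' * g)⁻¹).2

end core

section prep

variable {T k V : Type*} [Group T] [Field k] [IsAlgClosed k] [AddCommGroup V] [Module k V] [FiniteDimensional k V]
  (R : PRep T k V) {τ : ℕ → ℕ → T} (D : OmData τ) (h2 : (2 : k) ≠ 0) (hV : Module.finrank k V = 8)

include D h2 hV

theorem anti_of_comm (hc : R.CommL (τ n0 (lift 1)) (τ n0 (lift 2))) :
    R.AntiL (τ n0 (lift 1) * τ (lift 2) (lift 3)) (τ 17 21 * τ 25 29) := by
  have : Nontrivial V := Module.nontrivial_of_finrank_pos (R := k) (by rw [hV]; norm_num)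
  have hfin : Module.finrank k V ≤ 13 := by omega
  obtain ⟨Γ, hA⟩ := D.spData.exists_CA R hc
  have hl := hA.ne D.spData
  have FE := fanoE hA.cox hA.prod
  have hm : ∀ {v}, 0 < v → v < 64 → Ga Γ v ∈ R.L (τ n0 (lift v)) := fun h0 h => D.spData.ga_mem R hA.mem h0 h
  have hZ1 : Module.finrank k (ZZ (TT Γ)) = 1 := by
    have := finrank_eq h2 hfin FE hl
    omega
  have n17 : ns 17 := by decide
  have n21 : ns 21 := by decide
  have n25 : ns 25 := by decide
  have n29 : ns 29 := by decide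
  obtain ⟨Y, hY⟩ := R.ex (τ 17 21 * τ 25 29)
  have hYi := R.injective hY
  have hconj : ∀ {n m n' m' : ℕ}, ns n → ns m → rr 17 (rr 21 (rr 25 (rr 29 n))) = n' →
      rr 17 (rr 21 (rr 25 (rr 29 m))) = m' → (τ 17 21 * τ 25 29) * τ n m = τ n' m' * (τ 17 21 * τ 25 29) := by
    intro n m n' m' hn hm' e1 e2
    have h3 := D.conj n25 n29 hn hm'
    have h4 := D.conj n17 n21 (rr_ns n25 (rr_ns n29 hn)) (rr_ns n25 (rr_ns n29 hm'))
    rw [e1, e2, ← h3, ← D.inv n17 n21, ← D.inv n25 n29] at h4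
    rw [← h4]; group
  have dimT : ∀ {A : Module.End k V}, A * A = 1 →
      8 = Module.finrank k (eig ⊤ A 1) + Module.finrank k (eig ⊤ A (-1)) := by
    intro A hA
    have := finrank_add (W := ⊤) (A := A) (a := 1) h2 one_ne_zero (fun _ _ => trivial) (by
      rw [hA, mul_one, one_smul])
    rwa [finrank_top, hV] at this
  have hT : ∀ i : Fin 7, TT Γ i ∈ R.L (τ n0 (lift (i + 1))) := fun i => hm (Nat.succ_pos _) (by omega)
  have hTT : ∀ i j : Fin 7, ns (lift (i + 1)) → ns (lift (j + 1)) → bf n0 (lift (i + 1)) = false →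
      TT Γ i * TT Γ j ∈ R.L (τ (lift (i + 1)) (lift (j + 1))) := by
    intro i j ni nj oi
    have h := R.mul (hT i) (hT j)
    rw [D.symm ns_n0 ni oi, D.mul ni ns_n0 nj] at h
    exact h
  have sqT : ∀ i j : Fin 7, (TT Γ i * TT Γ j) * (TT Γ i * TT Γ j) = 1 := fun i j =>
    comm_sq (FE.sq i) (FE.sq j) (FE.comm i j)
  have l2 : ns (lift 2) := by decide
  have l3 : ns (lift 3) := by decide
  have l4 : ns (lift 4) := by decide
  have l5 : ns (lift 5) := by decide
  have l6 : ns (lift 6) := by decide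
  have l7 : ns (lift 7) := by decide
  have hA1 := hT 0
  have hB1 := hTT 3 4 l4 l5 (by decide)
  have hA2 := hTT 1 2 l2 l3 (by decide)
  have hB2 := hTT 5 6 l6 l7 (by decide)
  have d1 := finrank_plus h2 hfin FE hl 0
  have d2 := finrank_prod_minus h2 hfin FE hl (u := 3) (v := 4) (by decide)
  have d3 := finrank_prod_minus h2 hfin FE hl (u := 1) (v := 2) (by decide)
  have d4 := finrank_prod_minus h2 hfin FE hl (u := 5) (v := 6) (by decide)
  have s1 := dimT (FE.sq 0)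
  have s2 := dimT (sqT 3 4)
  have s3 := dimT (sqT 1 2)
  have s4 := dimT (sqT 5 6)
  have c1 : Y * TT Γ 0 = -((TT Γ 3 * TT Γ 4) * Y) := by
    rcases R.conj_lift hY hA1 (FE.sq 0) hB1 (sqT 3 4) (hconj ns_n0 (by decide) (by decide) (by decide)) with h | h
    · exfalso
      have := finrank_eig_conj (a := -1) hYi h
      omega
    · exact h
  have c2 : Y * (TT Γ 1 * TT Γ 2) = (TT Γ 5 * TT Γ 6) * Y := by
    rcases R.conj_lift hY hA2 (sqT 1 2) hB2 (sqT 5 6) (hconj l2 l3 (by decide) (by decide)) with h | h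
    · exact h
    · exfalso
      have h' : Y * (TT Γ 1 * TT Γ 2) = (-(TT Γ 5 * TT Γ 6)) * Y := by rw [h, neg_mul]
      have := finrank_eig_conj (a := 1) hYi h'
      rw [eig_neg] at this
      omega
  have hprod : (TT Γ 3 * TT Γ 4) * (TT Γ 5 * TT Γ 6) = TT Γ 0 * (TT Γ 1 * TT Γ 2) := by
    have hp := FE.prod
    have q0 := FE.sq 0
    have q1 := FE.sq 1
    have q2 := FE.sq 2
    have e01 := FE.comm 0 1
    have e02 := FE.comm 0 2
    have e12 := FE.comm 1 2
    have hX2 : (TT Γ 0 * (TT Γ 1 * TT Γ 2)) * (TT Γ 0 * (TT Γ 1 * TT Γ 2)) = 1 :=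
      comm_sq q0 (sqT 1 2) (Commute.mul_right e01 e02)
    have hp' : (TT Γ 0 * (TT Γ 1 * TT Γ 2)) * ((TT Γ 3 * TT Γ 4) * (TT Γ 5 * TT Γ 6)) = 1 := by
      rw [← hp]; simp only [mul_assoc]
    calc (TT Γ 3 * TT Γ 4) * (TT Γ 5 * TT Γ 6) =
        ((TT Γ 0 * (TT Γ 1 * TT Γ 2)) * (TT Γ 0 * (TT Γ 1 * TT Γ 2))) * ((TT Γ 3 * TT Γ 4) * (TT Γ 5 * TT Γ 6)) := by
          rw [hX2, one_mul]
      _ = (TT Γ 0 * (TT Γ 1 * TT Γ 2)) * ((TT Γ 0 * (TT Γ 1 * TT Γ 2)) * ((TT Γ 3 * TT Γ 4) * (TT Γ 5 * TT Γ 6))) := by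
          rw [mul_assoc (TT Γ 0 * (TT Γ 1 * TT Γ 2))]
      _ = _ := by rw [hp', mul_one]
  refine R.anti_of (R.mul hA1 hA2) hY ?_
  have h9 : Y * (TT Γ 0 * (TT Γ 1 * TT Γ 2)) = -((TT Γ 0 * (TT Γ 1 * TT Γ 2)) * Y) := by
    calc Y * (TT Γ 0 * (TT Γ 1 * TT Γ 2)) = (Y * TT Γ 0) * (TT Γ 1 * TT Γ 2) := by rw [mul_assoc]
      _ = -((TT Γ 3 * TT Γ 4) * (Y * (TT Γ 1 * TT Γ 2))) := by rw [c1, neg_mul, mul_assoc]
      _ = -(((TT Γ 3 * TT Γ 4) * (TT Γ 5 * TT Γ 6)) * Y) := by rw [c2, mul_assoc (TT Γ 3 * TT Γ 4)]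
      _ = _ := by rw [hprod]
  rw [h9, neg_neg]

end prep

section core

variable {ι : Type} [Fintype ι] [DecidableEq ι] {F : Type u} [Field F] {P : Subgroup (GL ι F)}
  {K : Type v} [Field K] [Fintype K]

/-- **`Sp₆(2)` in dimension 8: `-1 ∈ P`.** -/
theorem sp_neg (hK : Fintype.card K = 2) (hC : Core P) (e : Soc P ≃* PSp 3 K)
    (h2 : (2 : F) ≠ 0) (hn : Fintype.card ι = 8) : (-1 : GL ι F) ∈ P := by
  rcases core_sp hC e (spData (zero_or_one hK)) (spGen (zero_or_one hK)) h2 (by omega) with h | h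
  · omega
  · exact neg_one_of_anti hC e h.2

/-- **`Ω₈⁺(2)`: `-1 ∈ P`.** -/
theorem om_neg (hK : Fintype.card K = 2) (hC : Core P) (e : Soc P ≃* POmega K (quadFormPlus 4 K))
    (h2 : (2 : F) ≠ 0) (hn : Fintype.card ι ≤ 13) : (-1 : GL ι F) ∈ P := by
  have : Nonempty ι := hC.nonempty
  have h8 := omega_dim (zero_or_one hK) hC e h2 hn
  have h2' : (2 : AlgebraicClosure F) ≠ 0 := by
    intro h
    apply h2
    apply (algebraMap F (AlgebraicClosure F)).injective
    rw [map_zero, map_ofNat, h]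
  have hV : Module.finrank (AlgebraicClosure F) (ι → AlgebraicClosure F) = 8 := by
    rw [Module.finrank_fintype_fun_eq_card]; exact h8
  rw [← coe_plusForm] at e
  have D := omData (K := K) (zero_or_one hK)
  rcases D.spData.dichotomy (coreRep hC e) with hc | hc
  · exact neg_one_of_anti hC e (anti_of_comm (coreRep hC e) D h2' hV hc)
  · exact neg_one_of_anti hC e hc

end core

end Cfsg.Agent.H916.T8
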