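import Cfsg.Agent.H916.SpSixD

/-!
# `Ω₈⁺(2)`: products of two reflections, indexed by masks
-/

set_option autoImplicit false
set_option linter.unusedSectionVars false
set_option linter.unusedVariables false

namespace Cfsg.Agent.H916.Om

open SpSix

/-- the quadratic form on masks: bits 0-3 against bits 4-7 -/
def qf (v : ℕ) : Bool :=
  ((v.testBit 0 && v.testBit 4) ^^ (v.testBit 1 && v.testBit 5)) ^^
  ((v.testBit 2 && v.testBit 6) ^^ (v.testBit 3 && v.testBit 7))

/-- its polar form -/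
def bf (v w : ℕ) : Bool :=
  (((v.testBit 0 && w.testBit 4) ^^ (v.testBit 4 && w.testBit 0)) ^^
  ((v.testBit 1 && w.testBit 5) ^^ (v.testBit 5 && w.testBit 1))) ^^
  (((v.testBit 2 && w.testBit 6) ^^ (v.testBit 6 && w.testBit 2)) ^^
  ((v.testBit 3 && w.testBit 7) ^^ (v.testBit 7 && w.testBit 3)))

/-- reflection -/
def rr (y x : ℕ) : ℕ := if bf y x then y ^^^ x else x

/-- nonsingular masks -/
def ns (v : ℕ) : Prop := v < 256 ∧ qf v = true

instance (v : ℕ) : Decidable (ns v) := inferInstanceAs (Decidable (_ ∧ _))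

/-- the base point -/
def n0 : ℕ := 136

def emb (v : ℕ) : ℕ := (v &&& 7) ||| ((v >>> 3) <<< 4)

def lift (v : ℕ) : ℕ := if qf (emb v) then emb v else emb v ^^^ 136

theorem lift_ok : ∀ v : Fin 64, v ≠ 0 → ns (lift v) ∧ bf n0 (lift v) = false ∧ lift v ≠ n0 := by decide +kernel

theorem lift_rf : ∀ v w : Fin 64, v ≠ 0 → w ≠ 0 → rr (lift v) (lift w) = lift (rf v w) := by decide +kernel

theorem lift_bf : ∀ v w : Fin 64, v ≠ 0 → w ≠ 0 → bf (lift v) (lift w) = om v w := by decide +kernel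

theorem lift_surj : ∀ m : Fin 256, ns m → bf n0 m = false → (m : ℕ) ≠ n0 →
    ∃ v : Fin 64, v ≠ 0 ∧ lift v = m := by decide +kernel

theorem exists_mid : ∀ n m : Fin 256, ns n → ns m → bf n m = false →
    ∃ z : Fin 256, ns z ∧ bf n z = true ∧ bf z m = true := by
  have h : ((List.finRange 256).all fun n => (List.finRange 256).all fun m =>
      !(decide (ns n)) || (!(decide (ns m)) || (bf n m ||
        ((List.finRange 256).any fun z => decide (ns z) && (bf n z && bf z m))))) = true := by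
    decide +kernel
  intro n m hn hm hnm
  rw [List.all_eq_true] at h
  have h1 := h n (List.mem_finRange n)
  rw [List.all_eq_true] at h1
  have h2 := h1 m (List.mem_finRange m)
  rw [decide_eq_true hn, decide_eq_true hm, hnm] at h2
  simp only [Bool.not_true, Bool.false_or, List.any_eq_true, Bool.and_eq_true, decide_eq_true_eq] at h2
  obtain ⟨z, -, hz⟩ := h2
  exact ⟨z, hz⟩

theorem ns_n0 : ns n0 := by decide

theorem fano_check : ∀ x : Fin 256, rr n0 (rr (lift 1) (rr n0 (rr (lift 2) (rr n0 (rr (lift 3) (rr n0 (rr (lift 4)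
    (rr n0 (rr (lift 5) (rr n0 (rr (lift 6) (rr n0 (rr (lift 7) x))))))))))))) = x := by decide +kernel

section forms

theorem bf_comm (a b : ℕ) : bf a b = bf b a := by
  have key : ∀ x y z w : Bool, ((x && y) ^^ (z && w)) = ((w && z) ^^ (y && x)) := by decide
  unfold bf
  rw [key (a.testBit 0), key (a.testBit 1), key (a.testBit 2), key (a.testBit 3)]

theorem bf_self (a : ℕ) : bf a a = false := by
  unfold bf
  cases a.testBit 0 <;> cases a.testBit 1 <;> cases a.testBit 2 <;> cases a.testBit 3 <;>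
  cases a.testBit 4 <;> cases a.testBit 5 <;> cases a.testBit 6 <;> cases a.testBit 7 <;> rfl

theorem bf_xor (a b c : ℕ) : bf a (b ^^^ c) = (bf a b ^^ bf a c) := by
  have key : ∀ x y z w y' w' : Bool, ((x && (y ^^ y')) ^^ (z && (w ^^ w'))) =
    (((x && y) ^^ (z && w)) ^^ ((x && y') ^^ (z && w'))) := by decide
  have key2 : ∀ x y z w x' y' z' w' : Bool, (((x ^^ x') ^^ (y ^^ y')) ^^ ((z ^^ z') ^^ (w ^^ w'))) =
    (((x ^^ y) ^^ (z ^^ w)) ^^ ((x' ^^ y') ^^ (z' ^^ w'))) := by decide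
  unfold bf
  simp only [Nat.testBit_xor]
  rw [key (a.testBit 0), key (a.testBit 1), key (a.testBit 2), key (a.testBit 3), key2]

theorem qf_xor (b c : ℕ) : qf (b ^^^ c) = ((qf b ^^ qf c) ^^ bf b c) := by
  have key : ∀ x y x' y' : Bool, ((x ^^ x') && (y ^^ y')) = (((x && y) ^^ (x' && y')) ^^ ((x && y') ^^ (y && x'))) := by
    decide
  have key2 : ∀ a1 a2 a3 b1 b2 b3 c1 c2 c3 d1 d2 d3 : Bool,
    (((((a1 ^^ a2) ^^ a3) ^^ ((b1 ^^ b2) ^^ b3)) ^^ (((c1 ^^ c2) ^^ c3) ^^ ((d1 ^^ d2) ^^ d3)))) =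
    (((((a1 ^^ b1) ^^ (c1 ^^ d1)) ^^ ((a2 ^^ b2) ^^ (c2 ^^ d2))) ^^ ((a3 ^^ b3) ^^ (c3 ^^ d3)))) := by
    intro a1 a2 a3 b1 b2 b3 c1 c2 c3 d1 d2 d3
    cases a1 <;> cases a2 <;> cases a3 <;> cases b1 <;> cases b2 <;> cases b3 <;> revert c1 c2 c3 d1 d2 d3 <;> decide
  unfold qf bf
  simp only [Nat.testBit_xor]
  rw [key (b.testBit 0), key (b.testBit 1), key (b.testBit 2), key (b.testBit 3), key2]

theorem rr_lt {y x : ℕ} (hy : y < 256) (hx : x < 256) : rr y x < 256 := by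
  unfold rr
  split_ifs
  · exact Nat.xor_lt_two_pow (n := 8) hy hx
  · exact hx

theorem rr_ns {y x : ℕ} (hy : ns y) (hx : ns x) : ns (rr y x) := by
  refine ⟨rr_lt hy.1 hx.1, ?_⟩
  unfold rr
  split_ifs with h
  · rw [qf_xor, hy.2, hx.2, h]; rfl
  · exact hx.2

theorem rr_of_orth {y x : ℕ} (h : bf y x = false) : rr y x = x := by
  rw [rr, if_neg (by rw [h]; simp)]

theorem rr_of_not {y x : ℕ} (h : bf y x = true) : rr y x = y ^^^ x := by
  rw [rr, if_pos h]

theorem rr_self (y : ℕ) : rr y y = y := rr_of_orth (bf_self y)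

theorem bf_rr (y a b : ℕ) : bf (rr y a) (rr y b) = bf a b := by
  cases h1 : bf y a <;> cases h2 : bf y b
  · rw [rr_of_orth h1, rr_of_orth h2]
  · rw [rr_of_orth h1, rr_of_not h2, bf_xor, bf_comm a y, h1]; simp
  · rw [rr_of_not h1, rr_of_orth h2, bf_comm, bf_xor, bf_comm b y, h2, bf_comm b a]; simp
  · rw [rr_of_not h1, rr_of_not h2, bf_xor, bf_comm (y ^^^ a) y, bf_xor, bf_self, h1, bf_comm (y ^^^ a) b, bf_xor,
      bf_comm b y, h2, bf_comm b a]; simp

theorem rr_rr (y x : ℕ) : rr y (rr y x) = x := by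
  cases h : bf y x
  · rw [rr_of_orth h, rr_of_orth h]
  · rw [rr_of_not h, rr_of_not (by rw [bf_xor, bf_self, h]; rfl), ← Nat.xor_assoc, Nat.xor_self, Nat.zero_xor]

end forms

/-- the data: `τ n m` is the product of the reflections in `n` and `m` -/
structure OmData {T : Type*} [Group T] (τ : ℕ → ℕ → T) : Prop where
  mul : ∀ {n m y : ℕ}, ns n → ns m → ns y → τ n m * τ m y = τ n y
  cj : ∀ {n m y : ℕ}, ns n → ns m → ns y → τ m n * τ m y = τ (rr m n) y
  fano : τ n0 (lift 1) * τ n0 (lift 2) * τ n0 (lift 3) * τ n0 (lift 4) * τ n0 (lift 5) * τ n0 (lift 6) *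
    τ n0 (lift 7) = 1
  ne : τ n0 (lift 1) * τ n0 (lift 2) * τ n0 (lift 3) ≠ 1

section data

variable {T : Type*} [Group T] {τ : ℕ → ℕ → T} (D : OmData τ)

include D

theorem OmData.self {n : ℕ} (hn : ns n) : τ n n = 1 := by
  have h := D.mul hn hn hn
  exact mul_eq_left.1 h

theorem OmData.inv {n m : ℕ} (hn : ns n) (hm : ns m) : (τ n m)⁻¹ = τ m n := by
  rw [inv_eq_iff_mul_eq_one, D.mul hn hm hn, D.self hn]

theorem OmData.symm {n m : ℕ} (hn : ns n) (hm : ns m) (h : bf n m = false) : τ n m = τ m n := by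
  have h1 := D.cj (n := n) (m := m) (y := m) hn hm hm
  rw [D.self hm, mul_one, rr_of_orth (by rw [bf_comm]; exact h)] at h1
  exact h1.symm

theorem OmData.sq {n m : ℕ} (hn : ns n) (hm : ns m) (h : bf n m = false) : τ n m * τ n m = 1 := by
  nth_rewrite 2 [D.symm hn hm h]
  rw [D.mul hn hm hn, D.self hn]

/-- `t_a t_b t_n t_b = t_a t_{rr b n}` -/
theorem OmData.conjR {a b n : ℕ} (ha : ns a) (hb : ns b) (hn : ns n) : τ a b * τ n b = τ a (rr b n) := by
  have h := D.cj hn hb ha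
  have h2 := congrArg (·⁻¹) h
  simp only [mul_inv_rev] at h2
  rw [D.inv hb ha, D.inv hb hn, D.inv (rr_ns hb hn) ha] at h2
  exact h2

/-- conjugation -/
theorem OmData.conj {a b n m : ℕ} (ha : ns a) (hb : ns b) (hn : ns n) (hm : ns m) :
    τ a b * τ n m * τ b a = τ (rr a (rr b n)) (rr a (rr b m)) := by
  have hp := rr_ns hb hn
  have hq := rr_ns hb hm
  calc τ a b * τ n m * τ b a = (τ a b * τ n b) * (τ b m * τ b a) := by
        rw [← D.mul hn hb hm]; simp only [mul_assoc]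
    _ = τ a (rr b n) * τ (rr b m) a := by rw [D.conjR ha hb hn, D.cj hm hb ha]
    _ = (τ a (rr b n) * τ a a) * (τ a a * τ (rr b m) a) := by rw [D.self ha, mul_one, one_mul]
    _ = τ (rr a (rr b n)) a * τ a (rr a (rr b m)) := by rw [D.cj hp ha ha, D.conjR ha ha hq]
    _ = _ := D.mul (rr_ns ha hp) ha (rr_ns ha hq)

theorem OmData.spData : SpData (fun v => τ n0 (lift v)) where
  sq {v} h0 hv := by
    obtain ⟨h1, h2, -⟩ := lift_ok ⟨v, hv⟩ (by intro h; rw [Fin.ext_iff] at h; simp at h; omega)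
    exact D.sq ns_n0 h1 h2
  cj {v w} hv0 hv hw0 hw := by
    have hv' : (⟨v, hv⟩ : Fin 64) ≠ 0 := by intro h; rw [Fin.ext_iff] at h; simp at h; omega
    have hw' : (⟨w, hw⟩ : Fin 64) ≠ 0 := by intro h; rw [Fin.ext_iff] at h; simp at h; omega
    obtain ⟨h1, h2, -⟩ := lift_ok _ hv'
    obtain ⟨h3, h4, -⟩ := lift_ok _ hw'
    have h5 := lift_rf _ _ hv' hw'
    simp only at h1 h2 h3 h4 h5
    have h6 := D.conj ns_n0 h1 ns_n0 h3
    rw [← D.symm ns_n0 h1 h2, rr_of_orth (by rw [bf_comm]; exact h2 : bf (lift v) n0 = false), rr_self, h5,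
      rr_of_orth (x := lift (rf v w)) (y := n0)] at h6
    · exact h6
    · rw [← h5, show bf n0 (rr (lift v) (lift w)) = bf (rr (lift v) n0) (rr (lift v) (lift w)) by
        rw [rr_of_orth (by rw [bf_comm]; exact h2 : bf (lift v) n0 = false)], bf_rr, h4]
  fano := D.fano
  ne := D.ne

end data

end Cfsg.Agent.H916.Om
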