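import Cfsg.Agent.H916.SpEightC
import Cfsg.Agent.H916.OmA

/-!
# `Ω₈⁺(2)` in dimension eight, the anticommuting case: normalised lifts
-/

set_option autoImplicit false
set_option linter.unusedSectionVars false
set_option linter.unusedVariables false

namespace Cfsg.Agent.H916.Om

open SpSix SpEight Halving Pauli TreeTrace CliffTrace

section masks

def okz (z n : ℕ) : Bool := !(bf n z) && !(decide (z = n))

def candz : List ℕ := (List.range 256).filter fun z => decide (ns z) && okz z n0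

def nsl : List ℕ := (List.range 256).filter fun z => decide (ns z)

def chkz : Bool := nsl.all fun n => (candz.filter fun z => okz z n) |> fun l => nsl.all fun m => l.any fun z => okz z m

theorem chkz_ok : chkz = true := by decide +kernel

theorem mem_nsl {n : ℕ} (hn : ns n) : n ∈ nsl := by
  rw [nsl, List.mem_filter]
  exact ⟨List.mem_range.2 hn.1, decide_eq_true hn⟩

/-- a common orthogonal mask -/
theorem exists_z {n m : ℕ} (hn : ns n) (hm : ns m) :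
    ∃ z, ns z ∧ (bf n0 z = false ∧ z ≠ n0) ∧ (bf n z = false ∧ z ≠ n) ∧ (bf m z = false ∧ z ≠ m) := by
  have h := chkz_ok
  rw [chkz, List.all_eq_true] at h
  have h1 := h n (mem_nsl hn)
  rw [List.all_eq_true] at h1
  have h2 := h1 m (mem_nsl hm)
  rw [List.any_eq_true] at h2
  obtain ⟨z, hz, h3⟩ := h2
  rw [List.mem_filter, candz, List.mem_filter] at hz
  simp only [okz, Bool.and_eq_true, Bool.not_eq_true', decide_eq_true_eq, decide_eq_false_iff_not] at hz h3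
  exact ⟨z, hz.1.2.1, hz.1.2.2, hz.2, h3⟩

theorem rr_move {a b : ℕ} (ha : ns a) (hb : ns b) (h : bf a b = true) : ns (a ^^^ b) ∧ rr (a ^^^ b) a = b := by
  refine ⟨⟨Nat.xor_lt_two_pow (n := 8) ha.1 hb.1, by rw [qf_xor, ha.2, hb.2, h]; rfl⟩, ?_⟩
  rw [rr_of_not (by rw [bf_comm, bf_xor, bf_self, h]; rfl), Nat.xor_comm a b, Nat.xor_assoc, Nat.xor_self,
    Nat.xor_zero]

theorem exists_move {n : ℕ} (hn : ns n) : ∃ x y, ns x ∧ ns y ∧ rr x (rr y n0) = n := by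
  by_cases h : n = n0
  · exact ⟨n0, n0, ns_n0, ns_n0, by rw [rr_self, rr_self, h]⟩
  cases h1 : bf n0 n
  · obtain ⟨z, hz, h2, h3⟩ := exists_mid ⟨n0, ns_n0.1⟩ ⟨n, hn.1⟩ ns_n0 hn h1
    obtain ⟨a1, a2⟩ := rr_move ns_n0 hz h2
    obtain ⟨b1, b2⟩ := rr_move hz hn h3
    exact ⟨_, _, b1, a1, by rw [a2, b2]⟩
  · obtain ⟨a1, a2⟩ := rr_move ns_n0 hn h1
    exact ⟨_, n0, a1, ns_n0, by rw [rr_self, a2]⟩

end masks

section PR

variable {T k V : Type*} [Group T] [Field k] [AddCommGroup V] [Module k V] (R : PRep T k V)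

theorem exists_unit (g : T) : ∃ G ∈ R.L g, ∃ G' ∈ R.L g⁻¹, G * G' = 1 ∧ G' * G = 1 := by
  obtain ⟨G, hG⟩ := R.ex g
  obtain ⟨G0, hG0⟩ := R.ex g⁻¹
  have h1 := R.mul hG0 hG
  rw [inv_mul_cancel] at h1
  have h2 := R.mul hG hG0
  rw [mul_inv_cancel] at h2
  obtain ⟨c, hc, h1⟩ := R.one h1
  obtain ⟨d, hd, h2⟩ := R.one h2
  have h3 : d • G = c • G := by
    calc d • G = (G * G0) * G := by rw [h2, smul_mul_assoc, one_mul]
      _ = G * (G0 * G) := by rw [mul_assoc]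
      _ = c • G := by rw [h1, mul_smul_comm, mul_one]
  have h4 : d • (1 : Module.End k V) = c • 1 := by
    have h5 : d • (G * G0) = c • (G * G0) := by rw [← smul_mul_assoc, h3, smul_mul_assoc]
    rw [h2, smul_smul, smul_smul, mul_comm c d, mul_smul, mul_smul] at h5
    exact smul_right_injective _ hd h5
  refine ⟨G, hG, c⁻¹ • G0, R.smul (inv_ne_zero hc) hG0, ?_, ?_⟩
  · rw [mul_smul_comm, h2, h4, smul_smul, inv_mul_cancel₀ hc, one_smul]
  · rw [smul_mul_assoc, h1, smul_smul, inv_mul_cancel₀ hc, one_smul]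

theorem inv_mem {s : T} {X Y : Module.End k V} (hX : X ∈ R.L s) (h : X * Y = 1) : Y ∈ R.L s⁻¹ := by
  obtain ⟨B, hB⟩ := R.ex s⁻¹
  have h1 := R.mul hB hX
  rw [inv_mul_cancel] at h1
  obtain ⟨c, hc, h1⟩ := R.one h1
  have h2 : B = c • Y := by
    calc B = (B * X) * Y := by rw [mul_assoc, h, mul_one]
      _ = c • Y := by rw [h1, smul_mul_assoc, one_mul]
  have h3 : Y = c⁻¹ • B := by rw [h2, smul_smul, inv_mul_cancel₀ hc, one_smul]
  rw [h3]
  exact R.smul (inv_ne_zero hc) hB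

/-- involutive lifts have scalar anticommutators -/
def SC (s t : T) : Prop :=
  ∀ A ∈ R.L s, ∀ B ∈ R.L t, A * A = 1 → B * B = 1 → ∃ c ∈ (⊥ : Subfield k), A * B + B * A = c • 1

theorem SC.conj {g s t : T} (h : SC R (g * s * g⁻¹) (g * t * g⁻¹)) : SC R s t := by
  intro A hA B hB hA2 hB2
  obtain ⟨G, hG, G', hG', h1, h2⟩ := exists_unit R g
  have hp : ∀ Y Z : Module.End k V, (G * Y * G') * (G * Z * G') = G * (Y * Z) * G' := by
    intro Y Z
    calc (G * Y * G') * (G * Z * G') = G * Y * (G' * G) * Z * G' := by simp only [mul_assoc]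
      _ = _ := by rw [h2, mul_one]; simp only [mul_assoc]
  obtain ⟨c, hc, h3⟩ := h _ (R.mul (R.mul hG hA) hG') _ (R.mul (R.mul hG hB) hG') (by rw [hp, hA2, mul_one, h1])
    (by rw [hp, hB2, mul_one, h1])
  refine ⟨c, hc, ?_⟩
  rw [hp, hp, ← add_mul, ← mul_add] at h3
  calc A * B + B * A = (G' * G) * (A * B + B * A) * (G' * G) := by rw [h2, mul_one, one_mul]
    _ = G' * (G * (A * B + B * A) * G') * G := by simp only [mul_assoc]
    _ = c • 1 := by rw [h3, mul_smul_comm, mul_one, smul_mul_assoc, h2]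

/-- normalised lifts are unique up to sign -/
theorem norm_unique {s : T} (hs : s ≠ 1) {X Y X' Y' : Module.End k V} {c c' : k} (hX : X ∈ R.L s) (hX' : X' ∈ R.L s)
    (h1 : X * Y = 1) (h2 : Y * X = 1) (h1' : X' * Y' = 1) (hc : X + Y = c • 1) (hc' : X' + Y' = c' • 1) :
    ∃ ε : k, (ε = 1 ∨ ε = -1) ∧ X' = ε • X ∧ Y' = ε • Y := by
  obtain ⟨α, hα, h⟩ := R.prop_of hX' hX
  have hY' : Y' = α⁻¹ • Y := by
    calc Y' = α⁻¹ • (α • Y' : Module.End k V) := by rw [smul_smul, inv_mul_cancel₀ hα, one_smul]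
      _ = α⁻¹ • ((Y * (α • X)) * Y') := by rw [mul_smul_comm, h2, smul_mul_assoc, one_mul]
      _ = α⁻¹ • Y := by rw [← h, mul_assoc, h1', mul_one]
  have hY : Y = c • 1 - X := by rw [← hc]; abel
  have h3 : (α - α⁻¹) • X = (c' - α⁻¹ * c) • 1 := by
    have h4 : α • X + α⁻¹ • (c • 1 - X) = c' • 1 := by rw [← hc', h, hY', hY]
    rw [sub_smul, sub_smul, ← h4, mul_smul, smul_sub]
    abel
  have h5 : α - α⁻¹ = 0 := by
    by_contra h5
    apply hs
    apply R.inj (c := (α - α⁻¹)⁻¹ * (c' - α⁻¹ * c))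
    rw [mul_smul, ← h3, smul_smul, inv_mul_cancel₀ h5, one_smul]
    exact hX
  have h6 : α * α = 1 := by
    have : α = α⁻¹ := sub_eq_zero.1 h5
    nth_rewrite 2 [this]
    exact mul_inv_cancel₀ hα
  have h7 : α⁻¹ = α := (sub_eq_zero.1 h5).symm
  exact ⟨α, mul_self_eq_one_iff.1 h6, h, by rw [hY', h7]⟩

theorem norm_zero {s : T} (hs : s ≠ 1) (hs2 : s * s = 1) {X Y : Module.End k V} {c : k} (hX : X ∈ R.L s)
    (h1 : X * Y = 1) (hc : X + Y = c • 1) : c = 0 := by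
  have h2 := R.mul hX hX
  rw [hs2] at h2
  obtain ⟨d, -, h2⟩ := R.one h2
  have h3 : c • X = (d + 1) • 1 := by
    calc c • X = X * (X + Y) := by rw [hc, mul_smul_comm, mul_one]
      _ = (d + 1) • 1 := by rw [mul_add, h2, h1, add_smul, one_smul]
  by_contra h0
  apply hs
  apply R.inj (c := c⁻¹ * (d + 1))
  rw [mul_smul, ← h3, smul_smul, inv_mul_cancel₀ h0, one_smul]
  exact hX

end PR

section Sp

variable {T k V : Type*} [Group T] [Field k] [IsAlgClosed k] [AddCommGroup V] [Module k V] (R : PRep T k V)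
  {t : ℕ → T} (D : SpData t)

include D in
theorem eq_path (l : List ℕ) (hl : ∀ x ∈ l, 0 < x ∧ x < 64) : ∀ {v w : ℕ}, 0 < v → v < 64 → 0 < w →
    w < 64 → t v = t w → t (act l v) = t (act l w) := by
  induction l with
  | nil => intro v w _ _ _ _ h; exact h
  | cons x l ih =>
    intro v w hv0 hv hw0 hw h
    obtain ⟨hx0, hx⟩ := hl x List.mem_cons_self
    exact ih (fun y hy => hl y (List.mem_cons_of_mem _ hy)) (rf_pos hv0) (rf_lt hx hv) (rf_pos hw0)
      (rf_lt hx hw) (by rw [← D.cj hx0 hx hv0 hv, ← D.cj hx0 hx hw0 hw, h])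

include D in
theorem inj_of_anti [Nontrivial V] (h2 : (2 : k) ≠ 0) (hc : R.AntiL (t 1) (t 2)) {v w : ℕ} (hv0 : 0 < v)
    (hv : v < 64) (hw0 : 0 < w) (hw : w < 64) (hvw : v ≠ w) : t v ≠ t w := by
  intro h
  by_cases ho : om v w = true
  · obtain ⟨q1, q2, q3⟩ := pth8_ok ⟨v, hv⟩ ⟨w, hw⟩ (by rw [Ne, Fin.ext_iff]; simp; omega)
      (by rw [Ne, Fin.ext_iff]; simp; omega) ho
    simp only at q1 q2 q3
    rw [List.all_eq_true] at q3
    have h3 := eq_path D (pth8 v w) (fun x hx => by simpa using q3 x hx) hv0 hv hw0 hw h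
    rw [q1, q2] at h3
    exact ne_of_anti R D h2 hc h3
  · rw [Bool.not_eq_true] at ho
    obtain ⟨A, hA, hA2⟩ := R.exists_inv (D.sq hv0 hv)
    have h6 := D.anti_all R hc hv0 hv hw0 hw hvw ho A hA A (by rw [← h]; exact hA)
    rw [hA2] at h6
    have h7 : (2 : k) • (1 : Module.End k V) = (0 : k) • 1 := by
      rw [two_smul, zero_smul]
      nth_rewrite 1 [h6]
      abel
    exact h2 (smul_one_inj h7)

end Sp

section main

variable {T k V : Type*} [Group T] [Field k] [IsAlgClosed k] [AddCommGroup V] [Module k V] [FiniteDimensional k V]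
  (R : PRep T k V) {τ : ℕ → ℕ → T} (D : OmData τ) (h2 : (2 : k) ≠ 0) (hV : Module.finrank k V = 8)
  (hc : R.AntiL (τ n0 (lift 1)) (τ n0 (lift 2)))

include D h2 hV hc

theorem OmData.pair0 {n m : ℕ} (hn : ns n) (hm : ns m) (on : bf n0 n = false) (om' : bf n0 m = false)
    (hn0 : n ≠ n0) (hm0 : m ≠ n0) : SC R (τ n0 n) (τ n0 m) ∧ (n ≠ m → τ n0 n ≠ τ n0 m) := by
  have : Nontrivial V := Module.nontrivial_of_finrank_pos (R := k) (by rw [hV]; norm_num)
  obtain ⟨v, hv0, hv⟩ := lift_surj ⟨n, hn.1⟩ hn on hn0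
  obtain ⟨w, hw0, hw⟩ := lift_surj ⟨m, hm.1⟩ hm om' hm0
  simp only at hv hw
  subst hv hw
  have hv1 : 0 < (v : ℕ) := Nat.pos_of_ne_zero (fun h => hv0 (Fin.ext h))
  have hw1 : 0 < (w : ℕ) := Nat.pos_of_ne_zero (fun h => hw0 (Fin.ext h))
  refine ⟨?_, fun hne => inj_of_anti R D.spData h2 hc hv1 v.2 hw1 w.2 (fun h => hne (by rw [h]))⟩
  intro A hA B hB hA2 hB2
  by_cases hvw : v = w
  · subst hvw
    rcases R.unique hA hB hA2 hB2 with h | h
    · exact ⟨2, ofNat_mem _ 2, by rw [h, hB2, two_smul]⟩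
    · refine ⟨-2, neg_mem (ofNat_mem _ 2), ?_⟩
      rw [h, neg_mul, mul_neg, hB2]
      module
  by_cases ho : SpSix.om v w = true
  · rcases na_all R D.spData h2 hV hc hv1 v.2 hw1 w.2 ho A hA B hB hA2 hB2 with h | h
    · exact ⟨1, one_mem _, by rw [h, one_smul]⟩
    · exact ⟨-1, neg_mem (one_mem _), by rw [h, neg_one_smul]⟩
  · rw [Bool.not_eq_true] at ho
    refine ⟨0, zero_mem _, ?_⟩
    rw [D.spData.anti_all R hc hv1 v.2 hw1 w.2 (fun h => hvw (Fin.ext h)) ho A hA B hB, zero_smul]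
    abel

theorem OmData.pair {z n m : ℕ} (hz : ns z) (hn : ns n) (hm : ns m) (on : bf z n = false) (om' : bf z m = false)
    (hnz : n ≠ z) (hmz : m ≠ z) : SC R (τ z n) (τ z m) ∧ (n ≠ m → τ z n ≠ τ z m) := by
  obtain ⟨x, y, hx, hy, hxy⟩ := exists_move hz
  have key : ∀ {n : ℕ}, ns n → bf z n = false → n ≠ z → ns (rr y (rr x n)) ∧ bf n0 (rr y (rr x n)) = false ∧
      rr y (rr x n) ≠ n0 ∧ τ z n = τ x y * τ n0 (rr y (rr x n)) * (τ x y)⁻¹ := by
    intro n hn on hnz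
    have h1 : rr x (rr y (rr y (rr x n))) = n := by rw [rr_rr, rr_rr]
    have h3 := rr_ns hy (rr_ns hx hn)
    refine ⟨h3, ?_, ?_, ?_⟩
    · rw [← bf_rr y, ← bf_rr x, hxy, h1, on]
    · intro h
      rw [h, hxy] at h1
      exact hnz h1.symm
    · rw [D.inv hx hy, D.conj hx hy ns_n0 h3, h1, hxy]
  obtain ⟨n1, n2, n3, n4⟩ := key hn on hnz
  obtain ⟨m1, m2, m3, m4⟩ := key hm om' hmz
  obtain ⟨p1, p2⟩ := D.pair0 R h2 hV hc n1 m1 n2 m2 n3 m3
  constructor
  · apply SC.conj R (g := (τ x y)⁻¹)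
    rw [n4, m4]
    have : ∀ s : T, (τ x y)⁻¹ * (τ x y * s * (τ x y)⁻¹) * (τ x y)⁻¹⁻¹ = s := by intro s; group
    rw [this, this]
    exact p1
  · intro hnm h
    rw [n4, m4] at h
    refine p2 (fun h' => hnm ?_) (mul_left_cancel (mul_right_cancel h))
    have h3 := congrArg (fun a => rr x (rr y a)) h'
    simpa only [rr_rr] using h3

theorem OmData.ne_one {n m : ℕ} (hn : ns n) (hm : ns m) (hnm : n ≠ m) : τ n m ≠ 1 := by
  obtain ⟨z, hz, -, ⟨a1, a2⟩, b1, b2⟩ := exists_z hn hm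
  have h := (D.pair R h2 hV hc hz hn hm (by rw [bf_comm]; exact a1) (by rw [bf_comm]; exact b1) (Ne.symm a2)
    (Ne.symm b2)).2 hnm
  intro h1
  apply h
  rw [← D.mul hz hn hm, h1, mul_one]

/-- normalised lifts -/
theorem OmData.exists_norm {n : ℕ} (hn : ns n) : ∃ A A' : Module.End k V, A ∈ R.L (τ n n0) ∧ A * A' = 1 ∧ A' * A = 1 ∧
    (∃ c : k, A + A' = c • 1) ∧ (n = n0 → A = 1 ∧ A' = 1) := by
  by_cases h : n = n0
  · refine ⟨1, 1, ?_, mul_one _, mul_one _, ⟨2, by rw [two_smul]⟩, fun _ => ⟨rfl, rfl⟩⟩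
    rw [h, D.self ns_n0]
    obtain ⟨A, hA⟩ := R.ex 1
    obtain ⟨c, hc, rfl⟩ := R.one hA
    have := R.smul (inv_ne_zero hc) hA
    rwa [smul_smul, inv_mul_cancel₀ hc, one_smul] at this
  · obtain ⟨z, hz, ⟨c1, c2⟩, ⟨a1, a2⟩, -⟩ := exists_z hn hn
    rw [bf_comm] at c1 a1
    obtain ⟨a, ha, ha2⟩ := R.exists_inv (D.sq hz hn a1)
    obtain ⟨b, hb, hb2⟩ := R.exists_inv (D.sq hz ns_n0 c1)
    have h1 := R.mul ha hb
    rw [D.symm hz hn a1, D.mul hn hz ns_n0] at h1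
    obtain ⟨c, -, hcc⟩ := (D.pair R h2 hV hc hz hn ns_n0 a1 c1 (Ne.symm a2) (Ne.symm c2)).1 a ha b hb ha2 hb2
    refine ⟨a * b, b * a, h1, ?_, ?_, ⟨c, hcc⟩, fun h' => absurd h' h⟩
    · calc (a * b) * (b * a) = a * (b * b) * a := by simp only [mul_assoc]
        _ = 1 := by rw [hb2, mul_one, ha2]
    · calc (b * a) * (a * b) = b * (a * a) * b := by simp only [mul_assoc]
        _ = 1 := by rw [ha2, mul_one, hb2]

/-- normalised lifts as products -/
theorem OmData.norm_eq {n z : ℕ} (hn : ns n) (hz : ns z) (oz : bf z n = false) (oz0 : bf z n0 = false) (hnz : n ≠ z)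
    (hz0 : n0 ≠ z) {A A' a b : Module.End k V} (hA : A ∈ R.L (τ n n0)) (h1 : A * A' = 1) (h1' : A' * A = 1)
    (hs : ∃ c : k, A + A' = c • 1) (h0 : n = n0 → A = 1 ∧ A' = 1) (ha : a ∈ R.L (τ z n)) (hb : b ∈ R.L (τ z n0))
    (ha2 : a * a = 1) (hb2 : b * b = 1) : ∃ ε : k, (ε = 1 ∨ ε = -1) ∧ A = ε • (a * b) ∧ A' = ε • (b * a) := by
  have : Nontrivial V := Module.nontrivial_of_finrank_pos (R := k) (by rw [hV]; norm_num)
  by_cases h : n = n0
  · obtain ⟨e1, e2⟩ := h0 h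
    subst h
    rcases R.unique ha hb ha2 hb2 with h3 | h3
    · exact ⟨1, Or.inl rfl, by rw [e1, h3, hb2, one_smul], by rw [e2, h3, hb2, one_smul]⟩
    · exact ⟨-1, Or.inr rfl, by rw [e1, h3, neg_mul, hb2, neg_one_smul, neg_neg],
        by rw [e2, h3, mul_neg, hb2, neg_one_smul, neg_neg]⟩
  · obtain ⟨c, hcc⟩ := hs
    have h3 := R.mul ha hb
    rw [D.symm hz hn oz, D.mul hn hz ns_n0] at h3
    obtain ⟨c', -, hcc'⟩ := (D.pair R h2 hV hc hz hn ns_n0 oz oz0 hnz hz0).1 a ha b hb ha2 hb2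
    exact norm_unique R (D.ne_one R h2 hV hc hn ns_n0 h) h3 hA
      (by
        calc (a * b) * (b * a) = a * (b * b) * a := by simp only [mul_assoc]
          _ = 1 := by rw [hb2, mul_one, ha2])
      (by
        calc (b * a) * (a * b) = b * (a * a) * b := by simp only [mul_assoc]
          _ = 1 := by rw [ha2, mul_one, hb2]) h1 hcc' hcc

/-- **Scalar anticommutators of normalised lifts.** -/
theorem OmData.norm_pair {n m : ℕ} (hn : ns n) (hm : ns m) {A A' B B' : Module.End k V}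
    (hA : A ∈ R.L (τ n n0)) (h1 : A * A' = 1) (h1' : A' * A = 1)
    (hs : ∃ c : k, A + A' = c • 1) (h0 : n = n0 → A = 1 ∧ A' = 1)
    (hB : B ∈ R.L (τ m n0)) (g1 : B * B' = 1) (g1' : B' * B = 1)
    (gs : ∃ c : k, B + B' = c • 1) (g0 : m = n0 → B = 1 ∧ B' = 1) :
    ∃ c ∈ (⊥ : Subfield k), A * B' + B * A' = c • 1 ∧ A' * B + B' * A = c • 1 := by
  obtain ⟨z, hz, ⟨c1, c2⟩, ⟨a1, a2⟩, b1, b2⟩ := exists_z hn hm
  rw [bf_comm] at c1 a1 b1
  obtain ⟨a, ha, ha2⟩ := R.exists_inv (D.sq hz hn a1)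
  obtain ⟨b, hb, hb2⟩ := R.exists_inv (D.sq hz ns_n0 c1)
  obtain ⟨d, hd, hd2⟩ := R.exists_inv (D.sq hz hm b1)
  obtain ⟨ε, hε, e1, e2⟩ := D.norm_eq R h2 hV hc hn hz a1 c1 (Ne.symm a2) (Ne.symm c2) hA h1 h1' hs h0 ha hb ha2 hb2
  obtain ⟨δ, hδ, f1, f2⟩ := D.norm_eq R h2 hV hc hm hz b1 c1 (Ne.symm b2) (Ne.symm c2) hB g1 g1' gs g0 hd hb hd2 hb2
  obtain ⟨c, hcm, hcc⟩ := (D.pair R h2 hV hc hz hn hm a1 b1 (Ne.symm a2) (Ne.symm b2)).1 a ha d hd ha2 hd2
  have hm' : ε * δ * c ∈ (⊥ : Subfield k) := by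
    apply mul_mem _ hcm
    rcases hε with rfl | rfl <;> rcases hδ with rfl | rfl
    · rw [mul_one]; exact one_mem _
    · rw [one_mul]; exact neg_mem (one_mem _)
    · rw [mul_one]; exact neg_mem (one_mem _)
    · rw [neg_mul_neg, mul_one]; exact one_mem _
  refine ⟨ε * δ * c, hm', ?_, ?_⟩
  · rw [e1, e2, f1, f2, smul_mul_smul_comm, smul_mul_smul_comm, mul_comm δ ε, ← smul_add,
      show a * b * (b * d) = a * (b * b) * d by simp only [mul_assoc],
      show d * b * (b * a) = d * (b * b) * a by simp only [mul_assoc], hb2, mul_one, mul_one, hcc, smul_smul]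
  · rw [e1, e2, f1, f2, smul_mul_smul_comm, smul_mul_smul_comm, mul_comm δ ε, ← smul_add,
      show b * a * (d * b) + b * d * (a * b) = b * (a * d + d * a) * b by
        simp only [mul_add, add_mul, mul_assoc], hcc, mul_smul_comm, mul_one, smul_mul_assoc, hb2, smul_smul]

end main

end Cfsg.Agent.H916.Om
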