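import Cfsg.Agent.H916.OmE
import Cfsg.Agent.H916.OmD

/-!
# Doubling: traces of even words in the half-spin module
-/

set_option autoImplicit false
set_option linter.unusedSectionVars false
set_option linter.unusedVariables false

namespace Cfsg.Agent.H916.Dbl

open TreeTrace CliffTrace
open scoped commutatorElement

section perfect

variable {k V : Type*} [Field k] [AddCommGroup V] [Module k V]

/-- a perfect group of scalar multiples of elements of a group of operators -/
theorem mem_of_perfect {L : Type*} [Group L] (ρ : L →* Module.End k V) (hperf : commutator L = ⊤)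
    (W : Submonoid (Module.End k V)) (hinv : ∀ x ∈ W, ∃ y ∈ W, x * y = 1 ∧ y * x = 1)
    (h : ∀ g, ∃ c : k, c ≠ 0 ∧ ∃ x ∈ W, ρ g = c • x) : ∀ g, ρ g ∈ W := by
  have hi : ∀ {g : L} {c : k} {x y : Module.End k V}, c ≠ 0 → ρ g = c • x → x * y = 1 → ρ g⁻¹ = c⁻¹ • y := by
    intro g c x y hc hg hxy
    have h1 : ρ g⁻¹ * ρ g = 1 := by rw [← map_mul, inv_mul_cancel, map_one]
    calc ρ g⁻¹ = c⁻¹ • (ρ g⁻¹ * (c • x)) * y := by
          rw [mul_smul_comm, smul_smul, inv_mul_cancel₀ hc, one_smul, mul_assoc, hxy, mul_one]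
      _ = c⁻¹ • y := by rw [← hg, h1, smul_mul_assoc, one_mul]
  let H : Subgroup L :=
    { carrier := {g | ρ g ∈ W}
      mul_mem' := by
        intro a b ha hb
        show ρ (a * b) ∈ W
        rw [map_mul]; exact W.mul_mem ha hb
      one_mem' := by
        show ρ 1 ∈ W
        rw [map_one]; exact W.one_mem
      inv_mem' := by
        intro a ha
        obtain ⟨y, hy, h1, -⟩ := hinv _ ha
        show ρ a⁻¹ ∈ W
        rw [hi (c := 1) one_ne_zero (one_smul _ _).symm h1, inv_one, one_smul]
        exact hy }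
  have hH : commutator L ≤ H := by
    rw [commutator_def, Subgroup.commutator_le]
    intro a _ b _
    obtain ⟨c, hc, x, hx, e⟩ := h a
    obtain ⟨c', hc', x', hx', e'⟩ := h b
    obtain ⟨y, hy, h1, -⟩ := hinv _ hx
    obtain ⟨y', hy', h1', -⟩ := hinv _ hx'
    show ρ ⁅a, b⁆ ∈ W
    rw [commutatorElement_def, map_mul, map_mul, map_mul, hi hc e h1, hi hc' e' h1', e, e']
    simp only [smul_mul_assoc, mul_smul_comm, smul_smul]
    rw [show c'⁻¹ * (c⁻¹ * (c' * c)) = 1 by field_simp, one_smul]
    exact W.mul_mem (W.mul_mem (W.mul_mem hx hx') hy) hy'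
  intro g
  have : g ∈ H := hH (by rw [hperf]; trivial)
  exact this

end perfect

section anti

variable {M κ : Type*} [Ring M] {S : κ → M}

theorem mv_anti {i : κ} (l : List κ) (h : ∀ j ∈ l, S i * S j = -(S j * S i)) :
    pS S l * S i = (-1) ^ l.length * (S i * pS S l) := by
  induction l with
  | nil => rw [pS, List.length_nil, pow_zero, one_mul, one_mul, mul_one]
  | cons j l ih =>
    rw [pS, mul_assoc, ih (fun j hj => h j (List.mem_cons_of_mem _ hj)), List.length_cons, pow_succ,
      ← mul_assoc (S i) (S j), h j List.mem_cons_self, ← mul_assoc (S j),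
      (Commute.neg_one_right (S j)).pow_right l.length |>.eq]
    simp only [mul_assoc, neg_mul, mul_neg, one_mul, neg_neg]

theorem sq_anti (hS : ∀ i, S i * S i = 1) (l : List κ) (h : l.Pairwise fun i j => S i * S j = -(S j * S i)) :
    ∃ n : ℕ, 2 * n + l.length = l.length * l.length ∧ pS S l * pS S l = (-1) ^ n := by
  induction l with
  | nil => exact ⟨0, rfl, by rw [pS, one_mul, pow_zero]⟩
  | cons i l ih =>
    rw [List.pairwise_cons] at h
    obtain ⟨n, hn, h1⟩ := ih h.2
    refine ⟨l.length + n, by rw [List.length_cons]; linarith, ?_⟩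
    rw [pS]
    calc S i * pS S l * (S i * pS S l) = S i * (pS S l * S i) * pS S l := by simp only [mul_assoc]
      _ = (-1) ^ l.length * (S i * S i) * (pS S l * pS S l) := by
        rw [mv_anti l h.1, ← mul_assoc (S i), (Commute.neg_one_right (S i)).pow_right l.length |>.eq]
        simp only [mul_assoc]
      _ = _ := by rw [hS, mul_one, h1, pow_add]

end anti

section double

variable {k V κ : Type*} [Field k] [AddCommGroup V] [Module k V] (A A' : κ → Module.End k V)

/-- doubled operator -/
def rho (i : κ) : Module.End k (V × V) :=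
  LinearMap.prod ((A i).comp (LinearMap.snd k V V)) ((A' i).comp (LinearMap.fst k V V))

theorem rho_mul (i j : κ) : rho A A' i * rho A A' j = LinearMap.prodMap (A i * A' j) (A' i * A j) := rfl

theorem prodMap_mul (X Y X' Y' : Module.End k V) :
    (LinearMap.prodMap X Y * LinearMap.prodMap X' Y' : Module.End k (V × V)) = LinearMap.prodMap (X * X') (Y * Y') := rfl

theorem prodMap_one : (LinearMap.prodMap 1 1 : Module.End k (V × V)) = 1 := rfl

theorem prodMap_inj {X Y X' Y' : Module.End k V}
    (h : (LinearMap.prodMap X Y : Module.End k (V × V)) = LinearMap.prodMap X' Y') : X = X' ∧ Y = Y' := by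
  constructor
  · ext x
    exact congrArg Prod.fst (LinearMap.congr_fun h (x, 0))
  · ext x
    exact congrArg Prod.snd (LinearMap.congr_fun h (0, x))

theorem exists_prodMap (n : ℕ) : ∀ l : List κ, l.length = 2 * n →
    ∃ X Y, pS (rho A A') l = LinearMap.prodMap X Y := by
  induction n with
  | zero =>
    intro l hl
    obtain rfl := List.length_eq_zero_iff.1 hl
    exact ⟨1, 1, rfl⟩
  | succ n ih =>
    intro l hl
    match l, hl with
    | i :: j :: l, hl =>
      rw [List.length_cons, List.length_cons] at hl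
      obtain ⟨X, Y, h⟩ := ih l (by omega)
      refine ⟨A i * A' j * X, A' i * A j * Y, ?_⟩
      rw [pS, pS, ← mul_assoc, rho_mul, h, prodMap_mul]

/-- first components of even words -/
def WW : Submonoid (Module.End k V) where
  carrier := {X | ∃ Y l, (∃ n, l.length = 2 * n) ∧ pS (rho A A') l = LinearMap.prodMap X Y}
  one_mem' := ⟨1, [], ⟨0, rfl⟩, rfl⟩
  mul_mem' := by
    rintro X X' ⟨Y, l, ⟨n, hn⟩, h⟩ ⟨Y', l', ⟨n', hn'⟩, h'⟩
    exact ⟨Y * Y', l ++ l', ⟨n + n', by rw [List.length_append]; omega⟩, by rw [pS_append, h, h', prodMap_mul]⟩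

variable {A A'} (hA : ∀ i, A i * A' i = 1) (hA' : ∀ i, A' i * A i = 1)

include hA hA'

theorem rho_sq (i : κ) : rho A A' i * rho A A' i = 1 := by
  rw [rho_mul, hA, hA']; rfl

theorem rev_prod {l : List κ} {n : ℕ} (hn : l.length = 2 * n) {X Y : Module.End k V}
    (h : pS (rho A A') l = LinearMap.prodMap X Y) :
    ∃ X' Y', pS (rho A A') l.reverse = LinearMap.prodMap X' Y' ∧ X * X' = 1 ∧ X' * X = 1 ∧ Y * Y' = 1 ∧ Y' * Y = 1 := by
  obtain ⟨X', Y', h'⟩ := exists_prodMap A A' n l.reverse (by rw [List.length_reverse]; exact hn)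
  have h1 := pS_rev_mul (rho_sq hA hA') l
  have h2 := pS_mul_rev (rho_sq hA hA') l
  rw [h, h', prodMap_mul, ← prodMap_one] at h1 h2
  obtain ⟨a1, a2⟩ := prodMap_inj h1
  obtain ⟨b1, b2⟩ := prodMap_inj h2
  exact ⟨X', Y', h', b1, a1, b2, a2⟩

theorem WW_inv : ∀ x ∈ WW A A', ∃ y ∈ WW A A', x * y = 1 ∧ y * x = 1 := by
  rintro X ⟨Y, l, ⟨n, hn⟩, h⟩
  obtain ⟨X', Y', h', a, b, -, -⟩ := rev_prod hA hA' hn h
  exact ⟨X', ⟨Y', l.reverse, ⟨n, by rw [List.length_reverse]; exact hn⟩, h'⟩, a, b⟩

variable [FiniteDimensional k V] (K : Subfield k) (h2 : (2 : k) ≠ 0) {c : κ → κ → k} (hc : ∀ i j, c i j ∈ K)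
  (h1 : ∀ i j, A i * A' j + A j * A' i = c i j • 1) (h1' : ∀ i j, A' i * A j + A' j * A i = c i j • 1)
  {l8 : List κ} (e8 : ∃ m, l8.length = 2 * m) {d : k} (hd : d * d = 1)
  (v8 : pS (rho A A') l8 = LinearMap.prodMap (d • 1) (-(d • 1)))

include h2 hc h1 h1' e8 hd v8

/-- **Traces in one half.** -/
theorem trace_half {X X' : Module.End k V} (hX : X ∈ WW A A') (hXX : X' * X = 1) :
    LinearMap.trace k V X ∈ K ∧ LinearMap.trace k V X' = LinearMap.trace k V X := by
  obtain ⟨Y, l, ⟨n, hn⟩, h⟩ := hX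
  obtain ⟨m, hm⟩ := e8
  obtain ⟨X'', Y', h', a, b, a', b'⟩ := rev_prod hA hA' hn h
  have hX'' : X'' = X' := by
    calc X'' = (X' * X) * X'' := by rw [hXX, one_mul]
      _ = X' := by rw [mul_assoc, a, mul_one]
  subst hX''
  have hcc : ∀ i j, rho A A' i * rho A A' j + rho A A' j * rho A A' i = c i j • 1 := by
    intro i j
    rw [rho_mul, rho_mul]
    apply LinearMap.ext
    intro x
    apply Prod.ext
    · exact LinearMap.congr_fun (h1 i j) x.1
    · exact LinearMap.congr_fun (h1' i j) x.2
  have hone : LinearMap.trace k (V × V) 1 ∈ K := by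
    rw [LinearMap.trace_one]
    exact natCast_mem _ _
  obtain ⟨t1, t2⟩ := trace_even K h2 hcc hc hone n l hn
  obtain ⟨t3, t4⟩ := trace_even K h2 hcc hc hone (n + m) (l ++ l8) (by rw [List.length_append]; omega)
  have hr8 : pS (rho A A') l8.reverse = LinearMap.prodMap (d • 1) (-(d • 1)) := by
    have e1 : pS (rho A A') l8 * pS (rho A A') l8 = 1 := by
      rw [v8, prodMap_mul, ← prodMap_one]
      congr 1
      · rw [smul_mul_smul_comm, hd, one_smul, one_mul]
      · rw [neg_mul_neg, smul_mul_smul_comm, hd, one_smul, one_mul]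
    calc pS (rho A A') l8.reverse = pS (rho A A') l8.reverse * (pS (rho A A') l8 * pS (rho A A') l8) := by
          rw [e1, mul_one]
      _ = _ := by rw [← mul_assoc, pS_rev_mul (rho_sq hA hA'), one_mul, v8]
  have htr : ∀ X Y : Module.End k V, LinearMap.trace k (V × V) (LinearMap.prodMap X Y) =
      LinearMap.trace k V X + LinearMap.trace k V Y := fun X Y => LinearMap.trace_prodMap' X Y
  rw [h, htr] at t1
  rw [h, h', htr, htr] at t2
  rw [pS_append, h, v8, prodMap_mul, htr, mul_smul_comm, mul_one, mul_neg, mul_smul_comm, mul_one, map_neg, map_smul,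
    map_smul, smul_eq_mul, smul_eq_mul] at t3
  rw [List.reverse_append, pS_append, pS_append, h, h', v8, hr8, prodMap_mul, prodMap_mul, htr, htr, mul_smul_comm,
    mul_one, mul_neg, mul_smul_comm, mul_one, map_neg, map_smul, map_smul, smul_mul_assoc, one_mul, neg_mul,
    smul_mul_assoc, one_mul, map_neg, map_smul, map_smul] at t4
  simp only [smul_eq_mul] at t4
  have hdK : d ∈ K := by
    rcases mul_self_eq_one_iff.1 hd with rfl | rfl
    · exact one_mem _
    · exact neg_mem (one_mem _)
  have q1 := mul_mem (inv_mem (ofNat_mem K 2)) (add_mem t1 (mul_mem hdK t3))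
  constructor
  · have e : LinearMap.trace k V X = 2⁻¹ * (LinearMap.trace k V X + LinearMap.trace k V Y +
        d * (d * LinearMap.trace k V X + -(d * LinearMap.trace k V Y))) := by
      rw [eq_inv_mul_iff_mul_eq₀ h2]
      linear_combination (-LinearMap.trace k V X + LinearMap.trace k V Y) * hd
    rw [e]
    exact q1
  · apply mul_left_cancel₀ h2
    linear_combination t2 + d * t4 - (LinearMap.trace k V X'' - LinearMap.trace k V X -
      (LinearMap.trace k V Y' - LinearMap.trace k V Y)) * hd

end double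

end Cfsg.Agent.H916.Dbl
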