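import Cfsg.Agent.H916.OmF

/-!
# `Ω₈⁺(2)` in dimension eight: the anticommuting case
-/

set_option autoImplicit false
set_option linter.unusedSectionVars false
set_option linter.unusedVariables false

namespace Cfsg.Agent.H916.Om

open SpSix SpEight Halving Pauli TreeTrace CliffTrace Dbl Cfsg Cfsg.Geo Cfsg.Agent.H915.LD Matrix

theorem sq_anti_eight {M κ : Type*} [Ring M] {S : κ → M} (hS : ∀ i, S i * S i = 1) (l : List κ)
    (h : l.Pairwise fun i j => S i * S j = -(S j * S i)) (h8 : l.length = 8) : pS S l * pS S l = 1 := by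
  obtain ⟨n, hn, h1⟩ := sq_anti hS l h
  rw [h8] at hn
  have hn' : n = 28 := by omega
  rw [h1, hn']
  exact Even.neg_one_pow (by decide)

/-- a group of lifts with good traces -/
def Good {T k V : Type*} [Group T] [Field k] [AddCommGroup V] [Module k V] (R : PRep T k V) : Prop :=
  ∃ W : Submonoid (Module.End k V), (∀ x ∈ W, ∃ y ∈ W, x * y = 1 ∧ y * x = 1) ∧ (∀ s : T, ∃ X ∈ W, X ∈ R.L s) ∧
    ∀ X ∈ W, ∀ X', X' * X = 1 → LinearMap.trace k V X ∈ (⊥ : Subfield k) ∧
      LinearMap.trace k V X' = LinearMap.trace k V X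

section core

universe u v

variable {ι : Type} [Fintype ι] [DecidableEq ι] {F : Type u} [Field F] {P : Subgroup (GL ι F)} {T : Type v} [Group T]

theorem core_of_good (hC : Core P) (e : Soc P ≃* T) (h : Good (coreRep hC e)) :
    ∀ g ∈ P, algebraMap F (AlgebraicClosure F) (tr g) ∈ (⊥ : Subfield (AlgebraicClosure F)) ∧ tr g⁻¹ = tr g := by
  obtain ⟨W, h1, h2, h3⟩ := h
  have hm := mem_of_perfect (H911.Five.rep P) hC.commutator_top W h1 (fun g => by
    obtain ⟨X, hX, hX2⟩ := h2 (e (toSoc P g))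
    obtain ⟨c, hc, h⟩ := (coreRep hC e).prop_of (mem_coreRep hC e g) hX2
    exact ⟨c, hc, X, hX, h⟩)
  intro g hg
  obtain ⟨q1, q2⟩ := h3 _ (hm ⟨g, hg⟩) (H911.Five.rep P (⟨g, hg⟩ : P)⁻¹) (by
    rw [← map_mul, inv_mul_cancel, map_one])
  rw [tr_rep] at q1
  rw [tr_rep, tr_rep] at q2
  refine ⟨q1, ?_⟩
  apply (algebraMap F (AlgebraicClosure F)).injective
  exact q2

end core

/-- nonsingular masks -/
abbrev Ns : Type := {n : ℕ // ns n}

def f1 : Ns := ⟨lift 1, by decide⟩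
def f2 : Ns := ⟨lift 2, by decide⟩
def f3 : Ns := ⟨lift 3, by decide⟩
def f4 : Ns := ⟨lift 4, by decide⟩
def f5 : Ns := ⟨lift 5, by decide⟩
def f6 : Ns := ⟨lift 6, by decide⟩
def f7 : Ns := ⟨lift 7, by decide⟩
def f0 : Ns := ⟨n0, ns_n0⟩

/-- the frame -/
def frm : List Ns := [f1, f2, f3, f4, f5, f6, f0, f7]

theorem frm_pw : frm.Pairwise fun i j : Ns => bf i j = false ∧ (i : ℕ) ≠ j := by decide +kernel

section main

variable {T k V : Type*} [Group T] [Field k] [IsAlgClosed k] [AddCommGroup V] [Module k V] [FiniteDimensional k V]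
  (R : PRep T k V) {τ : ℕ → ℕ → T} (D : OmData τ) (h2 : (2 : k) ≠ 0) (hV : Module.finrank k V = 8)
  (hc : R.AntiL (τ n0 (lift 1)) (τ n0 (lift 2)))

include D h2 hV hc

theorem OmData.good_of_anti (gen : Subgroup.closure {x | ∃ n m, ns n ∧ ns m ∧ x = τ n m} = ⊤) : Good R := by
  have : Nontrivial V := Module.nontrivial_of_finrank_pos (R := k) (by rw [hV]; norm_num)
  choose A A' hA h1 h1' hs h0 using fun n : Ns => D.exists_norm R h2 hV hc n.2
  have hpair := fun n m : Ns => D.norm_pair R h2 hV hc n.2 m.2 (hA n) (h1 n) (h1' n) (hs n) (h0 n) (hA m) (h1 m)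
    (h1' m) (hs m) (h0 m)
  choose c hc1 hc2 hc3 using hpair
  have hAm : ∀ n m : Ns, A n * A' m ∈ R.L (τ n m) := by
    intro n m
    have h := R.mul (hA n) (inv_mem R (hA m) (h1 m))
    rw [D.inv m.2 ns_n0, D.mul n.2 ns_n0 m.2] at h
    exact h
  have hc0 : ∀ n m : Ns, bf n m = false → (n : ℕ) ≠ m → c n m = 0 := by
    intro n m ho hnm
    refine norm_zero R (D.ne_one R h2 hV hc n.2 m.2 hnm) (D.sq n.2 m.2 ho) (hAm n m) ?_ (hc2 n m)
    calc A n * A' m * (A m * A' n) = A n * (A' m * A m) * A' n := by simp only [mul_assoc]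
      _ = 1 := by rw [h1', mul_one, h1]
  obtain ⟨z1, z2⟩ := h0 f0 rfl
  have hneg : ∀ n : Ns, bf n f0 = false → (n : ℕ) ≠ f0 → A' n = -A n := by
    intro n ho hn
    have h := hc2 n f0
    rw [hc0 n f0 ho hn, z1, z2, mul_one, one_mul, zero_smul] at h
    exact eq_neg_of_add_eq_zero_right h
  -- the volume element
  have hvol : pS (rho A A') frm = LinearMap.prodMap ((A f1 * A' f2) * ((A f3 * A' f4) * ((A f5 * A' f6) * (A f0 * A' f7))))
      ((A' f1 * A f2) * ((A' f3 * A f4) * ((A' f5 * A f6) * (A' f0 * A f7)))) := by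
    show rho A A' f1 * (rho A A' f2 * (rho A A' f3 * (rho A A' f4 * (rho A A' f5 * (rho A A' f6 * (rho A A' f0 *
      (rho A A' f7 * 1))))))) = _
    have e : ∀ (i j : Ns) (X : Module.End k (V × V)), rho A A' i * (rho A A' j * X) =
        LinearMap.prodMap (A i * A' j) (A' i * A j) * X := by
      intro i j X
      rw [← mul_assoc, rho_mul]
    rw [e, e, e, e, mul_one, prodMap_mul, prodMap_mul, prodMap_mul]
  have hL : (A f1 * A' f2) * ((A f3 * A' f4) * ((A f5 * A' f6) * (A f0 * A' f7))) ∈ R.L 1 := by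
    have h := R.mul (hAm f1 f2) (R.mul (hAm f3 f4) (R.mul (hAm f5 f6) (hAm f0 f7)))
    have h' : τ f1 f2 * (τ f3 f4 * (τ f5 f6 * τ f0 f7)) = 1 := by
      have e : ∀ a b : Ns, bf n0 a = false → τ n0 a * τ n0 b = τ a b := by
        intro a b hab
        rw [D.symm ns_n0 a.2 hab, D.mul a.2 ns_n0 b.2]
      have e1 := e f1 f2 (by decide)
      have e2 := e f3 f4 (by decide)
      have e3 := e f5 f6 (by decide)
      rw [← e1, ← e2, ← e3, ← D.fano]
      simp only [mul_assoc]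
      rfl
    rw [h'] at h
    exact h
  obtain ⟨d, hd0, hd⟩ := R.one hL
  have hY : (A' f1 * A f2) * ((A' f3 * A f4) * ((A' f5 * A f6) * (A' f0 * A f7))) = -(d • 1) := by
    rw [← hd]
    have n1 := hneg f1 (by decide) (by decide)
    have n2 := hneg f2 (by decide) (by decide)
    have n3 := hneg f3 (by decide) (by decide)
    have n4 := hneg f4 (by decide) (by decide)
    have n5 := hneg f5 (by decide) (by decide)
    have n6 := hneg f6 (by decide) (by decide)
    have n7 := hneg f7 (by decide) (by decide)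
    rw [n1, n2, n3, n4, n5, n6, n7, z1, z2]
    simp only [neg_mul, mul_neg, one_mul, neg_neg]
  rw [hd, hY] at hvol
  have hanti : ∀ i j : Ns, bf i j = false → (i : ℕ) ≠ j → rho A A' i * rho A A' j = -(rho A A' j * rho A A' i) := by
    intro i j ho hij
    have e1 := hc2 i j
    have e2 := hc3 i j
    rw [hc0 i j ho hij, zero_smul] at e1 e2
    rw [rho_mul, rho_mul, eq_neg_of_add_eq_zero_left e1, eq_neg_of_add_eq_zero_left e2]
    rfl
  have hdd : d * d = 1 := by
    have hsq := sq_anti_eight (rho_sq h1 h1') frm (frm_pw.imp fun h => hanti _ _ h.1 h.2) rfl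
    rw [hvol, prodMap_mul, ← prodMap_one] at hsq
    have h9 := (prodMap_inj hsq).1
    rw [smul_mul_smul_comm, one_mul] at h9
    exact smul_one_inj (k := k) (V := V) (by rw [h9, one_smul])
  refine ⟨WW A A', WW_inv h1 h1', ?_, ?_⟩
  · intro s
    have hs : s ∈ Subgroup.closure {x | ∃ n m, ns n ∧ ns m ∧ x = τ n m} := by rw [gen]; trivial
    induction hs using Subgroup.closure_induction with
    | mem x hx =>
      obtain ⟨n, m, hn, hm, rfl⟩ := hx
      refine ⟨A ⟨n, hn⟩ * A' ⟨m, hm⟩, ?_, hAm ⟨n, hn⟩ ⟨m, hm⟩⟩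
      exact ⟨A' ⟨n, hn⟩ * A ⟨m, hm⟩, [⟨n, hn⟩, ⟨m, hm⟩], ⟨1, rfl⟩, by
        rw [← rho_mul]
        show rho A A' _ * (rho A A' _ * 1) = _
        rw [mul_one]⟩
    | one =>
      refine ⟨1, (WW A A').one_mem, ?_⟩
      obtain ⟨X, hX⟩ := R.ex 1
      obtain ⟨c, hc, rfl⟩ := R.one hX
      have := R.smul (inv_ne_zero hc) hX
      rwa [smul_smul, inv_mul_cancel₀ hc, one_smul] at this
    | mul x y _ _ hx hy =>
      obtain ⟨X, h3, h4⟩ := hx
      obtain ⟨Y, h5, h6⟩ := hy
      exact ⟨X * Y, (WW A A').mul_mem h3 h5, R.mul h4 h6⟩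
    | inv x _ hx =>
      obtain ⟨X, h3, h4⟩ := hx
      obtain ⟨Y, h5, h6, -⟩ := WW_inv h1 h1' X h3
      exact ⟨Y, h5, inv_mem R h4 h6⟩
  · intro X hX X' hXX
    exact trace_half h1 h1' ⊥ h2 hc1 hc2 hc3 ⟨4, rfl⟩ hdd hvol hX hXX

end main

end Cfsg.Agent.H916.Om
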