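import Mathlib

/-!
# Traces of words in (negatives of) the simple reflections of a Cartan matrix
-/

set_option autoImplicit false
set_option linter.unusedSectionVars false
set_option linter.unusedVariables false

namespace Cfsg.Agent.H916.TreeTrace

open Matrix

section words

variable {M : Type*} [Monoid M] {ι : Type*}

/-- words -/
def pS (S : ι → M) : List ι → M
  | [] => 1
  | i :: l => S i * pS S l

theorem pS_append (S : ι → M) (l l' : List ι) : pS S (l ++ l') = pS S l * pS S l' := by
  induction l with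
  | nil => rw [List.nil_append, pS, one_mul]
  | cons x l ih => rw [List.cons_append, pS, pS, ih, mul_assoc]

theorem pS_rev_mul {S : ι → M} (hS : ∀ i, S i * S i = 1) (l : List ι) : pS S l.reverse * pS S l = 1 := by
  induction l with
  | nil => rw [List.reverse_nil, pS, one_mul]
  | cons x l ih =>
    rw [List.reverse_cons, pS_append, pS, pS, pS, mul_one]
    calc pS S l.reverse * S x * (S x * pS S l) = pS S l.reverse * (S x * S x) * pS S l := by
          simp only [mul_assoc]
      _ = 1 := by rw [hS, mul_one, ih]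

theorem pS_mul_rev {S : ι → M} (hS : ∀ i, S i * S i = 1) (l : List ι) : pS S l * pS S l.reverse = 1 := by
  have h := pS_rev_mul hS l.reverse
  rwa [List.reverse_reverse] at h

theorem eq_rev {S : ι → M} (hS : ∀ i, S i * S i = 1) {l : List ι} {y : M} (h : y * pS S l = 1) :
    y = pS S l.reverse := by
  calc y = y * (pS S l * pS S l.reverse) := by rw [pS_mul_rev hS, mul_one]
    _ = pS S l.reverse := by rw [← mul_assoc, h, one_mul]

end words

section perfect

variable {k V : Type*} [Field k] [AddCommGroup V] [Module k V] {ι : Type*} {S : ι → Module.End k V}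

/-- a perfect group of scalar multiples of words consists of words -/
theorem word_of_perfect {L : Type*} [Group L] (ρ : L →* Module.End k V) (hperf : commutator L = ⊤)
    (hS : ∀ i, S i * S i = 1) (h : ∀ g, ∃ c : k, c ≠ 0 ∧ ∃ l, ρ g = c • pS S l) :
    ∀ g, ∃ l, ρ g = pS S l := by
  let H : Subgroup L :=
    { carrier := {g | ∃ l, ρ g = pS S l}
      mul_mem' := by
        rintro a b ⟨l, hl⟩ ⟨l', hl'⟩
        exact ⟨l ++ l', by rw [map_mul, hl, hl', pS_append]⟩
      one_mem' := ⟨[], by rw [map_one]; rfl⟩
      inv_mem' := by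
        rintro a ⟨l, hl⟩
        exact ⟨l.reverse, eq_rev hS (by rw [← hl, ← map_mul, inv_mul_cancel, map_one])⟩ }
  have hinv : ∀ {g : L} {c : k} {l : List ι}, c ≠ 0 → ρ g = c • pS S l → ρ g⁻¹ = c⁻¹ • pS S l.reverse := by
    intro g c l hc hg
    have h1 : ρ g⁻¹ * ρ g = 1 := by rw [← map_mul, inv_mul_cancel, map_one]
    rw [hg, mul_smul_comm, ← smul_mul_assoc] at h1
    have h2 := eq_rev hS h1
    rw [← h2, smul_smul, inv_mul_cancel₀ hc, one_smul]
  have hH : commutator L ≤ H := by
    rw [commutator_def, Subgroup.commutator_le]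
    intro a _ b _
    obtain ⟨c, hc, l, hl⟩ := h a
    obtain ⟨c', hc', l', hl'⟩ := h b
    refine ⟨l ++ l' ++ l.reverse ++ l'.reverse, ?_⟩
    rw [commutatorElement_def, map_mul, map_mul, map_mul, hinv hc hl, hinv hc' hl', hl, hl', pS_append, pS_append,
      pS_append]
    simp only [smul_mul_assoc, mul_smul_comm, smul_smul]
    rw [show c'⁻¹ * (c⁻¹ * (c' * c)) = 1 by field_simp, one_smul]
  intro g
  have : g ∈ H := hH (by rw [hperf]; trivial)
  exact this

end perfect

section mat

variable {ι : Type*} [Fintype ι] [DecidableEq ι]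

/-- matrix of the negative of a simple reflection -/
def rM (C : Matrix ι ι ℤ) (i : ι) : Matrix ι ι ℤ :=
  Matrix.of fun l j => (if l = i then C i j else 0) - (if l = j then 1 else 0)

theorem rM_sym {C : Matrix ι ι ℤ} (hC : Cᵀ = C) (i : ι) : (rM C i)ᵀ * C = C * rM C i := by
  have hs : ∀ a b, C a b = C b a := fun a b => congrFun (congrFun hC b) a
  ext l j
  simp only [Matrix.mul_apply, Matrix.transpose_apply, rM, Matrix.of_apply, sub_mul, mul_sub, ite_mul, mul_ite,
    zero_mul, mul_zero, one_mul, mul_one, Finset.sum_sub_distrib, Finset.sum_ite_eq', Finset.sum_ite_eq,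
    Finset.mem_univ, if_true]
  rw [hs l i]

theorem pS_sym {C : Matrix ι ι ℤ} (hC : Cᵀ = C) (l : List ι) :
    (pS (rM C) l)ᵀ * C = C * pS (rM C) l.reverse := by
  induction l with
  | nil => rw [List.reverse_nil, pS, Matrix.transpose_one, one_mul, mul_one]
  | cons i l ih =>
    rw [pS, Matrix.transpose_mul, Matrix.mul_assoc, rM_sym hC, ← Matrix.mul_assoc, ih, List.reverse_cons, pS_append,
      pS, pS, mul_one, Matrix.mul_assoc]

theorem trace_rev {C D : Matrix ι ι ℤ} (hC : Cᵀ = C) {n : ℤ} (hn : n ≠ 0) (hCD : C * D = n • 1) (hDC : D * C = n • 1)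
    (l : List ι) : (pS (rM C) l.reverse).trace = (pS (rM C) l).trace := by
  have h1 : n • pS (rM C) l.reverse = D * ((pS (rM C) l)ᵀ * C) := by
    rw [pS_sym hC, ← Matrix.mul_assoc, hDC, Matrix.smul_mul, Matrix.one_mul]
  have h2 := congrArg Matrix.trace h1
  rw [Matrix.trace_smul, Matrix.trace_mul_comm, Matrix.mul_assoc, hCD, Matrix.mul_smul, Matrix.mul_one,
    Matrix.trace_smul, Matrix.trace_transpose] at h2
  exact smul_right_injective ℤ hn h2

end mat

section lin

variable {k V : Type*} [Field k] [AddCommGroup V] [Module k V] {ι : Type*} [Fintype ι] [DecidableEq ι]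
  (b : Module.Basis ι k V) {S : ι → Module.End k V} {C D : Matrix ι ι ℤ}

theorem toMatrix_word (hS : ∀ i j, S i (b j) = -b j + (C i j : k) • b i) (l : List ι) :
    LinearMap.toMatrix b b (pS S l) = (pS (rM C) l).map (Int.castRingHom k) := by
  induction l with
  | nil =>
    rw [pS, pS, LinearMap.toMatrix_one, Matrix.map_one _ (map_zero _) (map_one _)]
  | cons i l ih =>
    rw [pS, pS, LinearMap.toMatrix_mul, ih, Matrix.map_mul]
    congr 1
    ext a c
    rw [LinearMap.toMatrix_apply, hS, map_add, map_neg, map_smul, Finsupp.add_apply, Finsupp.neg_apply,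
      Finsupp.smul_apply, Module.Basis.repr_self_apply, Module.Basis.repr_self_apply, Matrix.map_apply, rM,
      Matrix.of_apply, smul_eq_mul]
    by_cases h1 : c = a
    · by_cases h2 : i = a
      · simp [h1, h2]; ring
      · simp [h1, h2, Ne.symm h2]
    · by_cases h2 : i = a
      · simp [h1, h2, Ne.symm h1]
      · simp [h1, h2, Ne.symm h1, Ne.symm h2]

include b in
/-- **Traces of words are integers, and inverse words have the same trace.** -/
theorem trace_word (hS : ∀ i j, S i (b j) = -b j + (C i j : k) • b i) (hC : Cᵀ = C) {n : ℤ} (hn : n ≠ 0)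
    (hCD : C * D = n • 1) (hDC : D * C = n • 1) (l : List ι) :
    ∃ z : ℤ, LinearMap.trace k V (pS S l) = z ∧ LinearMap.trace k V (pS S l.reverse) = z := by
  have h : ∀ l, LinearMap.trace k V (pS S l) = ((pS (rM C) l).trace : ℤ) := by
    intro l
    rw [LinearMap.trace_eq_matrix_trace k b, toMatrix_word b hS]
    exact (AddMonoidHom.map_trace (Int.castRingHom k : ℤ →+ k) _).symm
  refine ⟨(pS (rM C) l).trace, h l, ?_⟩
  rw [h, trace_rev hC hn hCD hDC]

end lin

end Cfsg.Agent.H916.TreeTrace
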