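import Cfsg.Agent.H916.SpSixG
import Cfsg.Agent.H916.TreeTrace

/-!
# The commuting case for `Sp₆(2)`, irreducible: dimension 7 and the reflection representation of type `E₇`
-/

set_option autoImplicit false
set_option linter.unusedSectionVars false
set_option linter.unusedVariables false

namespace Cfsg.Agent.H916.SpSix

open TreeTrace Matrix

/-- Cartan matrix of type `E₇` -/
def C7 : Matrix (Fin 7) (Fin 7) ℤ :=
  !![2, -1, 0, 0, 0, 0, 0; -1, 2, -1, 0, 0, 0, 0; 0, -1, 2, -1, 0, 0, -1; 0, 0, -1, 2, -1, 0, 0;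
    0, 0, 0, -1, 2, -1, 0; 0, 0, 0, 0, -1, 2, 0; 0, 0, -1, 0, 0, 0, 2]

def D7 : Matrix (Fin 7) (Fin 7) ℤ :=
  !![4, 6, 8, 6, 4, 2, 4; 6, 12, 16, 12, 8, 4, 8; 8, 16, 24, 18, 12, 6, 12; 6, 12, 18, 15, 10, 5, 9;
    4, 8, 12, 10, 8, 4, 6; 2, 4, 6, 5, 4, 3, 3; 4, 8, 12, 9, 6, 3, 7]

theorem C7_symm : C7ᵀ = C7 := by decide +kernel

theorem C7_D7 : C7 * D7 = (2 : ℤ) • 1 := by decide +kernel

theorem D7_C7 : D7 * C7 = (2 : ℤ) • 1 := by decide +kernel

theorem C7_diag : ∀ i, C7 i i = 2 := by decide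

theorem C7_non : ∀ i j : Fin 7, i ≠ j → om (sr i) (sr j) = false → (C7 i j : ℤ) = 0 := by
  intro i j
  fin_cases i <;> fin_cases j <;> decide

theorem C7_adj : ∀ i j : Fin 7, om (sr i) (sr j) = true → (C7 i j : ℤ) = -1 := by
  intro i j
  fin_cases i <;> fin_cases j <;> decide

theorem adj_cases : ∀ i j, om (sr i) (sr j) = true → (i = 0 ∧ j = 1) ∨ (i = 1 ∧ j = 0) ∨ (i = 1 ∧ j = 2) ∨
    (i = 2 ∧ j = 1) ∨ (i = 2 ∧ j = 3) ∨ (i = 3 ∧ j = 2) ∨ (i = 3 ∧ j = 4) ∨ (i = 4 ∧ j = 3) ∨ (i = 4 ∧ j = 5) ∨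
    (i = 5 ∧ j = 4) ∨ (i = 2 ∧ j = 6) ∨ (i = 6 ∧ j = 2) := by decide

theorem toOne_ok : ∀ v : Fin 64, v ≠ 0 → act (toOne v) v = 1 ∧
    (toOne v).all (fun x => decide (0 < x ∧ x < 64)) = true := by
  decide +kernel

section irr

variable {k V : Type*} [Field k] [AddCommGroup V] [Module k V] {S : Fin 7 → Module.End k V} (C : Cox S)
  [FiniteDimensional k V] (h2 : (2 : k) ≠ 0) (hfin : Module.finrank k V ≤ 13)
  (hp : Ga S 1 * Ga S 2 * Ga S 3 * Ga S 4 * Ga S 5 * Ga S 6 * Ga S 7 = 1)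
  (hl : Ga S 1 * Ga S 2 * Ga S 3 ≠ 1)
  (hirr : ∀ W : Submodule k V, (∀ i, ∀ w ∈ W, S i w ∈ W) → W = ⊥ ∨ W = ⊤)

include C h2 hfin hp hl hirr

theorem ZZ_bot : ZZ (TT S) = ⊥ := by
  rcases hirr (ZZ (TT S)) (fun i w hw => by
    have h := Z_inv C h2 hfin hp hl hw (sr_pos i) (sr_lt i)
    rwa [ga_sr] at h) with h | h
  · exact h
  · exfalso
    apply hl
    ext x
    have hx : x ∈ ZZ (TT S) := by rw [h]; trivial
    rw [Module.End.mul_apply, Module.End.mul_apply, Z_fix C h2 hfin hp hl hx (by norm_num) (by norm_num),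
      Z_fix C h2 hfin hp hl hx (by norm_num) (by norm_num), Z_fix C h2 hfin hp hl hx (by norm_num) (by norm_num)]
    rfl

theorem finrank_seven : Module.finrank k V = 7 := by
  rw [finrank_eq h2 hfin (fanoE C hp) hl, ZZ_bot C h2 hfin hp hl hirr, finrank_bot]

theorem fix_line {v : ℕ} (hv0 : 0 < v) (hv : v < 64) :
    ∃ e : V, e ≠ 0 ∧ Ga S v e = e ∧ ∀ x : V, Ga S v x = x → ∃ c : k, x = c • e := by
  have key : ∀ (l : List ℕ) (hl' : Adm l) {v : ℕ}, 0 < v → v < 64 →
      (∃ e : V, e ≠ 0 ∧ Ga S (act l v) e = e ∧ ∀ x : V, Ga S (act l v) x = x → ∃ c : k, x = c • e) →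
      ∃ e : V, e ≠ 0 ∧ Ga S v e = e ∧ ∀ x : V, Ga S v x = x → ∃ c : k, x = c • e := by
    intro l
    induction l with
    | nil => intro _ v _ _ h; exact h
    | cons x l ih =>
      intro hl' v hv0 hv h
      have hx0 := hl'.head.1
      have hx := hl'.head.2
      obtain ⟨e, he0, he, hall⟩ := ih hl'.tail (rf_pos hv0 (x := x)) (rf_lt hx hv) h
      have hsq : ∀ y, Ga S x (Ga S x y) = y := fun y => by
        rw [← Module.End.mul_apply, ga_sq C, Module.End.one_apply]
      have hmv : ∀ y, Ga S x (Ga S v y) = Ga S (rf x v) (Ga S x y) := fun y => by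
        rw [← Module.End.mul_apply, ga_move C hx0 hx hv0 hv, Module.End.mul_apply]
      refine ⟨Ga S x e, ?_, ?_, ?_⟩
      · intro h0
        apply he0
        rw [← hsq e, h0, map_zero]
      · have h3 := hmv (Ga S x e)
        rw [hsq, he] at h3
        have h4 := congrArg (fun y => Ga S x y) h3
        rwa [hsq] at h4
      · intro y hy
        obtain ⟨c, hc⟩ := hall (Ga S x y) (by rw [← hmv, hy])
        refine ⟨c, ?_⟩
        rw [← map_smul, ← hc, hsq]
  obtain ⟨p1, p3⟩ := toOne_ok ⟨v, hv⟩ (by rw [Ne, Fin.ext_iff]; simp; omega)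
  simp only at p1 p3
  rw [List.all_eq_true] at p3
  refine key (toOne v) (fun x hx => by simpa using p3 x hx) hv0 hv ?_
  rw [p1]
  have h1 := finrank_EE h2 hfin (fanoE C hp) hl 0
  rw [finrank_eq_one_iff'] at h1
  obtain ⟨e, he0, hall⟩ := h1
  refine ⟨e, fun h => he0 (Subtype.ext h), show TT S 0 (e : V) = e from mem_EE_self e.2, fun x hx => ?_⟩
  obtain ⟨z, hz, e', he', rfl⟩ := exists_decomp h2 hfin (fanoE C hp) hl (u := 0) (x := x) hx
  rw [ZZ_bot C h2 hfin hp hl hirr, Submodule.mem_bot] at hz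
  obtain ⟨c, hc⟩ := hall ⟨e', he'⟩
  refine ⟨c, ?_⟩
  rw [hz, zero_add]
  exact (congrArg Subtype.val hc).symm

/-- root vectors and structure constants -/
theorem exists_roots : ∃ (e : Fin 7 → V) (a : Fin 7 → Fin 7 → k), (∀ i j, S i (e j) = -e j + a i j • e i) ∧
    (∀ i, a i i = 2) ∧ (∀ i j, i ≠ j → om (sr i) (sr j) = false → a i j = 0) ∧
    (∀ i j, om (sr i) (sr j) = true → a i j * a j i = 1) ∧ LinearIndependent k e := by
  choose e he0 hee hall using fun i : Fin 7 => fix_line C h2 hfin hp hl hirr (sr_pos i) (sr_lt i)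
  simp only [ga_sr] at hee hall
  have hsq : ∀ i y, S i (S i y) = y := fun i y => by
    rw [← Module.End.mul_apply, C.sq, Module.End.one_apply]
  choose a ha using fun i j : Fin 7 => hall i (e j + S i (e j)) (by rw [map_add, hsq, add_comm])
  have haS : ∀ i j, S i (e j) = -e j + a i j • e i := by
    intro i j
    rw [← ha i j]; abel
  have hind : LinearIndependent k e := by
    rw [linearIndependent_iff_card_eq_finrank_span, Fintype.card_fin]
    rcases hirr (Submodule.span k (Set.range e)) (fun i w hw => by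
      induction hw using Submodule.span_induction with
      | mem w hw =>
        obtain ⟨j, rfl⟩ := hw
        rw [haS]
        exact Submodule.add_mem _ (Submodule.neg_mem _ (Submodule.subset_span ⟨j, rfl⟩))
          (Submodule.smul_mem _ _ (Submodule.subset_span ⟨i, rfl⟩))
      | zero => rw [map_zero]; exact Submodule.zero_mem _
      | add x y _ _ hx hy => rw [map_add]; exact Submodule.add_mem _ hx hy
      | smul c x _ hx => rw [map_smul]; exact Submodule.smul_mem _ _ hx) with h | h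
    · exfalso
      apply he0 0
      rw [← Submodule.mem_bot k, ← h]
      exact Submodule.subset_span ⟨0, rfl⟩
    · rw [Set.finrank, h, finrank_top, finrank_seven C h2 hfin hp hl hirr]
  refine ⟨e, a, haS, ?_, ?_, ?_, hind⟩
  · intro i
    have h := ha i i
    rw [hee, ← two_smul k (e i)] at h
    exact (smul_left_injective k (he0 i) h).symm
  · intro i j hij ho
    have hm : ∀ {i j : Fin 7}, sr i = sr j → i = j := by decide
    have h3 := Z_of_orth C h2 hfin hp hl (sr_pos i) (sr_lt i) (sr_pos j) (sr_lt j) (fun h => hij (hm h)) ho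
      (x := a i j • e i) (by rw [ga_sr, map_smul, hee]) (by
        rw [ga_sr, ← ha i j, map_add, hee, ← Module.End.mul_apply, ← C.comm i j ho, Module.End.mul_apply, hee])
    rw [ZZ_bot C h2 hfin hp hl hirr, Submodule.mem_bot] at h3
    rcases smul_eq_zero.1 h3 with h | h
    · exact h
    · exact absurd h (he0 i)
  · intro i j ho
    have hij : i ≠ j := by
      rintro rfl
      revert ho
      fin_cases i <;> decide
    have h3 := LinearMap.congr_fun (C.braid i j ho) (e j)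
    simp only [Module.End.mul_apply] at h3
    rw [hee j] at h3
    simp only [haS i j, haS j i, hee i, hee j, map_add, map_neg, map_smul] at h3
    have h4 : (2 * (a i j * a j i - 1)) • e j + (-(a i j * (a i j * a j i - 1))) • e i = 0 := by
      have h6 := sub_eq_zero.2 h3.symm
      rw [← h6]
      module
    have h5 := linearIndependent_iff'.1 hind {j, i} (fun l => if l = j then 2 * (a i j * a j i - 1) else
      -(a i j * (a i j * a j i - 1))) (by
        rw [Finset.sum_pair (Ne.symm hij), if_pos rfl, if_neg hij]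
        exact h4) j (by simp)
    simp only [if_true] at h5
    rcases mul_eq_zero.1 h5 with h | h
    · exact absurd h h2
    · exact sub_eq_zero.1 h

/-- **The reflection representation.** -/
theorem exists_basis : ∃ b : Module.Basis (Fin 7) k V, ∀ i j, S i (b j) = -b j + (C7 i j : k) • b i := by
  obtain ⟨e, a, hS, h2', h0, h1, hind⟩ := exists_roots C h2 hfin hp hl hirr
  have hfr := finrank_seven C h2 hfin hp hl hirr
  let b0 := basisOfLinearIndependentOfCardEqFinrank hind (by rw [hfr, Fintype.card_fin])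
  have hb0 : ∀ i, b0 i = e i := fun i => by
    rw [coe_basisOfLinearIndependentOfCardEqFinrank]
  have a01 := h1 0 1 rfl
  have a12 := h1 1 2 rfl
  have a23 := h1 2 3 rfl
  have a34 := h1 3 4 rfl
  have a45 := h1 4 5 rfl
  have a26 := h1 2 6 rfl
  have nz : ∀ {x y : k}, x * y = 1 → y ≠ 0 := fun h h' => by rw [h', mul_zero] at h; exact zero_ne_one h
  let d : Fin 7 → k := ![1, -a 1 0, a 1 0 * a 2 1, -(a 1 0 * a 2 1 * a 3 2), a 1 0 * a 2 1 * a 3 2 * a 4 3,
    -(a 1 0 * a 2 1 * a 3 2 * a 4 3 * a 5 4), -(a 1 0 * a 2 1 * a 6 2)]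
  have hd : ∀ i, d i ≠ 0 := by
    have n1 := nz a01
    have n2 := nz a12
    have n3 := nz a23
    have n4 := nz a34
    have n5 := nz a45
    have n6 := nz a26
    intro i
    fin_cases i
    · exact one_ne_zero
    · exact neg_ne_zero.2 n1
    · exact mul_ne_zero n1 n2
    · exact neg_ne_zero.2 (mul_ne_zero (mul_ne_zero n1 n2) n3)
    · exact mul_ne_zero (mul_ne_zero (mul_ne_zero n1 n2) n3) n4
    · exact neg_ne_zero.2 (mul_ne_zero (mul_ne_zero (mul_ne_zero (mul_ne_zero n1 n2) n3) n4) n5)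
    · exact neg_ne_zero.2 (mul_ne_zero (mul_ne_zero n1 n2) n6)
  have hda : ∀ i j, d j * a i j = (C7 i j : k) * d i := by
    intro i j
    by_cases hij : i = j
    · rw [← hij, h2', C7_diag]
      push_cast
      ring
    by_cases ho : om (sr i) (sr j) = false
    · rw [h0 i j hij ho, C7_non i j hij ho]
      push_cast
      ring
    rw [Bool.not_eq_false] at ho
    rw [C7_adj i j ho]
    push_cast
    rcases adj_cases i j ho with ⟨rfl, rfl⟩ | ⟨rfl, rfl⟩ | ⟨rfl, rfl⟩ | ⟨rfl, rfl⟩ | ⟨rfl, rfl⟩ | ⟨rfl, rfl⟩ |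
      ⟨rfl, rfl⟩ | ⟨rfl, rfl⟩ | ⟨rfl, rfl⟩ | ⟨rfl, rfl⟩ | ⟨rfl, rfl⟩ | ⟨rfl, rfl⟩
    · show (-a 1 0) * a 0 1 = -1 * 1
      linear_combination -a01
    · show 1 * a 1 0 = -1 * (-a 1 0)
      ring
    · show (a 1 0 * a 2 1) * a 1 2 = -1 * (-a 1 0)
      linear_combination a 1 0 * a12
    · show (-a 1 0) * a 2 1 = -1 * (a 1 0 * a 2 1)
      ring
    · show (-(a 1 0 * a 2 1 * a 3 2)) * a 2 3 = -1 * (a 1 0 * a 2 1)
      linear_combination -(a 1 0 * a 2 1) * a23
    · show (a 1 0 * a 2 1) * a 3 2 = -1 * (-(a 1 0 * a 2 1 * a 3 2))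
      ring
    · show (a 1 0 * a 2 1 * a 3 2 * a 4 3) * a 3 4 = -1 * (-(a 1 0 * a 2 1 * a 3 2))
      linear_combination (a 1 0 * a 2 1 * a 3 2) * a34
    · show (-(a 1 0 * a 2 1 * a 3 2)) * a 4 3 = -1 * (a 1 0 * a 2 1 * a 3 2 * a 4 3)
      ring
    · show (-(a 1 0 * a 2 1 * a 3 2 * a 4 3 * a 5 4)) * a 4 5 = -1 * (a 1 0 * a 2 1 * a 3 2 * a 4 3)
      linear_combination -(a 1 0 * a 2 1 * a 3 2 * a 4 3) * a45
    · show (a 1 0 * a 2 1 * a 3 2 * a 4 3) * a 5 4 = -1 * (-(a 1 0 * a 2 1 * a 3 2 * a 4 3 * a 5 4))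
      ring
    · show (-(a 1 0 * a 2 1 * a 6 2)) * a 2 6 = -1 * (a 1 0 * a 2 1)
      linear_combination -(a 1 0 * a 2 1) * a26
    · show (a 1 0 * a 2 1) * a 6 2 = -1 * (-(a 1 0 * a 2 1 * a 6 2))
      ring
  refine ⟨b0.unitsSMul (fun i => Units.mk0 (d i) (hd i)), fun i j => ?_⟩
  rw [Module.Basis.unitsSMul_apply, Module.Basis.unitsSMul_apply, hb0, hb0]
  simp only [Units.smul_def, Units.val_mk0, map_smul]
  rw [hS, smul_add, smul_neg, smul_smul, smul_smul, hda]

end irr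

end Cfsg.Agent.H916.SpSix
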