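import Cfsg.Agent.H916.OmG
import Cfsg.Agent.H916.SpSixH

/-!
# `Ω₈⁺(2)`: reflection systems of type `E₈`
-/

set_option autoImplicit false
set_option linter.unusedSectionVars false
set_option linter.unusedVariables false

namespace Cfsg.Agent.H916.Om

open SpSix SpEight Halving Pauli TreeTrace CliffTrace Dbl Matrix

/-- simple roots of type `E₈` modulo 2 -/
def ms : Fin 8 → ℕ := ![137, 152, 139, 168, 142, 200, 232, 91]

theorem ms_ns : ∀ i, ns (ms i) := by decide +kernel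

theorem ms_inj : ∀ i j, ms i = ms j → i = j := by decide +kernel

/-- Cartan matrix of type `E₈` -/
def C8 : Matrix (Fin 8) (Fin 8) ℤ :=
  !![2, -1, 0, 0, 0, 0, 0, 0; -1, 2, -1, 0, 0, 0, 0, 0; 0, -1, 2, -1, 0, 0, -1, 0; 0, 0, -1, 2, -1, 0, 0, 0;
    0, 0, 0, -1, 2, -1, 0, 0; 0, 0, 0, 0, -1, 2, 0, -1; 0, 0, -1, 0, 0, 0, 2, 0; 0, 0, 0, 0, 0, -1, 0, 2]

def D8 : Matrix (Fin 8) (Fin 8) ℤ :=
  !![4, 7, 10, 8, 6, 4, 5, 2; 7, 14, 20, 16, 12, 8, 10, 4; 10, 20, 30, 24, 18, 12, 15, 6;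
    8, 16, 24, 20, 15, 10, 12, 5; 6, 12, 18, 15, 12, 8, 9, 4; 4, 8, 12, 10, 8, 6, 6, 3;
    5, 10, 15, 12, 9, 6, 8, 3; 2, 4, 6, 5, 4, 3, 3, 2]

theorem C8_symm : C8ᵀ = C8 := by decide +kernel

theorem C8_D8 : C8 * D8 = (1 : ℤ) • 1 := by decide +kernel

theorem D8_C8 : D8 * C8 = (1 : ℤ) • 1 := by decide +kernel

theorem C8_diag : ∀ i, C8 i i = 2 := by decide

theorem C8_non : ∀ i j : Fin 8, i ≠ j → bf (ms i) (ms j) = false → (C8 i j : ℤ) = 0 := by
  intro i j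
  fin_cases i <;> fin_cases j <;> decide +kernel

theorem C8_adj : ∀ i j : Fin 8, bf (ms i) (ms j) = true → (C8 i j : ℤ) = -1 := by
  intro i j
  fin_cases i <;> fin_cases j <;> decide +kernel

set_option synthInstance.maxHeartbeats 400000 in
set_option synthInstance.maxSize 1000 in
theorem adj8 : ∀ i j, bf (ms i) (ms j) = true → (i = 0 ∧ j = 1) ∨ (i = 1 ∧ j = 0) ∨ (i = 1 ∧ j = 2) ∨
    (i = 2 ∧ j = 1) ∨ (i = 2 ∧ j = 3) ∨ (i = 3 ∧ j = 2) ∨ (i = 3 ∧ j = 4) ∨ (i = 4 ∧ j = 3) ∨ (i = 4 ∧ j = 5) ∨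
    (i = 5 ∧ j = 4) ∨ (i = 2 ∧ j = 6) ∨ (i = 6 ∧ j = 2) ∨ (i = 5 ∧ j = 7) ∨ (i = 7 ∧ j = 5) := by
  decide +kernel

def wt8 : List (List (Fin 8)) := [
  [], [], [], [], [], [], [], [], [], [], [], [], [], [], [], [], [], [1], [], [2,0,1], [], [6,5,4,3,2,0,1], 
  [], [2,6,5,4,3,2,1], [], [5,7,3,4,2,3,1,2,6,5,4,3,2,1], [], 
  [4,3,2,6,1,2,3,4,5,7,0,1,2,6,3,4,2,3,1,2,6,5,4,3,2,1], [], [7,5,3,4,2,3,1,2,0,1], [], 
  [7,6,2,3,1,2,6,5,4,3,2,1], [], [], [4,2,3,1,2,6,5,4,3,2,1], [3,1,2,0,1], [], [], [4,2,3,1,2,0,1], 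
  [3,1,2,6,5,4,3,2,1], [], [], [7,1,2,6,3,4,2,3,1,2,6,5,4,3,2,1], [5,7,4,3,2,6,5,4,3,2,0,1], [], [], 
  [6,2,3,4,5,7,0,1,2,6,3,4,2,3,1,2,6,5,4,3,2,1], [7,5,4,3,2,1], [], [4,3,2,6,5,4,3,2,1], [3,2,1], [], [], 
  [4,3,2,0,1], [3,2,6,5,4,3,2,0,1], [], [], [7,6,3,4,2,3,1,2,6,5,4,3,2,1], [5,7,4,3,1,2,6,5,4,3,2,1], [], [], 
  [2,6,1,2,3,4,5,7,0,1,2,6,3,4,2,3,1,2,6,5,4,3,2,1], [7,5,4,3,1,2,0,1], [], [], [], [], [], 
  [6,2,3,1,2,6,5,4,3,2,1], [6,4,3,1,2,0,1], [5,3,4,2,3,1,2,0,1], [1,2,6,4,3,2,1], [], [], [], [], 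
  [7,2,6,5,4,3,2,1], [3,4,5,7,0,1,2,6,3,4,2,3,1,2,6,5,4,3,2,1], [7,6,5,4,3,2,0,1], 
  [2,3,4,5,7,1,2,6,3,4,2,3,1,2,6,5,4,3,2,1], [], [2,6,3,2,1], [], [6,3,2,0,1], [6,4,3,2,1], [], 
  [2,6,4,3,2,0,1], [], [], [5,7,6,4,2,3,1,2,6,5,4,3,2,1], [], [5,7,4,5,3,4,2,3,1,2,0,1], 
  [3,4,5,7,2,6,3,4,2,3,1,2,6,5,4,3,2,1], [], [1,2,3,4,5,7,0,1,2,6,3,4,2,3,1,2,6,5,4,3,2,1], [], [], [], 
  [6,3,4,2,3,1,2,6,5,4,3,2,1], [6,1,2,0,1], [2,3,1,2,6,4,3,2,1], [5,4,3,1,2,0,1], [], [], [], [], 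
  [7,4,3,2,6,5,4,3,2,1], [5,7,0,1,2,6,3,4,2,3,1,2,6,5,4,3,2,1], [4,5,7,1,2,6,3,4,2,3,1,2,6,5,4,3,2,1], 
  [7,3,2,6,5,4,3,2,0,1], [], [], [], [1,2,6,3,4,2,3,1,2,6,5,4,3,2,1], [6,2,1], [], [5,4,3,2,1], [], [], 
  [3,2,6,4,3,2,1], [], [7,4,2,3,1,2,6,5,4,3,2,1], [5,7,2,6,3,4,2,3,1,2,6,5,4,3,2,1], [], 
  [7,3,1,2,6,5,4,3,2,1], [], [], [4,5,7,6,3,4,2,3,1,2,6,5,4,3,2,1], [], [], [], [], [], [], [], [], 
  [7,5,4,3,2,6,1,2,3,4,5,7,0,1,2,6,3,4,2,3,1,2,6,5,4,3,2,1], [], [3,4,2,3,1,2,6,5,4,3,2,1], [1,2,0,1], 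
  [6,2,3,1,2,6,4,3,2,1], [6,5,4,3,1,2,0,1], [3,4,2,3,1,2,0,1], [1,2,6,5,4,3,2,1], [], 
  [7,6,4,2,3,1,2,6,5,4,3,2,1], [], [7,4,5,3,4,2,3,1,2,0,1], [], 
  [3,2,6,1,2,3,4,5,7,0,1,2,6,3,4,2,3,1,2,6,5,4,3,2,1], [], [4,5,7,3,4,2,3,1,2,6,5,4,3,2,1], [0,1], [], [2,1], 
  [], [6,5,4,3,2,1], [], [2,6,5,4,3,2,0,1], [], [], [], [5,7,4,3,2,6,5,4,3,2,1], 
  [7,0,1,2,6,3,4,2,3,1,2,6,5,4,3,2,1], [], [], [7,5,4,3,2,0,1], [6,2,3,4,5,7,1,2,6,3,4,2,3,1,2,6,5,4,3,2,1], 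
  [2,3,1,2,0,1], [4,3,1,2,6,5,4,3,2,1], [], [], [2,3,1,2,6,5,4,3,2,1], [4,3,1,2,0,1], [], [], [], 
  [5,7,4,2,3,1,2,6,5,4,3,2,1], [7,2,6,3,4,2,3,1,2,6,5,4,3,2,1], [], [], [7,5,4,2,3,1,2,0,1], 
  [6,1,2,3,4,5,7,0,1,2,6,3,4,2,3,1,2,6,5,4,3,2,1], [], [4,3,2,6,5,4,3,2,0,1], [], [], [3,2,0,1], [4,3,2,1], 
  [], [], [3,2,6,5,4,3,2,1], [], [], [], [], [3,4,5,7,1,2,6,3,4,2,3,1,2,6,5,4,3,2,1], [7,2,6,5,4,3,2,0,1], 
  [2,3,4,5,7,0,1,2,6,3,4,2,3,1,2,6,5,4,3,2,1], [7,6,5,4,3,2,1], [4,5,3,4,2,3,1,2,0,1], [1,2,6,3,2,1], 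
  [6,4,2,3,1,2,6,5,4,3,2,1], [6,3,1,2,0,1], [], [], [], [], [], [7,3,4,2,3,1,2,6,5,4,3,2,1], [], 
  [5,4,3,2,6,1,2,3,4,5,7,0,1,2,6,3,4,2,3,1,2,6,5,4,3,2,1], [7,1,2,6,5,4,3,2,1], [], [7,6,5,4,3,1,2,0,1], [], 
  [2,6,3,2,0,1], [], [6,3,2,1], [], [], [6,4,3,2,0,1], [], [2,6,4,3,2,1], [], [], 
  [5,7,1,2,6,3,4,2,3,1,2,6,5,4,3,2,1], [7,4,3,2,6,5,4,3,2,0,1], [7,3,2,6,5,4,3,2,1], 
  [4,5,7,0,1,2,6,3,4,2,3,1,2,6,5,4,3,2,1], [], [], [2,6,1,2,0,1], [2,6,3,4,2,3,1,2,6,5,4,3,2,1], [], [], [], 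
  [], [5,4,2,3,1,2,0,1], [3,1,2,6,4,3,2,1], [], [5,7,6,3,4,2,3,1,2,6,5,4,3,2,1], [7,4,3,1,2,6,5,4,3,2,1], [], 
  [4,5,7,2,6,3,4,2,3,1,2,6,5,4,3,2,1], [], [], [7,2,3,1,2,6,5,4,3,2,1], [0,1,2,6,3,4,2,3,1,2,6,5,4,3,2,1], [], 
  [], [6,2,0,1], [], [5,4,3,2,0,1], [3,2,6,4,3,2,0,1], []]

def mwE : List (Fin 8) → ℕ → ℕ
  | [], x => x
  | i :: l, x => rr (ms i) (mwE l x)

theorem wt_ok : ∀ v : Fin 256, ns v → mwE (wt8.getD v []) 137 = v := by decide +kernel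

theorem ns137 : ns 137 := by decide

theorem mwE_ns (l : List (Fin 8)) : ns (mwE l 137) := by
  induction l with
  | nil => exact ns137
  | cons i l ih => exact rr_ns (ms_ns i) ih

section prep

variable {T k V : Type*} [Group T] [Field k] [AddCommGroup V] [Module k V] (R : PRep T k V) (τ : ℕ → ℕ → T)

/-- negatives of the simple reflections -/
structure Rf (S0 : Module.End k V) (S : Fin 8 → Module.End k V) : Prop where
  s0 : S0 * S0 = 1
  sq : ∀ i, S i * S i = 1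
  dm : ∀ i, Module.finrank k (eig ⊤ (S i) 1) = 1
  m0 : ∀ i, S i * S0 ∈ R.L (τ (ms i) n0)

variable {R τ} (D : OmData τ) {S0 : Module.End k V} {S : Fin 8 → Module.End k V} (H : Rf R τ S0 S)

theorem mul_inv_swap {X Y : Module.End k V} (hX : X * X = 1) (hY : Y * Y = 1) : (X * Y) * (Y * X) = 1 := by
  calc (X * Y) * (Y * X) = X * (Y * Y) * X := by simp only [mul_assoc]
    _ = 1 := by rw [hY, mul_one, hX]

include D

theorem half_inv {n : ℕ} (hn : ns n) {X : Module.End k V} (hX : X * X = 1) (hS0 : S0 * S0 = 1)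
    (h : X * S0 ∈ R.L (τ n n0)) : S0 * X ∈ R.L (τ n0 n) := by
  rw [← D.inv hn ns_n0]
  exact inv_mem R h (mul_inv_swap hX hS0)

theorem half_mul {n m : ℕ} (hn : ns n) (hm : ns m) {X Y : Module.End k V} (hS0 : S0 * S0 = 1) (hY : Y * Y = 1)
    (h : X * S0 ∈ R.L (τ n n0)) (h' : Y * S0 ∈ R.L (τ m n0)) : X * Y ∈ R.L (τ n m) := by
  have h3 := R.mul h (half_inv D hm hY hS0 h')
  rw [D.mul hn ns_n0 hm] at h3
  rw [show X * Y = X * S0 * (S0 * Y) by
    calc X * Y = X * (S0 * S0) * Y := by rw [hS0, mul_one]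
      _ = _ := by simp only [mul_assoc]]
  exact h3

include H

theorem Rf.mem2 (i j : Fin 8) : S i * S j ∈ R.L (τ (ms i) (ms j)) :=
  half_mul D (ms_ns i) (ms_ns j) H.s0 (H.sq j) (H.m0 i) (H.m0 j)

omit D H in
theorem inj_of_sq {X : Module.End k V} (h : X * X = 1) : Function.Injective X := by
  intro a b hab
  have := congrArg X hab
  rwa [← Module.End.mul_apply, ← Module.End.mul_apply, h] at this

variable [FiniteDimensional k V] (h2 : (2 : k) ≠ 0) (hV : Module.finrank k V = 8)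

omit D H in
include h2 hV in
theorem eq_one_of_dims {X Y G : Module.End k V} {c : k} (hX : X * X = 1) (hY : Y * Y = 1)
    (hG : Function.Injective G) (h : G * X = c • (Y * G)) (dX : Module.finrank k (eig ⊤ X 1) = 1)
    (dY : Module.finrank k (eig ⊤ Y 1) = 1) : c = 1 := by
  have : Nontrivial V := Module.nontrivial_of_finrank_pos (R := k) (by rw [hV]; norm_num)
  have h3 : G = (c * c) • G := by
    calc G = (G * X) * X := by rw [mul_assoc, hX, mul_one]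
      _ = (c • (Y * G)) * X := by rw [h]
      _ = c • (Y * (G * X)) := by rw [smul_mul_assoc, mul_assoc]
      _ = c • (Y * (c • (Y * G))) := by rw [h]
      _ = (c * c) • (Y * Y * G) := by rw [mul_smul_comm, smul_smul, mul_assoc]
      _ = _ := by rw [hY, one_mul]
  have hG0 : G ≠ 0 := by
    rintro rfl
    obtain ⟨v, hv⟩ := exists_ne (0 : V)
    exact hv (hG (by rw [LinearMap.zero_apply, LinearMap.zero_apply]))
  have h4 : (1 - c * c) • G = 0 := by rw [sub_smul, one_smul, ← h3, sub_self]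
  have h5 : c * c = 1 := by
    rcases smul_eq_zero.1 h4 with h' | h'
    · exact (sub_eq_zero.1 h').symm
    · exact absurd h' hG0
  rcases mul_self_eq_one_iff.1 h5 with h' | h'
  · exact h'
  · exfalso
    have h6 : G * X = (-Y) * G := by rw [h, h', neg_one_smul, neg_mul]
    have h7 := finrank_eig_conj (a := -1) hG h6
    have h8 : eig ⊤ (-Y) (-1) = eig ⊤ Y 1 := by
      ext x
      rw [mem_eig, mem_eig, LinearMap.neg_apply, neg_smul, neg_inj]
    have h9 := finrank_add (W := ⊤) (A := X) (a := 1) h2 one_ne_zero (fun _ _ => trivial) (by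
      rw [hX, mul_one, one_smul])
    rw [finrank_top] at h9
    rw [h8] at h7
    omega

include h2 hV

theorem Rf.comm {i j : Fin 8} (hij : bf (ms i) (ms j) = false) : S i * S j = S j * S i := by
  have h1 := R.mul (H.mem2 D i j) (H.mem2 D i j)
  rw [D.sq (ms_ns i) (ms_ns j) hij] at h1
  obtain ⟨c, -, h1⟩ := R.one h1
  have h3 : S i * S j = c • (S j * S i) := by
    calc S i * S j = (S i * S j * (S i * S j)) * (S j * S i) := by
          rw [mul_assoc (S i * S j), mul_inv_swap (H.sq i) (H.sq j), mul_one]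
      _ = c • (S j * S i) := by rw [h1, smul_mul_assoc, one_mul]
  have hc := eq_one_of_dims h2 hV (H.sq j) (H.sq j) (inj_of_sq (H.sq i)) h3 (H.dm j) (H.dm j)
  rw [h3, hc, one_smul]

theorem Rf.braid {i j : Fin 8} (hij : bf (ms i) (ms j) = true) : S i * S j * S i = S j * S i * S j := by
  have h1 := R.mul (R.mul (H.mem2 D i j) (H.mem2 D i j)) (H.mem2 D i j)
  have ht : τ (ms i) (ms j) * τ (ms i) (ms j) * τ (ms i) (ms j) = 1 := by
    have e1 : rr (ms i) (ms j) = rr (ms j) (ms i) := by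
      rw [rr_of_not hij, rr_of_not (by rw [bf_comm]; exact hij), Nat.xor_comm]
    rw [D.cj (ms_ns j) (ms_ns i) (ms_ns j), D.conjR (rr_ns (ms_ns i) (ms_ns j)) (ms_ns j) (ms_ns i), e1,
      D.self (rr_ns (ms_ns j) (ms_ns i))]
  rw [ht] at h1
  obtain ⟨c, -, h1⟩ := R.one h1
  have h3 : S i * S j * S i = c • (S j * (S i * S j)) := by
    have e : (S j * S i * S j) * (S j * S i * S j) = 1 := by
      calc (S j * S i * S j) * (S j * S i * S j) = S j * S i * (S j * S j) * S i * S j := by simp only [mul_assoc]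
        _ = S j * (S i * S i) * S j := by rw [H.sq j, mul_one]; simp only [mul_assoc]
        _ = 1 := by rw [H.sq i, mul_one, H.sq j]
    calc S i * S j * S i = S i * S j * S i * ((S j * S i * S j) * (S j * S i * S j)) := by rw [e, mul_one]
      _ = ((S i * S j) * (S i * S j) * (S i * S j)) * (S j * S i * S j) := by simp only [mul_assoc]
      _ = c • (S j * (S i * S j)) := by rw [h1, smul_mul_assoc, one_mul, mul_assoc]
  have hc := eq_one_of_dims (G := S i * S j) h2 hV (H.sq i) (H.sq j) (by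
    show Function.Injective (S i * S j)
    rw [Module.End.mul_eq_comp, LinearMap.coe_comp]
    exact (inj_of_sq (H.sq i)).comp (inj_of_sq (H.sq j))) h3 (H.dm i) (H.dm j)
  rw [h3, hc, one_smul, mul_assoc]

variable (hirr : ∀ W : Submodule k V, (∀ i, ∀ w ∈ W, S i w ∈ W) → W = ⊥ ∨ W = ⊤)

include hirr

/-- root vectors and structure constants -/
theorem Rf.exists_roots : ∃ (e : Fin 8 → V) (a : Fin 8 → Fin 8 → k), (∀ i j, S i (e j) = -e j + a i j • e i) ∧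
    (∀ i, a i i = 2) ∧ (∀ i j, i ≠ j → bf (ms i) (ms j) = false → a i j = 0) ∧
    (∀ i j, bf (ms i) (ms j) = true → a i j * a j i = 1) ∧ LinearIndependent k e := by
  have hline : ∀ i, ∃ e : V, e ≠ 0 ∧ S i e = e ∧ ∀ x : V, S i x = x → ∃ c : k, x = c • e := by
    intro i
    have h1 := H.dm i
    rw [finrank_eq_one_iff'] at h1
    obtain ⟨e, he0, hall⟩ := h1
    have he := e.2
    rw [mem_eig, one_smul] at he
    refine ⟨e, fun h => he0 (Subtype.ext h), he.2, fun x hx => ?_⟩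
    obtain ⟨c, hc⟩ := hall ⟨x, by rw [mem_eig, one_smul]; exact ⟨trivial, hx⟩⟩
    exact ⟨c, (congrArg Subtype.val hc).symm⟩
  choose e he0 hee hall using hline
  have hsq : ∀ i y, S i (S i y) = y := fun i y => by
    rw [← Module.End.mul_apply, H.sq, Module.End.one_apply]
  choose a ha using fun i j : Fin 8 => hall i (e j + S i (e j)) (by rw [map_add, hsq, add_comm])
  have haS : ∀ i j, S i (e j) = -e j + a i j • e i := by
    intro i j
    rw [← ha i j]; abel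
  have hind : LinearIndependent k e := by
    rw [linearIndependent_iff_card_eq_finrank_span, Fintype.card_fin]
    rcases hirr (Submodule.span k (Set.range e)) (fun i w hw => by
      induction hw using Submodule.span_induction with
      | mem w hw =>
        obtain ⟨j, rfl⟩ := hw
        rw [haS]
        exact Submodule.add_mem _ (Submodule.neg_mem _ (Submodule.subset_span ⟨j, rfl⟩))
          (Submodule.smul_mem _ _ (Submodule.subset_span ⟨i, rfl⟩))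
      | zero => rw [map_zero]; exact Submodule.zero_mem _
      | add x y _ _ hx hy => rw [map_add]; exact Submodule.add_mem _ hx hy
      | smul c x _ hx => rw [map_smul]; exact Submodule.smul_mem _ _ hx) with h | h
    · exfalso
      apply he0 0
      rw [← Submodule.mem_bot k, ← h]
      exact Submodule.subset_span ⟨0, rfl⟩
    · rw [Set.finrank, h, finrank_top, hV]
  refine ⟨e, a, haS, ?_, ?_, ?_, hind⟩
  · intro i
    have h := ha i i
    rw [hee, ← two_smul k (e i)] at h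
    exact (smul_left_injective k (he0 i) h).symm
  · intro i j hij ho
    have h3 := LinearMap.congr_fun (H.comm D h2 hV ho) (e j)
    simp only [Module.End.mul_apply] at h3
    rw [hee j] at h3
    simp only [haS i j, haS j i, hee i, hee j, map_add, map_neg, map_smul] at h3
    have h4 : (2 * a i j) • e i + (-(a i j * a j i)) • e j = 0 := by
      have h6 := sub_eq_zero.2 h3
      rw [← h6]
      module
    have h5 := linearIndependent_iff'.1 hind {i, j} (fun l => if l = i then 2 * a i j else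
      -(a i j * a j i)) (by
        rw [Finset.sum_pair hij, if_pos rfl, if_neg (Ne.symm hij)]
        exact h4) i (by simp)
    simp only [if_true] at h5
    rcases mul_eq_zero.1 h5 with h | h
    · exact absurd h h2
    · exact h
  · intro i j ho
    have hij : i ≠ j := by
      rintro rfl
      rw [bf_self] at ho
      exact absurd ho (by decide)
    have h3 := LinearMap.congr_fun (H.braid D h2 hV ho) (e j)
    simp only [Module.End.mul_apply] at h3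
    rw [hee j] at h3
    simp only [haS i j, haS j i, hee i, hee j, map_add, map_neg, map_smul] at h3
    have h4 : (2 * (a i j * a j i - 1)) • e j + (-(a i j * (a i j * a j i - 1))) • e i = 0 := by
      have h6 := sub_eq_zero.2 h3.symm
      rw [← h6]
      module
    have h5 := linearIndependent_iff'.1 hind {j, i} (fun l => if l = j then 2 * (a i j * a j i - 1) else
      -(a i j * (a i j * a j i - 1))) (by
        rw [Finset.sum_pair (Ne.symm hij), if_pos rfl, if_neg hij]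
        exact h4) j (by simp)
    simp only [if_true] at h5
    rcases mul_eq_zero.1 h5 with h | h
    · exact absurd h h2
    · exact sub_eq_zero.1 h

/-- **The reflection representation.** -/
theorem Rf.exists_basis : ∃ b : Module.Basis (Fin 8) k V, ∀ i j, S i (b j) = -b j + (C8 i j : k) • b i := by
  obtain ⟨e, a, hS, h2', h0, h1, hind⟩ := H.exists_roots D h2 hV hirr
  let b0 := basisOfLinearIndependentOfCardEqFinrank hind (by rw [hV, Fintype.card_fin])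
  have hb0 : ∀ i, b0 i = e i := fun i => by
    rw [coe_basisOfLinearIndependentOfCardEqFinrank]
  have a01 := h1 0 1 (by decide +kernel)
  have a12 := h1 1 2 (by decide +kernel)
  have a23 := h1 2 3 (by decide +kernel)
  have a34 := h1 3 4 (by decide +kernel)
  have a45 := h1 4 5 (by decide +kernel)
  have a26 := h1 2 6 (by decide +kernel)
  have a57 := h1 5 7 (by decide +kernel)
  have nz : ∀ {x y : k}, x * y = 1 → y ≠ 0 := fun h h' => by rw [h', mul_zero] at h; exact zero_ne_one h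
  let d : Fin 8 → k := ![1, -a 1 0, a 1 0 * a 2 1, -(a 1 0 * a 2 1 * a 3 2), a 1 0 * a 2 1 * a 3 2 * a 4 3,
    -(a 1 0 * a 2 1 * a 3 2 * a 4 3 * a 5 4), -(a 1 0 * a 2 1 * a 6 2),
    a 1 0 * a 2 1 * a 3 2 * a 4 3 * a 5 4 * a 7 5]
  have hd : ∀ i, d i ≠ 0 := by
    have n1 := nz a01
    have n2 := nz a12
    have n3 := nz a23
    have n4 := nz a34
    have n5 := nz a45
    have n6 := nz a26
    have n7 := nz a57
    intro i
    fin_cases i
    · exact one_ne_zero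
    · exact neg_ne_zero.2 n1
    · exact mul_ne_zero n1 n2
    · exact neg_ne_zero.2 (mul_ne_zero (mul_ne_zero n1 n2) n3)
    · exact mul_ne_zero (mul_ne_zero (mul_ne_zero n1 n2) n3) n4
    · exact neg_ne_zero.2 (mul_ne_zero (mul_ne_zero (mul_ne_zero (mul_ne_zero n1 n2) n3) n4) n5)
    · exact neg_ne_zero.2 (mul_ne_zero (mul_ne_zero n1 n2) n6)
    · exact mul_ne_zero (mul_ne_zero (mul_ne_zero (mul_ne_zero (mul_ne_zero n1 n2) n3) n4) n5) n7
  have hda : ∀ i j, d j * a i j = (C8 i j : k) * d i := by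
    intro i j
    by_cases hij : i = j
    · rw [← hij, h2', C8_diag]
      push_cast
      ring
    by_cases ho : bf (ms i) (ms j) = false
    · rw [h0 i j hij ho, C8_non i j hij ho]
      push_cast
      ring
    rw [Bool.not_eq_false] at ho
    rw [C8_adj i j ho]
    push_cast
    rcases adj8 i j ho with ⟨rfl, rfl⟩ | ⟨rfl, rfl⟩ | ⟨rfl, rfl⟩ | ⟨rfl, rfl⟩ | ⟨rfl, rfl⟩ | ⟨rfl, rfl⟩ |
      ⟨rfl, rfl⟩ | ⟨rfl, rfl⟩ | ⟨rfl, rfl⟩ | ⟨rfl, rfl⟩ | ⟨rfl, rfl⟩ | ⟨rfl, rfl⟩ | ⟨rfl, rfl⟩ | ⟨rfl, rfl⟩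
    · show (-a 1 0) * a 0 1 = -1 * 1
      linear_combination -a01
    · show 1 * a 1 0 = -1 * (-a 1 0)
      ring
    · show (a 1 0 * a 2 1) * a 1 2 = -1 * (-a 1 0)
      linear_combination a 1 0 * a12
    · show (-a 1 0) * a 2 1 = -1 * (a 1 0 * a 2 1)
      ring
    · show (-(a 1 0 * a 2 1 * a 3 2)) * a 2 3 = -1 * (a 1 0 * a 2 1)
      linear_combination -(a 1 0 * a 2 1) * a23
    · show (a 1 0 * a 2 1) * a 3 2 = -1 * (-(a 1 0 * a 2 1 * a 3 2))
      ring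
    · show (a 1 0 * a 2 1 * a 3 2 * a 4 3) * a 3 4 = -1 * (-(a 1 0 * a 2 1 * a 3 2))
      linear_combination (a 1 0 * a 2 1 * a 3 2) * a34
    · show (-(a 1 0 * a 2 1 * a 3 2)) * a 4 3 = -1 * (a 1 0 * a 2 1 * a 3 2 * a 4 3)
      ring
    · show (-(a 1 0 * a 2 1 * a 3 2 * a 4 3 * a 5 4)) * a 4 5 = -1 * (a 1 0 * a 2 1 * a 3 2 * a 4 3)
      linear_combination -(a 1 0 * a 2 1 * a 3 2 * a 4 3) * a45
    · show (a 1 0 * a 2 1 * a 3 2 * a 4 3) * a 5 4 = -1 * (-(a 1 0 * a 2 1 * a 3 2 * a 4 3 * a 5 4))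
      ring
    · show (-(a 1 0 * a 2 1 * a 6 2)) * a 2 6 = -1 * (a 1 0 * a 2 1)
      linear_combination -(a 1 0 * a 2 1) * a26
    · show (a 1 0 * a 2 1) * a 6 2 = -1 * (-(a 1 0 * a 2 1 * a 6 2))
      ring
    · show (a 1 0 * a 2 1 * a 3 2 * a 4 3 * a 5 4 * a 7 5) * a 5 7 = -1 * (-(a 1 0 * a 2 1 * a 3 2 * a 4 3 * a 5 4))
      linear_combination (a 1 0 * a 2 1 * a 3 2 * a 4 3 * a 5 4) * a57
    · show (-(a 1 0 * a 2 1 * a 3 2 * a 4 3 * a 5 4)) * a 7 5 = -1 * (a 1 0 * a 2 1 * a 3 2 * a 4 3 * a 5 4 * a 7 5)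
      ring
  refine ⟨b0.unitsSMul (fun i => Units.mk0 (d i) (hd i)), fun i j => ?_⟩
  rw [Module.Basis.unitsSMul_apply, Module.Basis.unitsSMul_apply, hb0, hb0]
  simp only [Units.smul_def, Units.val_mk0, map_smul]
  rw [hS, smul_add, smul_neg, smul_smul, smul_smul, hda]

end prep

section words

variable {T k V : Type*} [Group T] [Field k] [AddCommGroup V] [Module k V] {R : PRep T k V} {τ : ℕ → ℕ → T}
  (D : OmData τ) {S0 : Module.End k V} {S : Fin 8 → Module.End k V} (H : Rf R τ S0 S)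

/-- reflections as words -/
def hw (S : Fin 8 → Module.End k V) : List (Fin 8) → Module.End k V
  | [] => S 0
  | i :: l => S i * hw S l * S i

include H in
theorem hw_sq (l : List (Fin 8)) : hw S l * hw S l = 1 := by
  induction l with
  | nil => exact H.sq 0
  | cons i l ih =>
    rw [hw]
    calc S i * hw S l * S i * (S i * hw S l * S i) = S i * hw S l * (S i * S i) * hw S l * S i := by
          simp only [mul_assoc]
      _ = S i * (hw S l * hw S l) * S i := by rw [H.sq, mul_one]; simp only [mul_assoc]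
      _ = 1 := by rw [ih, mul_one, H.sq]

theorem hw_word (l : List (Fin 8)) : ∃ l', hw S l = pS S l' := by
  induction l with
  | nil => exact ⟨[0], by rw [pS, pS, mul_one]; rfl⟩
  | cons i l ih =>
    obtain ⟨l', h⟩ := ih
    exact ⟨i :: (l' ++ [i]), by rw [hw, h, pS, pS_append, pS, pS, mul_one, mul_assoc]⟩

include D H

theorem hw_mem (l : List (Fin 8)) : hw S l * S0 ∈ R.L (τ (mwE l 137) n0) := by
  induction l with
  | nil => exact H.m0 0
  | cons i l ih =>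
    have h1 := half_mul D (ms_ns i) (mwE_ns l) H.s0 (hw_sq H l) (H.m0 i) ih
    have h3 := R.mul h1 (H.m0 i)
    rw [D.cj (mwE_ns l) (ms_ns i) ns_n0] at h3
    rw [hw, mwE, show S i * hw S l * S i * S0 = S i * hw S l * (S i * S0) by simp only [mul_assoc]]
    exact h3

theorem Rf.word (gen : Subgroup.closure {x | ∃ n m, ns n ∧ ns m ∧ x = τ n m} = ⊤) (s : T) :
    ∃ l, pS S l ∈ R.L s := by
  have hs : s ∈ Subgroup.closure {x | ∃ n m, ns n ∧ ns m ∧ x = τ n m} := by rw [gen]; trivial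
  have hone : (1 : Module.End k V) ∈ R.L 1 := by
    obtain ⟨A, hA⟩ := R.ex 1
    obtain ⟨c, hc, rfl⟩ := R.one hA
    have := R.smul (inv_ne_zero hc) hA
    rwa [smul_smul, inv_mul_cancel₀ hc, one_smul] at this
  induction hs using Subgroup.closure_induction with
  | mem x hx =>
    obtain ⟨n, m, hn, hm, rfl⟩ := hx
    have e1 := wt_ok ⟨n, hn.1⟩ hn
    have e2 := wt_ok ⟨m, hm.1⟩ hm
    simp only at e1 e2
    have h := half_mul D (mwE_ns (wt8.getD n [])) (mwE_ns (wt8.getD m [])) H.s0 (hw_sq H _) (hw_mem D H _)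
      (hw_mem D H (wt8.getD m []))
    rw [e1, e2] at h
    obtain ⟨l, hl⟩ := hw_word (S := S) (wt8.getD n [])
    obtain ⟨l', hl'⟩ := hw_word (S := S) (wt8.getD m [])
    rw [hl, hl', ← pS_append] at h
    exact ⟨_, h⟩
  | one => exact ⟨[], hone⟩
  | mul x y _ _ hx hy =>
    obtain ⟨l, hl⟩ := hx
    obtain ⟨l', hl'⟩ := hy
    exact ⟨l ++ l', by rw [pS_append]; exact R.mul hl hl'⟩
  | inv x _ hx =>
    obtain ⟨l, hl⟩ := hx
    exact ⟨l.reverse, inv_mem R hl (pS_mul_rev H.sq l)⟩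

theorem Rf.good [FiniteDimensional k V] (h2 : (2 : k) ≠ 0) (hV : Module.finrank k V = 8)
    (hirr : ∀ W : Submodule k V, (∀ i, ∀ w ∈ W, S i w ∈ W) → W = ⊥ ∨ W = ⊤)
    (gen : Subgroup.closure {x | ∃ n m, ns n ∧ ns m ∧ x = τ n m} = ⊤) : Good R := by
  obtain ⟨b, hb⟩ := H.exists_basis D h2 hV hirr
  refine ⟨{ carrier := {X | ∃ l, X = pS S l}, one_mem' := ⟨[], rfl⟩, mul_mem' := ?_ }, ?_, ?_, ?_⟩
  · rintro _ _ ⟨l, rfl⟩ ⟨l', rfl⟩
    exact ⟨l ++ l', (pS_append _ _ _).symm⟩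
  · rintro _ ⟨l, rfl⟩
    exact ⟨_, ⟨l.reverse, rfl⟩, pS_mul_rev H.sq l, pS_rev_mul H.sq l⟩
  · intro s
    obtain ⟨l, hl⟩ := H.word D gen s
    exact ⟨_, ⟨l, rfl⟩, hl⟩
  · rintro _ ⟨l, rfl⟩ X' hX'
    obtain ⟨z, hz1, hz2⟩ := trace_word b hb C8_symm (n := 1) one_ne_zero C8_D8 D8_C8 l
    rw [eq_rev H.sq hX', hz1, hz2]
    exact ⟨intCast_mem _ _, rfl⟩

end words

end Cfsg.Agent.H916.Om
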