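import Cfsg.Agent.H916.OmH

/-!
# `Ω₈⁺(2)` in dimension eight: the commuting case
-/

set_option autoImplicit false
set_option linter.unusedSectionVars false
set_option linter.unusedVariables false

namespace Cfsg.Agent.H916.Om

open SpSix SpEight Halving Pauli TreeTrace CliffTrace Dbl Matrix

section fano

variable {k V : Type*} [Field k] [AddCommGroup V] [Module k V]

/-- the combination attached to two commuting involutions -/
def cmb (A B : Module.End k V) : Module.End k V := (2 : k)⁻¹ • (1 - A - B - A * B)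

theorem cmb_apply (A B : Module.End k V) (x : V) : cmb A B x = (2 : k)⁻¹ • (x - A x - B x - A (B x)) := rfl

theorem half_two (h2 : (2 : k) ≠ 0) (x : V) : (2 : k)⁻¹ • (x + x) = x := by
  rw [← two_smul k x, smul_smul, inv_mul_cancel₀ h2, one_smul]

variable [FiniteDimensional k V] (h2 : (2 : k) ≠ 0) (hfin : Module.finrank k V ≤ 13)
    {T : Fin 7 → Module.End k V} {g1 g2 : Module.End k V} (D : FanoE T g1 g2) (hl : T 0 * T 1 * T 2 ≠ 1)

include h2 in
theorem cmb_Z {a b : Fin 7} {x : V} (hx : x ∈ ZZ T) : cmb (T a) (T b) x = -x := by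
  rw [cmb_apply, hx b, hx a]
  have : x - x - x - x = -x + -x := by abel
  rw [this, half_two h2]

include h2 in
theorem cmb_E {a b : Fin 7} (hab : a ≠ b) {u : Fin 7} {x : V} (hx : x ∈ EE T u) : cmb (T a) (T b) x = x := by
  rw [cmb_apply]
  have e : x - T a x - T b x - T a (T b x) = x + x := by
    by_cases ha : a = u
    · have hb : b ≠ u := fun h => hab (ha.trans h.symm)
      rw [mem_EE_ne hx hb, map_neg, ha, mem_EE_self hx]; abel
    · by_cases hb : b = u
      · rw [hb, mem_EE_self hx, mem_EE_ne hx ha]; abel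
      · rw [mem_EE_ne hx hb, map_neg, mem_EE_ne hx ha]; abel
  rw [e, half_two h2]

include h2 hfin D hl

theorem ext_fano {X Y : Module.End k V} (hZ : ∀ x ∈ ZZ T, X x = Y x) (hE : ∀ u, ∀ x ∈ EE T u, X x = Y x) : X = Y := by
  ext x
  obtain ⟨p, rfl⟩ := Phi_surj h2 hfin D hl x
  rw [Phi_apply, map_add, map_add, map_sum, map_sum, hZ _ p.1.2]
  congr 1
  exact Finset.sum_congr rfl fun u _ => hE u _ (p.2 u).2

theorem cmb_eq {a b : Fin 7} (hab : a ≠ b) : cmb (T a) (T b) = cmb (T 0) (T 1) := by
  apply ext_fano h2 hfin D hl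
  · intro x hx
    rw [cmb_Z h2 hx, cmb_Z h2 hx]
  · intro u x hx
    rw [cmb_E h2 hab hx, cmb_E h2 (by decide) hx]

theorem cmb_sq : cmb (T 0) (T 1) * cmb (T 0) (T 1) = 1 := by
  apply ext_fano h2 hfin D hl
  · intro x hx
    rw [Module.End.mul_apply, cmb_Z h2 hx, map_neg, cmb_Z h2 hx, neg_neg, Module.End.one_apply]
  · intro u x hx
    rw [Module.End.mul_apply, cmb_E h2 (by decide) hx, cmb_E h2 (by decide) hx, Module.End.one_apply]

theorem eig_cmb : eig ⊤ (-cmb (T 0) (T 1)) 1 = ZZ T := by
  ext x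
  rw [mem_eig, one_smul, LinearMap.neg_apply]
  constructor
  · rintro ⟨-, hx⟩
    have h3 : (2 : k) • x = (2 : k) • (-((2 : k)⁻¹ • (x - T 0 x - T 1 x - T 0 (T 1 x)))) := by
      rw [← cmb_apply, hx]
    rw [smul_neg, smul_smul, mul_inv_cancel₀ h2, one_smul] at h3
    have hs0 := D.sq' 0
    have hs1 := D.sq' 1
    have hc := D.comm' 0 1
    have h4 : (2 : k) • (T 0 x) = (2 : k) • x := by
      have h5 := congrArg (T 0) h3
      rw [map_smul, map_neg, map_sub, map_sub, map_sub, hs0, hs0] at h5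
      -- `2 T0 x = -(T0 x - x - T0 T1 x - T1 x)`
      have h6 : (4 : k) • (T 0 x) = (4 : k) • x := by
        have e1 : (3 : k) • x - T 0 x = T 1 x + T 0 (T 1 x) := by
          have : (3 : k) • x = (2 : k) • x + x := by module
          rw [this, h3]; abel
        have e2 : (3 : k) • (T 0 x) - x = T 1 x + T 0 (T 1 x) := by
          have : (3 : k) • (T 0 x) = (2 : k) • (T 0 x) + T 0 x := by module
          rw [this, h5]; abel
        have e3 := e2.trans e1.symm
        have : (4 : k) • (T 0 x) = ((3 : k) • (T 0 x) - x) + (T 0 x + x) := by module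
        rw [this, e3]
        module
      have : (4 : k) = 2 * 2 := by norm_num
      rw [this, mul_smul, mul_smul] at h6
      exact smul_right_injective V h2 h6
    have h0 : T 0 x = x := smul_right_injective V h2 h4
    apply ZZ_of_two h2 hfin D hl (u := 0) (u' := 1) (by decide) h0
    have h5 : T 0 (T 1 x) = T 1 x := by rw [hc, h0]
    rw [h5, h0] at h3
    have h6 : (2 : k) • x = (2 : k) • T 1 x := by
      rw [h3]; module
    exact (smul_right_injective V h2 h6).symm
  · intro hx
    exact ⟨trivial, by rw [cmb_Z h2 hx, neg_neg]⟩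

theorem eig_cmb_T : eig ⊤ (cmb (T 0) (T 1) * T 0) 1 = EE T 0 := by
  ext x
  rw [mem_eig, one_smul, Module.End.mul_apply]
  have hs0 := D.sq' 0
  have hs1 := D.sq' 1
  have hc := D.comm' 0 1
  constructor
  · rintro ⟨-, hx⟩
    -- decompose
    obtain ⟨p, rfl⟩ := Phi_surj h2 hfin D hl x
    rw [Phi_apply] at hx ⊢
    set s := ∑ u ∈ Finset.univ.erase (0 : Fin 7), (p.2 u : V) with hs
    rw [← Finset.add_sum_erase _ _ (Finset.mem_univ (0 : Fin 7)), ← hs] at hx ⊢
    have h0s : T 0 s = -s := by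
      rw [hs, map_sum, ← Finset.sum_neg_distrib]
      exact Finset.sum_congr rfl (fun u hu => mem_EE_ne (p.2 u).2 (Ne.symm (Finset.ne_of_mem_erase hu)))
    have hrs : cmb (T 0) (T 1) s = s := by
      rw [hs, map_sum]
      exact Finset.sum_congr rfl (fun u hu => cmb_E h2 (by decide) (p.2 u).2)
    have hT : T 0 ((p.1 : V) + (↑(p.2 0) + s)) = (p.1 : V) + (↑(p.2 0) + -s) := by
      rw [map_add, map_add, p.1.2 0, mem_EE_self (p.2 0).2, h0s]
    have hcm : cmb (T 0) (T 1) ((p.1 : V) + (↑(p.2 0) + -s)) = -(p.1 : V) + (↑(p.2 0) + -s) := by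
      rw [map_add, map_add, map_neg, cmb_Z h2 p.1.2, cmb_E h2 (by decide) (p.2 0).2, hrs]
    rw [hT, hcm] at hx
    have h3 : (2 : k) • ((p.1 : V) + s) = 0 := by
      have : (2 : k) • ((p.1 : V) + s) = ((p.1 : V) + (↑(p.2 0) + s)) - (-(p.1 : V) + (↑(p.2 0) + -s)) := by module
      rw [this, hx, sub_self]
    have h4 : (p.1 : V) + s = 0 := by
      rcases smul_eq_zero.1 h3 with h' | h'
      · exact absurd h' h2
      · exact h'
    rw [show (p.1 : V) + (↑(p.2 0) + s) = (p.2 0 : V) + ((p.1 : V) + s) by abel, h4, add_zero]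
    exact (p.2 0).2
  · intro hx
    exact ⟨trivial, by rw [mem_EE_self hx, cmb_E h2 (by decide) hx]⟩

/-- the reflection in terms of three others -/
theorem cmb_three {i j l : Fin 7} (hij : i ≠ j) (hil : i ≠ l) (hjl : j ≠ l) :
    cmb (T 0) (T 1) * T i = -((2 : k)⁻¹ • (1 + T i * T j + T i * T l - T j * T l)) := by
  apply ext_fano h2 hfin D hl
  · intro x hx
    show cmb (T 0) (T 1) (T i x) = -((2 : k)⁻¹ • (x + T i (T j x) + T i (T l x) - T j (T l x)))
    rw [hx i, hx l, hx j, hx i, cmb_Z h2 hx, show x + x + x - x = x + x by abel, half_two h2]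
  · intro u x hx
    show cmb (T 0) (T 1) (T i x) = -((2 : k)⁻¹ • (x + T i (T j x) + T i (T l x) - T j (T l x)))
    by_cases hi : i = u
    · have hj : j ≠ u := fun h => hij (hi.trans h.symm)
      have hl' : l ≠ u := fun h => hil (hi.trans h.symm)
      rw [mem_EE_ne hx hl', mem_EE_ne hx hj, map_neg, map_neg, mem_EE_ne hx hj, hi, mem_EE_self hx,
        cmb_E h2 (by decide) hx, show x + -x + -x - - -x = -(x + x) by abel, smul_neg, half_two h2, neg_neg]
    · rw [mem_EE_ne hx hi, map_neg, cmb_E h2 (by decide) hx]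
      by_cases hj : j = u
      · have hl' : l ≠ u := fun h => hjl (hj.trans h.symm)
        rw [mem_EE_ne hx hl', map_neg, map_neg, hj, mem_EE_self hx, mem_EE_ne hx hi,
          show x + -x + - -x - -x = x + x by abel, half_two h2]
      · by_cases hl' : l = u
        · rw [hl', mem_EE_self hx, mem_EE_ne hx hj, map_neg, mem_EE_ne hx hi,
            show x + - -x + -x - -x = x + x by abel, half_two h2]
        · rw [mem_EE_ne hx hl', mem_EE_ne hx hj, map_neg, map_neg, mem_EE_ne hx hi, mem_EE_ne hx hj,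
            show x + - -x + - -x - - -x = x + x by abel, half_two h2]

end fano

end Cfsg.Agent.H916.Om
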