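import Cfsg.Agent.H916.OmI
import Cfsg.Agent.H916.OmC

/-!
# Cores with simple group `Ω₈⁺(2)` in dimension eight (and odd characteristic): self-dual, over the prime field
-/

set_option autoImplicit false
set_option linter.unusedSectionVars false
set_option linter.unusedVariables false

namespace Cfsg.Agent.H916.Om

open SpSix SpEight Halving Pauli TreeTrace CliffTrace Dbl Cfsg Cfsg.Geo Cfsg.Agent.H915.LD Matrix
  Cfsg.Agent.LieClassical.OrthForms

theorem ms_lift : ∀ (i : Fin 8) (h : (i : ℕ) < 7), ms i = lift (sr ⟨i, h⟩) := by decide +kernel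

theorem ms_orth : ∀ i : Fin 8, (i : ℕ) < 7 → bf n0 (ms i) = false := by decide +kernel

theorem lift_comm_check : rr 211 (rr (lift 1) (lift 1)) = lift 1 ∧ rr 211 (rr (lift 1) (lift 3)) = lift 3 ∧
    rr 211 (rr (lift 1) (lift 4)) = lift 4 := by decide

section main

variable {T k V : Type*} [Group T] [Field k] [IsAlgClosed k] [AddCommGroup V] [Module k V] [FiniteDimensional k V]
  (R : PRep T k V) {τ : ℕ → ℕ → T} (D : OmData τ) (h2 : (2 : k) ≠ 0) (hV : Module.finrank k V = 8)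

include D h2 hV

set_option maxHeartbeats 400000 in
/-- **The reflection system.** -/
theorem OmData.exists_Rf (hc : R.CommL (τ n0 (lift 1)) (τ n0 (lift 2))) : ∃ S0 S, Rf R τ S0 S := by
  have : Nontrivial V := Module.nontrivial_of_finrank_pos (R := k) (by rw [hV]; norm_num)
  have hfin : Module.finrank k V ≤ 13 := by omega
  obtain ⟨Γ, hA⟩ := D.spData.exists_CA R hc
  have hl := hA.ne D.spData
  have FE := fanoE hA.cox hA.prod
  have hm : ∀ {v}, 0 < v → v < 64 → Ga Γ v ∈ R.L (τ n0 (lift v)) := fun h0 h => D.spData.ga_mem R hA.mem h0 h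
  have hZ1 : Module.finrank k (ZZ (TT Γ)) = 1 := by
    have := finrank_eq h2 hfin FE hl
    omega
  set r0 : Module.End k V := cmb (TT Γ 0) (TT Γ 1) with hr0
  have r0sq : r0 * r0 = 1 := cmb_sq h2 hfin FE hl
  have r0c : ∀ {v}, 0 < v → v < 64 → r0 * Ga Γ v = Ga Γ v * r0 := by
    intro v h0 hv
    obtain ⟨a, b, hab, ha, hb⟩ := two_orth ⟨v, hv⟩
    have ca : TT Γ a * Ga Γ v = Ga Γ v * TT Γ a := (ga_comm hA.cox (Nat.succ_pos (a : ℕ)) (by omega) h0 hv ha).eq
    have cb : TT Γ b * Ga Γ v = Ga Γ v * TT Γ b := (ga_comm hA.cox (Nat.succ_pos (b : ℕ)) (by omega) h0 hv hb).eq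
    rw [hr0, ← cmb_eq h2 hfin FE hl hab, cmb, smul_mul_assoc, mul_smul_comm, sub_mul, sub_mul, sub_mul, mul_sub, mul_sub,
      mul_sub, one_mul, mul_one, ca, cb, mul_assoc, cb, ← mul_assoc, ca, mul_assoc]
  -- dimensions
  have dmv : ∀ {v}, 0 < v → v < 64 → Module.finrank k (eig ⊤ (r0 * Ga Γ v) 1) = 1 := by
    have key : ∀ (l : List ℕ) (hl' : Adm l) {v : ℕ}, 0 < v → v < 64 →
        Module.finrank k (eig ⊤ (r0 * Ga Γ (act l v)) 1) = 1 → Module.finrank k (eig ⊤ (r0 * Ga Γ v) 1) = 1 := by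
      intro l
      induction l with
      | nil => intro _ v _ _ h; exact h
      | cons x l ih =>
        intro hl' v hv0 hv h
        have hx0 := hl'.head.1
        have hx := hl'.head.2
        have h3 := ih hl'.tail (rf_pos hv0 (x := x)) (rf_lt hx hv) h
        have q := ga_sq hA.cox x
        have e1 : Ga Γ x * (r0 * Ga Γ v) = (r0 * Ga Γ (rf x v)) * Ga Γ x := by
          rw [← mul_assoc, ← r0c hx0 hx, mul_assoc, ga_move hA.cox hx0 hx hv0 hv, mul_assoc]
        have e2 : Ga Γ x * (r0 * Ga Γ (rf x v)) = (r0 * Ga Γ v) * Ga Γ x := by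
          calc Ga Γ x * (r0 * Ga Γ (rf x v)) = Ga Γ x * ((r0 * Ga Γ (rf x v)) * Ga Γ x) * Ga Γ x := by
                rw [mul_assoc, mul_assoc, q, mul_one]
            _ = (Ga Γ x * Ga Γ x) * (r0 * Ga Γ v) * Ga Γ x := by rw [← e1]; simp only [mul_assoc]
            _ = _ := by rw [q, one_mul]
        have i1 := finrank_eig_conj (a := 1) (inj_of_sq q) e1
        have i2 := finrank_eig_conj (a := 1) (inj_of_sq q) e2
        omega
    intro v hv0 hv
    obtain ⟨p1, p3⟩ := toOne_ok ⟨v, hv⟩ (by rw [Ne, Fin.ext_iff]; simp; omega)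
    simp only at p1 p3
    rw [List.all_eq_true] at p3
    refine key (toOne v) (fun x hx => by simpa using p3 x hx) hv0 hv ?_
    rw [p1]
    have h3 := eig_cmb_T h2 hfin FE hl
    rw [show r0 * Ga Γ 1 = cmb (TT Γ 0) (TT Γ 1) * TT Γ 0 from rfl, h3]
    exact finrank_EE h2 hfin FE hl 0
  have dm0 : Module.finrank k (eig ⊤ (-r0) 1) = 1 := by
    rw [hr0, eig_cmb h2 hfin FE hl]
    exact hZ1
  -- the extra reflection
  obtain ⟨G, hG, G', hG', g1, g2⟩ := exists_unit R (τ 211 (lift 1))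
  have n211 : ns 211 := by decide
  have l1 : ns (lift 1) := by decide
  have l3 : ns (lift 3) := by decide
  have l4 : ns (lift 4) := by decide
  have hGi : Function.Injective G := by
    intro x y hxy
    have := congrArg G' hxy
    rwa [← Module.End.mul_apply, ← Module.End.mul_apply, g2] at this
  have hGi' : Function.Injective G' := by
    intro x y hxy
    have := congrArg G hxy
    rwa [← Module.End.mul_apply, ← Module.End.mul_apply, g1] at this
  obtain ⟨q1, q3, q4⟩ := lift_comm_check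
  have hGX : ∀ {i j : Fin 7} (hij : i ≠ j), ns (lift (i + 1)) → ns (lift (j + 1)) →
      bf n0 (lift (i + 1)) = false → bf n0 (lift (j + 1)) = false → bf (lift (i + 1)) (lift (j + 1)) = false →
      rr 211 (rr (lift 1) (lift (i + 1))) = lift (i + 1) → rr 211 (rr (lift 1) (lift (j + 1))) = lift (j + 1) →
      G * (TT Γ i * TT Γ j) = (TT Γ i * TT Γ j) * G := by
    intro i j hij ni nj oi oj oij ei ej
    have hX : TT Γ i * TT Γ j ∈ R.L (τ (lift (i + 1)) (lift (j + 1))) := by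
      have h := R.mul (hm (v := (i : ℕ) + 1) (Nat.succ_pos _) (by omega)) (hm (v := (j : ℕ) + 1) (Nat.succ_pos _) (by omega))
      rw [D.symm ns_n0 ni oi, D.mul ni ns_n0 nj] at h
      exact h
    have hX2 : (TT Γ i * TT Γ j) * (TT Γ i * TT Γ j) = 1 := comm_sq (FE.sq i) (FE.sq j) (FE.comm i j)
    have hs : τ 211 (lift 1) * τ (lift (i + 1)) (lift (j + 1)) = τ (lift (i + 1)) (lift (j + 1)) * τ 211 (lift 1) := by
      have h := D.conj n211 l1 ni nj
      rw [ei, ej, ← D.inv n211 l1] at h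
      calc τ 211 (lift 1) * τ (lift (i + 1)) (lift (j + 1)) =
          (τ 211 (lift 1) * τ (lift (i + 1)) (lift (j + 1)) * (τ 211 (lift 1))⁻¹) * τ 211 (lift 1) := by group
        _ = _ := by rw [h]
    rcases R.conj_lift hG hX hX2 hX hX2 hs with h | h
    · exact h
    · exfalso
      have h' : G * (TT Γ i * TT Γ j) = (-(TT Γ i * TT Γ j)) * G := by rw [h, neg_mul]
      have h4 := finrank_eig_conj (a := 1) hGi h'
      rw [eig_neg] at h4
      have h5 := finrank_prod_minus h2 hfin FE hl hij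
      have h6 := finrank_add (W := ⊤) (A := TT Γ i * TT Γ j) (a := 1) h2 one_ne_zero (fun _ _ => trivial) (by
        rw [hX2, mul_one, one_smul])
      rw [finrank_top] at h6
      omega
  have c02 := hGX (i := 0) (j := 2) (by decide) l1 l3 (by decide) (by decide) (by decide) q1 q3
  have c03 := hGX (i := 0) (j := 3) (by decide) l1 l4 (by decide) (by decide) (by decide) q1 q4
  have c23 := hGX (i := 2) (j := 3) (by decide) l3 l4 (by decide) (by decide) (by decide) q3 q4
  have hM : G * (r0 * TT Γ 0) = (r0 * TT Γ 0) * G := by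
    rw [hr0, cmb_three h2 hfin FE hl (i := 0) (j := 2) (l := 3) (by decide) (by decide) (by decide), mul_neg, neg_mul,
      mul_smul_comm, smul_mul_assoc, mul_sub, mul_add, mul_add, sub_mul, add_mul, add_mul, c02, c03, c23, mul_one, one_mul]
  have hM2 : (r0 * TT Γ 0) * (r0 * TT Γ 0) = 1 :=
    comm_sq r0sq (FE.sq 0) (r0c (v := 1) (by norm_num) (by norm_num))
  have hMG' : (r0 * TT Γ 0) * G' * (r0 * TT Γ 0) = G' := by
    calc (r0 * TT Γ 0) * G' * (r0 * TT Γ 0) = (G' * G) * ((r0 * TT Γ 0) * G' * (r0 * TT Γ 0)) := by rw [g2, one_mul]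
      _ = G' * ((G * (r0 * TT Γ 0)) * G') * (r0 * TT Γ 0) := by simp only [mul_assoc]
      _ = G' * (r0 * TT Γ 0) * (G * G') * (r0 * TT Γ 0) := by rw [hM]; simp only [mul_assoc]
      _ = G' * ((r0 * TT Γ 0) * (r0 * TT Γ 0)) := by rw [g1, mul_one, mul_assoc]
      _ = G' := by rw [hM2, mul_one]
  -- conjugation of `G'` by `r0`
  have hr0G : r0 * G' * r0 = TT Γ 0 * G' * TT Γ 0 := by
    have hc0 : r0 * TT Γ 0 = TT Γ 0 * r0 := r0c (v := 1) (by norm_num) (by norm_num)
    have e1 : r0 = TT Γ 0 * (r0 * TT Γ 0) := by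
      rw [hc0, ← mul_assoc, FE.sq 0, one_mul]
    have e2 : r0 = (r0 * TT Γ 0) * TT Γ 0 := by
      rw [mul_assoc, FE.sq 0, mul_one]
    calc r0 * G' * r0 = (TT Γ 0 * (r0 * TT Γ 0)) * G' * ((r0 * TT Γ 0) * TT Γ 0) := by rw [← e1, ← e2]
      _ = TT Γ 0 * ((r0 * TT Γ 0) * G' * (r0 * TT Γ 0)) * TT Γ 0 := by simp only [mul_assoc]
      _ = _ := by rw [hMG']
  have hT0 : TT Γ 0 ∈ R.L (τ n0 (lift 1)) := hm (v := 1) (by norm_num) (by norm_num)
  have hmem7 : G * (-r0) * G' * (-r0) ∈ R.L (τ 91 n0) := by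
    have e : G * (-r0) * G' * (-r0) = G * TT Γ 0 * G' * TT Γ 0 := by
      rw [mul_neg, mul_neg, neg_mul, neg_mul, neg_neg]
      calc G * r0 * G' * r0 = G * (r0 * G' * r0) := by simp only [mul_assoc]
        _ = _ := by rw [hr0G]; simp only [mul_assoc]
    rw [e]
    have h := R.mul (R.mul (R.mul hG hT0) hG') hT0
    rw [D.inv n211 l1, D.conj n211 l1 ns_n0 l1, show rr 211 (rr (lift 1) n0) = 91 from by decide, q1,
      D.symm ns_n0 l1 (by decide), D.mul (by decide : ns 91) l1 ns_n0] at h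
    exact h
  refine ⟨-r0, fun i => if h : (i : ℕ) < 7 then r0 * Ga Γ (sr ⟨i, h⟩) else G * (-r0) * G', ?_, ?_, ?_, ?_⟩
  · rw [neg_mul_neg, r0sq]
  · intro i
    split_ifs with h
    · exact comm_sq r0sq (ga_sq hA.cox (sr ⟨i, h⟩)) (r0c (v := sr ⟨i, h⟩) (sr_pos ⟨i, h⟩) (sr_lt ⟨i, h⟩))
    · calc G * (-r0) * G' * (G * (-r0) * G') = G * (-r0) * (G' * G) * (-r0) * G' := by simp only [mul_assoc]
        _ = G * (-r0 * -r0) * G' := by rw [g2, mul_one]; simp only [mul_assoc]
        _ = 1 := by rw [neg_mul_neg, r0sq, mul_one, g1]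
  · intro i
    by_cases h : (i : ℕ) < 7
    · rw [dif_pos h]
      exact dmv (v := sr ⟨i, h⟩) (sr_pos ⟨i, h⟩) (sr_lt ⟨i, h⟩)
    · rw [dif_neg h]
      have e1 : G * (-r0) = (G * (-r0) * G') * G := by rw [mul_assoc (G * (-r0)), g2, mul_one]
      have e2 : G' * (G * (-r0) * G') = (-r0) * G' := by
        rw [mul_assoc G, ← mul_assoc G', g2, one_mul]
      have i1 := finrank_eig_conj (a := 1) hGi e1
      have i2 := finrank_eig_conj (a := 1) hGi' e2
      omega
  · intro i
    split_ifs with h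
    · have h3 := hm (sr_pos ⟨i, h⟩) (sr_lt ⟨i, h⟩)
      rw [← ms_lift i h, D.symm ns_n0 (ms_ns i) (ms_orth i h)] at h3
      have e : r0 * Ga Γ (sr ⟨i, h⟩) * -r0 = (-1 : k) • Ga Γ (sr ⟨i, h⟩) := by
        rw [mul_neg, r0c (v := sr ⟨i, h⟩) (sr_pos ⟨i, h⟩) (sr_lt ⟨i, h⟩), mul_assoc, r0sq, mul_one, neg_one_smul]
      rw [e]
      exact R.smul (by norm_num) h3
    · have hi : i = 7 := by apply Fin.ext; show (i : ℕ) = 7; omega
      rw [hi]
      exact hmem7

end main

section core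

universe u v

variable {ι : Type} [Fintype ι] [DecidableEq ι] {F : Type u} [Field F] {P : Subgroup (GL ι F)}

theorem core_good {T : Type v} [Group T] (hC : Core P) (e : Soc P ≃* T) {τ : ℕ → ℕ → T} (D : OmData τ)
    (gen : Subgroup.closure {x | ∃ n m, ns n ∧ ns m ∧ x = τ n m} = ⊤) (h2 : (2 : F) ≠ 0)
    (hn : Fintype.card ι = 8) : Good (coreRep hC e) := by
  have : Nonempty ι := hC.nonempty
  have h2' : (2 : AlgebraicClosure F) ≠ 0 := by
    intro h
    apply h2
    apply (algebraMap F (AlgebraicClosure F)).injective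
    rw [map_zero, map_ofNat, h]
  have hV : Module.finrank (AlgebraicClosure F) (ι → AlgebraicClosure F) = 8 := by
    rw [Module.finrank_fintype_fun_eq_card]; exact hn
  rcases D.spData.dichotomy (coreRep hC e) with hc | hc
  · obtain ⟨S0, S, H⟩ := D.exists_Rf (coreRep hC e) h2' hV hc
    exact H.good D h2' hV (irr_of_word hC e (H.word D gen)) gen
  · exact D.good_of_anti (coreRep hC e) h2' hV hc gen

/-- **`Ω₈⁺(2)` in dimension 8: self-dual, over the prime field.** -/
theorem omega_eight {K : Type v} [Field K] [Fintype K] (hK : ∀ x : K, x = 0 ∨ x = 1) (hC : Core P) (p : ℕ)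
    [_root_.Fact p.Prime] [CharP F p] (e : Soc P ≃* POmega K (quadFormPlus 4 K)) (h2 : (2 : F) ≠ 0)
    (hn : Fintype.card ι ≤ 13) : Fintype.card ι = 8 ∧ SD P ∧ Fr P p := by
  have h8 := omega_dim hK hC e h2 hn
  refine ⟨h8, ?_⟩
  rw [← coe_plusForm] at e
  exact of_bot (core_of_good hC e (core_good hC e (omData hK) (omGen hK) h2 h8))

end core

end Cfsg.Agent.H916.Om
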