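import Cfsg.Agent.H916.Halving

/-!
# Anticommuting involutions in dimension two
-/

set_option autoImplicit false
set_option linter.unusedSectionVars false
set_option linter.unusedVariables false

namespace Cfsg.Agent.H916.Pauli

open Halving

/-- anticommuting -/
def An {A : Type*} [Ring A] (x y : A) : Prop := x * y = -(y * x)

theorem An.symm {A : Type*} [Ring A] {x y : A} (h : An x y) : An y x := by
  unfold An at h ⊢
  rw [h, neg_neg]

section two

variable {k W : Type*} [Field k] [AddCommGroup W] [Module k W]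

theorem An.of_smul {x y : Module.End k W} {c : k} (hc : c ≠ 0) (h : An x (c • y)) : An x y := by
  unfold An at h ⊢
  rw [mul_smul_comm, smul_mul_assoc, ← smul_neg] at h
  exact smul_right_injective _ hc h

variable [FiniteDimensional k W] (h2 : (2 : k) ≠ 0) (hW : Module.finrank k W = 2)

include h2 hW

/-- an eigenvector -/
theorem exists_e {a b : Module.End k W} (ha : a * a = 1) (hb : b * b = 1) (hab : An a b) :
    ∃ e : W, a e = e ∧ (∀ x, a x = x → ∃ c : k, x = c • e) ∧ ∀ x, ∃ α β : k, x = α • e + β • b e := by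
  have h := finrank_half h2 (W := ⊤) (A := a) (B := b) (a := 1) (b := 1) one_ne_zero one_ne_zero
    (fun _ _ => trivial) (fun _ _ => trivial) (by rw [ha, mul_one, one_smul]) (by rw [hb, one_smul]) hab
  rw [finrank_top, hW] at h
  have h1 : Module.finrank k (eig ⊤ a 1) = 1 := by omega
  rw [finrank_eq_one_iff'] at h1
  obtain ⟨e, -, hall⟩ := h1
  have he := e.2
  rw [mem_eig, one_smul] at he
  have hall' : ∀ x, a x = x → ∃ c : k, x = c • (e : W) := by
    intro x hx
    obtain ⟨c, hc⟩ := hall ⟨x, by rw [mem_eig, one_smul]; exact ⟨trivial, hx⟩⟩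
    exact ⟨c, (congrArg Subtype.val hc).symm⟩
  refine ⟨e, he.2, hall', fun x => ?_⟩
  have haa : ∀ x, a (a x) = x := fun x => by rw [← Module.End.mul_apply, ha, Module.End.one_apply]
  have hbb : ∀ x, b (b x) = x := fun x => by rw [← Module.End.mul_apply, hb, Module.End.one_apply]
  have habx : ∀ x, a (b x) = -b (a x) := fun x => by
    rw [← Module.End.mul_apply, hab, LinearMap.neg_apply, Module.End.mul_apply]
  obtain ⟨α, hα⟩ := hall' (x + a x) (by rw [map_add, haa, add_comm])
  obtain ⟨β, hβ⟩ := hall' (b (x - a x)) (by rw [habx, map_sub, haa, ← map_neg, neg_sub])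
  refine ⟨2⁻¹ * α, 2⁻¹ * β, ?_⟩
  have h3 : x - a x = β • b e := by rw [← map_smul, ← hβ, hbb]
  rw [mul_smul, mul_smul, ← hα, ← h3, ← smul_add, show x + a x + (x - a x) = (2 : k) • x by rw [two_smul]; abel,
    smul_smul, inv_mul_cancel₀ h2, one_smul]

/-- the operators anticommuting with `b` -/
theorem span_of_anti {a b c X : Module.End k W} (ha : a * a = 1) (hb : b * b = 1) (hc : c * c = 1) (hab : An a b)
    (hac : An a c) (hbc : An b c) (hX : An X b) : ∃ α β : k, X = α • a + β • c := by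
  obtain ⟨e, he, hall, hsp⟩ := exists_e h2 hW ha hb hab
  have hbb : ∀ x, b (b x) = x := fun x => by rw [← Module.End.mul_apply, hb, Module.End.one_apply]
  have hcc : ∀ x, c (c x) = x := fun x => by rw [← Module.End.mul_apply, hc, Module.End.one_apply]
  have habx : ∀ x, a (b x) = -b (a x) := fun x => by
    rw [← Module.End.mul_apply, hab, LinearMap.neg_apply, Module.End.mul_apply]
  have hacx : ∀ x, a (c x) = -c (a x) := fun x => by
    rw [← Module.End.mul_apply, hac, LinearMap.neg_apply, Module.End.mul_apply]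
  have hcbx : ∀ x, c (b x) = -b (c x) := fun x => by
    rw [← Module.End.mul_apply, hbc.symm, LinearMap.neg_apply, Module.End.mul_apply]
  have hXbx : ∀ x, X (b x) = -b (X x) := fun x => by
    rw [← Module.End.mul_apply, hX, LinearMap.neg_apply, Module.End.mul_apply]
  -- `c e = γ b e`
  obtain ⟨γ, hγ⟩ := hall (b (c e)) (by rw [habx, hacx, he, map_neg, neg_neg])
  have hce : c e = γ • b e := by rw [← map_smul, ← hγ, hbb]
  have hγ0 : γ ≠ 0 := by
    rintro rfl
    rw [zero_smul] at hce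
    have he0 : e = 0 := by rw [← hcc e, hce, map_zero]
    have h0 : ∀ x : W, x = 0 := by
      intro x
      obtain ⟨α, β, h⟩ := hsp x
      rw [h, he0, map_zero, smul_zero, smul_zero, add_zero]
    have : Subsingleton W := ⟨fun x y => by rw [h0 x, h0 y]⟩
    rw [Module.finrank_zero_of_subsingleton] at hW
    omega
  obtain ⟨α, β, hXe⟩ := hsp (X e)
  refine ⟨α, β * γ⁻¹, ?_⟩
  have h1 : X e = (α • a + (β * γ⁻¹) • c) e := by
    rw [LinearMap.add_apply, LinearMap.smul_apply, LinearMap.smul_apply, he, hce, smul_smul, mul_assoc,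
      inv_mul_cancel₀ hγ0, mul_one]
    exact hXe
  have h3 : X (b e) = (α • a + (β * γ⁻¹) • c) (b e) := by
    rw [hXbx, h1, LinearMap.add_apply, LinearMap.add_apply, LinearMap.smul_apply, LinearMap.smul_apply,
      LinearMap.smul_apply, LinearMap.smul_apply, habx, hcbx, map_add, map_smul, map_smul, smul_neg, smul_neg]
    abel
  ext x
  obtain ⟨μ, ν, rfl⟩ := hsp x
  rw [map_add, map_smul, map_smul, h1, h3, map_add, map_smul, map_smul]

theorem prop_of_anti {a b c X : Module.End k W} (ha : a * a = 1) (hb : b * b = 1) (hc : c * c = 1) (hab : An a b)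
    (hac : An a c) (hbc : An b c) (hXa : An X a) (hXb : An X b) : ∃ γ : k, X = γ • c := by
  obtain ⟨α, β, h⟩ := span_of_anti h2 hW ha hb hc hab hac hbc hXb
  refine ⟨β, ?_⟩
  have h1 : X * a + a * X = 0 := by rw [hXa]; abel
  have h3 : (2 * α) • (1 : Module.End k W) = 0 := by
    rw [← h1, h, add_mul, mul_add, smul_mul_assoc, smul_mul_assoc, mul_smul_comm, mul_smul_comm, ha,
      show a * c = -(c * a) from hac, smul_neg, two_mul, add_smul]
    abel
  have : Nontrivial W := Module.nontrivial_of_finrank_pos (R := k) (by rw [hW]; norm_num)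
  rcases smul_eq_zero.1 h3 with h4 | h4
  · have : α = 0 := by
      rcases mul_eq_zero.1 h4 with h5 | h5
      · exact absurd h5 h2
      · exact h5
    rw [h, this, zero_smul, zero_add]
  · exact absurd h4 one_ne_zero

theorem ne_zero_of_sq {X Y : Module.End k W} {γ : k} (hX : X * X = 1) (h : X = γ • Y) : γ ≠ 0 := by
  rintro rfl
  have : Nontrivial W := Module.nontrivial_of_finrank_pos (R := k) (by rw [hW]; norm_num)
  rw [h, zero_smul, mul_zero] at hX
  exact zero_ne_one hX

/-- a line disjoint from `{a, b, c}` -/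
theorem trio {a b c u v z : Module.End k W} (ha : a * a = 1) (hb : b * b = 1) (hc : c * c = 1) (hab : An a b)
    (hac : An a c) (hbc : An b c) (hu : u * u = 1) (hv : v * v = 1) (hz : z * z = 1) (hub : An u b) (hva : An v a)
    (hzc : An z c) (huv : An u v) (huz : An u z) (hvz : An v z) :
    ((∃ γ : k, u = γ • a) ∧ (∃ γ : k, v = γ • c) ∧ ∃ γ : k, z = γ • b) ∨
      ((∃ γ : k, u = γ • c) ∧ (∃ γ : k, v = γ • b) ∧ ∃ γ : k, z = γ • a) := by
  obtain ⟨α, β, h⟩ := span_of_anti h2 hW ha hb hc hab hac hbc hub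
  obtain ⟨γ, δ, h'⟩ := span_of_anti h2 hW hb ha hc hab.symm hbc hac hva
  have : Nontrivial W := Module.nontrivial_of_finrank_pos (R := k) (by rw [hW]; norm_num)
  have h0 : u * v + v * u = 0 := by rw [huv]; abel
  have hbd : (2 * (β * δ)) • (1 : Module.End k W) = 0 := by
    rw [← h0, h, h']
    simp only [add_mul, mul_add, smul_mul_assoc, mul_smul_comm, hc]
    rw [show a * b = -(b * a) from hab, show a * c = -(c * a) from hac, show b * c = -(c * b) from hbc]
    module
  have hbd0 : β * δ = 0 := by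
    rcases smul_eq_zero.1 hbd with h4 | h4
    · rcases mul_eq_zero.1 h4 with h5 | h5
      · exact absurd h5 h2
      · exact h5
    · exact absurd h4 one_ne_zero
  rcases mul_eq_zero.1 hbd0 with h5 | h5
  · left
    rw [h5, zero_smul, add_zero] at h
    have hα := ne_zero_of_sq h2 hW hu h
    have hza : An z a := An.of_smul hα (by rw [← h]; exact huz.symm)
    obtain ⟨ζ, hζ⟩ := prop_of_anti h2 hW ha hc hb hac hab hbc.symm hza hzc
    have hζ0 := ne_zero_of_sq h2 hW hz hζ
    have hvb : An v b := An.of_smul hζ0 (by rw [← hζ]; exact hvz)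
    exact ⟨⟨α, h⟩, prop_of_anti h2 hW ha hb hc hab hac hbc hva hvb, ζ, hζ⟩
  · right
    rw [h5, zero_smul, add_zero] at h'
    have hγ := ne_zero_of_sq h2 hW hv h'
    have hzb : An z b := An.of_smul hγ (by rw [← h']; exact hvz.symm)
    obtain ⟨ζ, hζ⟩ := prop_of_anti h2 hW hb hc ha hbc hab.symm hac.symm hzb hzc
    have hζ0 := ne_zero_of_sq h2 hW hz hζ
    have hua : An u a := An.of_smul hζ0 (by rw [← hζ]; exact huz)
    exact ⟨prop_of_anti h2 hW ha hb hc hab hac hbc hua hub, ⟨γ, h'⟩, ζ, hζ⟩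

theorem not_prop {a b u : Module.End k W} {γ δ : k} (hb : b * b = 1) (hab : An a b) (hu : u * u = 1)
    (h1 : u = γ • a) (h3 : u = δ • b) : False := by
  have : Nontrivial W := Module.nontrivial_of_finrank_pos (R := k) (by rw [hW]; norm_num)
  have hγ := ne_zero_of_sq h2 hW hu h1
  have h4 : a * b = b * a := by
    have h5 : γ • (a * b) = γ • (b * a) := by
      rw [← smul_mul_assoc, ← mul_smul_comm, ← h1, h3, smul_mul_assoc, mul_smul_comm]
    exact smul_right_injective _ hγ h5
  have h5 : (2 : k) • (b * a) = 0 := by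
    rw [two_smul]
    nth_rewrite 1 [← h4]
    rw [show a * b = -(b * a) from hab]
    abel
  rcases smul_eq_zero.1 h5 with h6 | h6
  · exact h2 h6
  · have h7 : a = 0 := by rw [← one_mul a, ← hb, mul_assoc, h6, mul_zero]
    rw [h1, h7, smul_zero, mul_zero] at hu
    exact zero_ne_one hu

theorem not_same {a u v : Module.End k W} {γ δ : k} (hu : u * u = 1) (hv : v * v = 1) (huv : An u v)
    (h1 : u = γ • a) (h3 : v = δ • a) : False := by
  have hδ := ne_zero_of_sq h2 hW hv h3
  exact not_prop (γ := γ * δ⁻¹) (δ := 1) h2 hW hu huv.symm hu (by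
    rw [h3, smul_smul, mul_assoc, inv_mul_cancel₀ hδ, mul_one]; exact h1) (by rw [one_smul])

/-- **No projective representation of `Sp₄(2)` with anticommuting lifts in dimension two.** -/
theorem no_rep {a b c u1 v1 z1 u2 z2 u3 v3 : Module.End k W} (ha : a * a = 1) (hb : b * b = 1) (hc : c * c = 1)
    (hab : An a b) (hac : An a c) (hbc : An b c)
    (hu1 : u1 * u1 = 1) (hv1 : v1 * v1 = 1) (hz1 : z1 * z1 = 1) (hu2 : u2 * u2 = 1) (hz2 : z2 * z2 = 1)
    (hu3 : u3 * u3 = 1) (hv3 : v3 * v3 = 1)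
    (hu1b : An u1 b) (hv1a : An v1 a) (hz1c : An z1 c) (hu2b : An u2 b) (hz2c : An z2 c) (hu3b : An u3 b)
    (hv3a : An v3 a) (h11 : An u1 v1) (h12 : An u1 z1) (h13 : An v1 z1)
    (h21 : An u2 v1) (h22 : An u2 z2) (h23 : An v1 z2) (h31 : An u3 v3) (h32 : An u3 z2) (h33 : An v3 z2)
    (h13' : An u1 u3) : False := by
  have t1 := trio h2 hW ha hb hc hab hac hbc hu1 hv1 hz1 hu1b hv1a hz1c h11 h12 h13
  have t2 := trio h2 hW ha hb hc hab hac hbc hu2 hv1 hz2 hu2b hv1a hz2c h21 h22 h23
  have t3 := trio h2 hW ha hb hc hab hac hbc hu3 hv3 hz2 hu3b hv3a hz2c h31 h32 h33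
  rcases t1 with ⟨⟨γ, p1⟩, ⟨δ, p2⟩, -⟩ | ⟨⟨γ, p1⟩, ⟨δ, p2⟩, -⟩
  · rcases t2 with ⟨-, -, ε, q3⟩ | ⟨-, ⟨δ', q2⟩, -⟩
    · rcases t3 with ⟨⟨ζ, r1⟩, -, -⟩ | ⟨-, -, ε', r3⟩
      · exact not_same h2 hW hu1 hu3 h13' p1 r1
      · exact not_prop h2 hW ha hab.symm hz2 q3 r3
    · exact not_prop h2 hW hb hbc.symm hv1 p2 q2
  · rcases t2 with ⟨-, ⟨δ', q2⟩, -⟩ | ⟨-, -, ε, q3⟩
    · exact not_prop h2 hW hb hbc.symm hv1 q2 p2
    · rcases t3 with ⟨-, -, ε', r3⟩ | ⟨⟨ζ, r1⟩, -, -⟩
      · exact not_prop h2 hW ha hab.symm hz2 r3 q3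
      · exact not_same h2 hW hu1 hu3 h13' p1 r1

end two

end Cfsg.Agent.H916.Pauli
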