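import Mathlib

/-!
Sets of unit vectors of `F^ι` (standard dot product, odd characteristic, finite field) closed under the
reflections in their members and containing the standard frame.
-/

set_option autoImplicit false

namespace Cfsg.Agent.H916.RootSet

variable {ι F : Type*} [Fintype ι] [DecidableEq ι] [Field F]

/-- The reflection in the unit vector `u`, as a function. -/
def rv (u v : ι → F) : ι → F := v - (2 * (u ⬝ᵥ v)) • u

omit [DecidableEq ι] in
theorem rv_apply (u v : ι → F) (i : ι) : rv u v i = v i - 2 * (u ⬝ᵥ v) * u i := rfl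

omit [DecidableEq ι] in
theorem rv_add (u v w : ι → F) : rv u (v + w) = rv u v + rv u w := by
  simp only [rv, dotProduct_add]
  module

omit [DecidableEq ι] in
theorem rv_smul (u : ι → F) (c : F) (v : ι → F) : rv u (c • v) = c • rv u v := by
  simp only [rv, dotProduct_smul, smul_eq_mul]
  module

omit [DecidableEq ι] in
theorem dot_rv {u : ι → F} (hu : u ⬝ᵥ u = 1) (v w : ι → F) : rv u v ⬝ᵥ rv u w = v ⬝ᵥ w := by
  simp only [rv, dotProduct_sub, sub_dotProduct, dotProduct_smul, smul_dotProduct, smul_eq_mul, hu,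
    dotProduct_comm v u]
  ring

omit [DecidableEq ι] in
theorem rv_rv {u : ι → F} (hu : u ⬝ᵥ u = 1) (v : ι → F) : rv u (rv u v) = v := by
  simp only [rv, dotProduct_sub, dotProduct_smul, smul_eq_mul, hu]
  module

omit [DecidableEq ι] in
theorem rv_self {u : ι → F} (hu : u ⬝ᵥ u = 1) : rv u u = -u := by
  rw [rv, hu]; module

omit [DecidableEq ι] in
theorem rv_perp {u v : ι → F} (h : u ⬝ᵥ v = 0) : rv u v = v := by
  rw [rv, h]; module

/-- The reflection, as a linear equivalence. -/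
def rf (u : ι → F) (hu : u ⬝ᵥ u = 1) : (ι → F) ≃ₗ[F] (ι → F) :=
  LinearEquiv.ofInvolutive
    { toFun := rv u
      map_add' := rv_add u
      map_smul' := rv_smul u } (rv_rv hu)

omit [DecidableEq ι] in
theorem rf_apply {u : ι → F} (hu : u ⬝ᵥ u = 1) (v : ι → F) : rf u hu v = rv u v := rfl

omit [DecidableEq ι] in
theorem rf_mul_self {u : ι → F} (hu : u ⬝ᵥ u = 1) : rf u hu * rf u hu = 1 := by
  ext v
  exact congrFun (rv_rv hu v) _

omit [DecidableEq ι] in
theorem rf_inv {u : ι → F} (hu : u ⬝ᵥ u = 1) : (rf u hu)⁻¹ = rf u hu :=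
  inv_eq_of_mul_eq_one_left (rf_mul_self hu)

omit [DecidableEq ι] in
/-- Conjugation of a reflection by an isometry. -/
theorem conj_rf {g : (ι → F) ≃ₗ[F] (ι → F)} (hg : ∀ v w, g v ⬝ᵥ g w = v ⬝ᵥ w) {u : ι → F}
    (hu : u ⬝ᵥ u = 1) : g * rf u hu * g⁻¹ = rf (g u) (by rw [hg, hu]) := by
  ext1 v
  show g (rv u (g⁻¹ v)) = rv (g u) v
  have e : g (g⁻¹ v) = v := LinearEquiv.apply_symm_apply g v
  have h1 : g u ⬝ᵥ v = u ⬝ᵥ g⁻¹ v := by rw [← hg u, e]
  rw [rv, rv, map_sub, map_smul, e, h1]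

/-- A set of unit vectors closed under its reflections. -/
structure Roots (R : Set (ι → F)) : Prop where
  unit : ∀ u ∈ R, u ⬝ᵥ u = 1
  closed : ∀ u ∈ R, ∀ v ∈ R, rv u v ∈ R

section Dihedral

variable {R : Set (ι → F)}

omit [DecidableEq ι] in
theorem Roots.neg (hR : Roots R) {u : ι → F} (hu : u ∈ R) : -u ∈ R := by
  have := hR.closed u hu u hu
  rwa [rv_self (hR.unit u hu)] at this

omit [DecidableEq ι] in
/-- `r_x` commutes with `r_v`: `x = ± v` or `x ⟂ v`. -/
theorem perp_or_of_comm (h2 : (2 : F) ≠ 0) {x v : ι → F} (hx : x ⬝ᵥ x = 1) (hv : v ⬝ᵥ v = 1)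
    (h : rf x hx * rf v hv = rf v hv * rf x hx) : x ⬝ᵥ v = 0 ∨ rf x hx = rf v hv := by
  by_cases h0 : x ⬝ᵥ v = 0
  · exact Or.inl h0
  right
  have h1 : rv x (rv v v) = rv v (rv x v) := LinearEquiv.congr_fun h v
  rw [rv_self hv] at h1
  -- `v` is a multiple of `x`
  have h3 : (4 * (x ⬝ᵥ v)) • x = (4 * (x ⬝ᵥ v) * (x ⬝ᵥ v)) • v := by
    simp only [rv, dotProduct_neg, dotProduct_sub, dotProduct_smul, smul_eq_mul, hv,
      dotProduct_comm v x] at h1
    have h4 := sub_eq_zero.2 h1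
    have e : (-v - (2 * -(x ⬝ᵥ v)) • x) - (v - (2 * (x ⬝ᵥ v)) • x -
        (2 * (1 - 2 * (x ⬝ᵥ v) * (x ⬝ᵥ v))) • v) = (4 * (x ⬝ᵥ v)) • x -
        (4 * (x ⬝ᵥ v) * (x ⬝ᵥ v)) • v := by module
    rw [e] at h4
    exact sub_eq_zero.1 h4
  have h4 : (4 * (x ⬝ᵥ v)) ≠ 0 := by
    have : (4 : F) = 2 * 2 := by norm_num
    rw [this]
    exact mul_ne_zero (mul_ne_zero h2 h2) h0
  have h5 : x = (x ⬝ᵥ v) • v := by
    rw [mul_smul (4 * (x ⬝ᵥ v)) (x ⬝ᵥ v) v] at h3
    exact smul_right_injective _ h4 h3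
  have h6 : (x ⬝ᵥ v) * (x ⬝ᵥ v) = 1 := by
    have := hx
    conv_lhs at this => rw [h5]
    rw [smul_dotProduct, dotProduct_smul, hv] at this
    simpa [smul_eq_mul] using this
  ext1 w
  show rv x w = rv v w
  have h7 : ∀ y, rv x y = rv ((x ⬝ᵥ v) • v) y := fun y => by
    conv_lhs => rw [h5]
  rw [h7, rv, rv, smul_dotProduct, smul_smul, smul_eq_mul]
  have h8 : 2 * (x ⬝ᵥ v * (v ⬝ᵥ w)) * (x ⬝ᵥ v) = 2 * (v ⬝ᵥ w) := by
    linear_combination (2 * (v ⬝ᵥ w)) * h6
  rw [h8]

omit [DecidableEq ι] in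
/-- The reflections of the dihedral group generated by `r_u`, `r_v`. -/
theorem Roots.pow_mul (hR : Roots R) {u v : ι → F} (hu : u ∈ R) (hv : v ∈ R) (j : ℕ) :
    ∃ x ∈ R, ∃ hx : x ⬝ᵥ x = 1, x ∈ Submodule.span F {u, v} ∧
      (rf u (hR.unit u hu) * rf v (hR.unit v hv)) ^ j * rf u (hR.unit u hu) = rf x hx := by
  have hu1 := hR.unit u hu
  have hv1 := hR.unit v hv
  have hspan : ∀ x ∈ Submodule.span F {u, v}, ∀ y ∈ Submodule.span F ({u, v} : Set (ι → F)),
      rv x y ∈ Submodule.span F {u, v} := by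
    intro x hx y hy
    rw [rv]
    exact Submodule.sub_mem _ hy (Submodule.smul_mem _ _ hx)
  have hus : u ∈ Submodule.span F ({u, v} : Set (ι → F)) := Submodule.subset_span (by simp)
  have hvs : v ∈ Submodule.span F ({u, v} : Set (ι → F)) := Submodule.subset_span (by simp)
  induction j using Nat.strong_induction_on with
  | _ j ih =>
    match j with
    | 0 => exact ⟨u, hu, hu1, hus, by rw [pow_zero, one_mul]⟩
    | 1 =>
      have h1 : rv u v ⬝ᵥ rv u v = 1 := by rw [dot_rv hu1, hv1]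
      refine ⟨rv u v, hR.closed u hu v hv, h1, hspan u hus v hvs, ?_⟩
      have h2 := conj_rf (g := rf u hu1) (fun a b => dot_rv hu1 a b) hv1
      rw [rf_inv hu1] at h2
      rw [pow_one]
      exact h2
    | (j + 2) =>
      obtain ⟨x, hx, hx1, hxs, e⟩ := ih j (by omega)
      have h1 : rv u (rv v x) ⬝ᵥ rv u (rv v x) = 1 := by rw [dot_rv hu1, dot_rv hv1, hx1]
      refine ⟨rv u (rv v x), hR.closed u hu _ (hR.closed v hv x hx), h1,
        hspan u hus _ (hspan v hvs x hxs), ?_⟩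
      have h2 := conj_rf (g := rf u hu1 * rf v hv1)
        (fun a b => (dot_rv hu1 _ _).trans (dot_rv hv1 _ _)) hx1
      have h3 : (rf u hu1 * rf v hv1)⁻¹ = rf v hv1 * rf u hu1 := by
        rw [_root_.mul_inv_rev, rf_inv, rf_inv]
      rw [h3, ← e] at h2
      have h4 : (rf u hu1 * rf v hv1) ^ (j + 2) * rf u hu1 =
          rf u hu1 * rf v hv1 * ((rf u hu1 * rf v hv1) ^ j * rf u hu1) * (rf v hv1 * rf u hu1) := by
        have h5 : rf u hu1 * (rf v hv1 * rf u hu1) = (rf u hu1 * rf v hv1) * rf u hu1 := by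
          rw [mul_assoc]
        rw [mul_assoc (rf u hu1 * rf v hv1), mul_assoc ((rf u hu1 * rf v hv1) ^ j), h5,
          pow_add, pow_two]
        have h6 : (rf u hu1 * rf v hv1) ^ j * (rf u hu1 * rf v hv1) =
            (rf u hu1 * rf v hv1) * (rf u hu1 * rf v hv1) ^ j := by
          rw [← pow_succ, ← pow_succ']
        calc _ = (rf u hu1 * rf v hv1) ^ j * (rf u hu1 * rf v hv1) * (rf u hu1 * rf v hv1) *
            rf u hu1 := by simp only [mul_assoc]
          _ = _ := by rw [h6]; simp only [mul_assoc]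
      rw [h4]
      exact h2

omit [DecidableEq ι] in
/-- **The dihedral dichotomy.** -/
theorem Roots.dihedral [Finite F] (h2 : (2 : F) ≠ 0) (hR : Roots R) {u v : ι → F} (hu : u ∈ R)
    (hv : v ∈ R) :
    (∃ x ∈ R, rv x v = u ∨ rv x v = -u) ∨
      (∃ x ∈ R, x ∈ Submodule.span F {u, v} ∧ x ⬝ᵥ v = 0) := by
  have hu1 := hR.unit u hu
  have hv1 := hR.unit v hv
  set ρ := rf u hu1 * rf v hv1 with hρ
  have hfin : Finite ((ι → F) ≃ₗ[F] (ι → F)) :=
    Finite.of_injective (fun g : (ι → F) ≃ₗ[F] (ι → F) => (g : (ι → F) → (ι → F)))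
      DFunLike.coe_injective
  have hord : ρ ^ orderOf ρ = 1 := pow_orderOf_eq_one ρ
  have hpos : 0 < orderOf ρ := orderOf_pos ρ
  -- conjugation by `r_u` inverts `ρ`
  have hconj : rf u hu1 * ρ = ρ⁻¹ * rf u hu1 := by
    rw [hρ, _root_.mul_inv_rev, rf_inv, rf_inv, ← mul_assoc, rf_mul_self, one_mul, mul_assoc,
      rf_mul_self, mul_one]
  have hconjn : ∀ n : ℕ, rf u hu1 * ρ ^ n = (ρ⁻¹) ^ n * rf u hu1 := by
    intro n
    induction n with
    | zero => rw [pow_zero, pow_zero, mul_one, one_mul]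
    | succ n ih => rw [pow_succ, ← mul_assoc, ih, mul_assoc, hconj, pow_succ, mul_assoc]
  rcases Nat.even_or_odd (orderOf ρ) with ⟨k, hk⟩ | ⟨k, hk⟩
  · right
    -- `z = ρ^k`, `k = k' + 1`
    obtain ⟨k', rfl⟩ : ∃ k', k = k' + 1 := ⟨k - 1, by omega⟩
    obtain ⟨x, hx, hx1, hxs, e⟩ := hR.pow_mul hu hv k'
    replace e : ρ ^ k' * rf u hu1 = rf x hx1 := e
    refine ⟨x, hx, hxs, ?_⟩
    set z := ρ ^ (k' + 1) with hz
    have hz2 : z * z = 1 := by rw [hz, ← pow_add, ← hk, hord]
    have hz1 : z ≠ 1 := by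
      intro h
      have := orderOf_le_of_pow_eq_one (by omega : 0 < k' + 1) h
      omega
    have hzv : z * rf v hv1 = rf x hx1 := by
      rw [← e, hz, pow_succ, mul_assoc, hρ, mul_assoc, rf_mul_self, mul_one]
    -- `z` commutes with `r_v`
    have hzu : rf u hu1 * z = z * rf u hu1 := by
      rw [hz, hconjn]
      congr 1
      have : ρ ^ (k' + 1) * ρ ^ (k' + 1) = 1 := hz2
      rw [inv_pow]
      exact inv_eq_of_mul_eq_one_left this
    have hzρ : ρ * z = z * ρ := by rw [hz, ← pow_succ', ← pow_succ]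
    have hzv' : rf v hv1 * z = z * rf v hv1 := by
      have h3 : rf v hv1 = rf u hu1 * ρ := by
        rw [hρ, ← mul_assoc, rf_mul_self, one_mul]
      rw [h3, mul_assoc, hzρ, ← mul_assoc, hzu, mul_assoc]
    have hcomm : rf x hx1 * rf v hv1 = rf v hv1 * rf x hx1 := by
      rw [← hzv, mul_assoc, rf_mul_self, mul_one, ← mul_assoc, hzv', mul_assoc, rf_mul_self,
        mul_one]
    rcases perp_or_of_comm h2 hx1 hv1 hcomm with h3 | h3
    · exact h3
    · exfalso
      apply hz1
      rw [← hzv] at h3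
      have := congrArg (fun g => g * rf v hv1) h3
      simp only [mul_assoc, rf_mul_self, mul_one] at this
      exact this
  · left
    obtain ⟨x, hx, hx1, hxs, e⟩ := hR.pow_mul hu hv k
    replace e : ρ ^ k * rf u hu1 = rf x hx1 := e
    refine ⟨x, hx, ?_⟩
    -- `r_x r_v r_x = r_u`
    have h3 : rf x hx1 * rf v hv1 * (rf x hx1)⁻¹ = rf u hu1 := by
      rw [← e]
      have h4 : rf v hv1 = rf u hu1 * ρ := by
        rw [hρ, ← mul_assoc, rf_mul_self, one_mul]
      rw [h4, _root_.mul_inv_rev, rf_inv]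
      have h5 : ρ ^ k * rf u hu1 * (rf u hu1 * ρ) * (rf u hu1 * (ρ ^ k)⁻¹) =
          ρ ^ k * ρ * (rf u hu1 * (ρ ^ k)⁻¹) := by
        have h6 : rf u hu1 * (rf u hu1 * ρ) = ρ := by rw [← mul_assoc, rf_mul_self, one_mul]
        rw [mul_assoc (ρ ^ k) (rf u hu1), h6]
      show ρ ^ k * rf u hu1 * (rf u hu1 * ρ) * (rf u hu1 * (ρ ^ k)⁻¹) = rf u hu1
      rw [h5]
      have h7 : rf u hu1 * (ρ ^ k)⁻¹ = ρ ^ k * rf u hu1 := by
        have h8 := hconjn k
        rw [inv_pow] at h8
        rw [mul_inv_eq_iff_eq_mul, mul_assoc, h8, ← mul_assoc, mul_inv_cancel, one_mul]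
      rw [h7, ← pow_succ, ← mul_assoc, ← pow_add]
      have h10 : k + 1 + k = orderOf ρ := by omega
      rw [h10, hord, one_mul]
    rw [conj_rf (g := rf x hx1) (fun a b => dot_rv hx1 a b) hv1] at h3
    have h4 : rv (rv x v) (rv x v) = rv u (rv x v) := LinearEquiv.congr_fun h3 (rv x v)
    have hw1 : rv x v ⬝ᵥ rv x v = 1 := by rw [dot_rv hx1, hv1]
    rw [rv_self hw1] at h4
    set w := rv x v with hw
    have h5 : w = (u ⬝ᵥ w) • u := by
      have h6 : (2 : F) • w = (2 : F) • ((u ⬝ᵥ w) • u) := by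
        rw [rv] at h4
        have h7 := sub_eq_zero.2 h4
        have e' : -w - (w - (2 * (u ⬝ᵥ w)) • u) = -((2 : F) • w - (2 : F) • ((u ⬝ᵥ w) • u)) := by
          module
        rw [e', neg_eq_zero] at h7
        exact sub_eq_zero.1 h7
      exact smul_right_injective _ h2 h6
    have h6 : (u ⬝ᵥ w) * (u ⬝ᵥ w) = 1 := by
      have := hw1
      rw [h5, smul_dotProduct, dotProduct_smul, hu1] at this
      simpa [smul_eq_mul] using this
    rcases mul_self_eq_one_iff.1 h6 with h7 | h7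
    · left; rw [h5, h7, one_smul]
    · right; rw [h5, h7, neg_one_smul]

end Dihedral

/-! ### Reduction of the support -/

/-- The support of a vector. -/
def supp [DecidableEq F] (u : ι → F) : Finset ι := Finset.univ.filter fun i => u i ≠ 0

omit [DecidableEq ι] in
theorem mem_supp [DecidableEq F] {u : ι → F} {i : ι} : i ∈ supp u ↔ u i ≠ 0 := by
  simp [supp]

theorem single_dot (i : ι) (v : ι → F) : (Pi.single i (1 : F) : ι → F) ⬝ᵥ v = v i := by
  rw [single_one_dotProduct]

theorem dot_single (i : ι) (v : ι → F) : v ⬝ᵥ (Pi.single i (1 : F) : ι → F) = v i := by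
  rw [dotProduct_single_one]

/-- A root with full support on `S`, `6 ≤ |S|`, gives one with smaller support. -/
theorem no_full [Finite F] [DecidableEq F] (h2 : (2 : F) ≠ 0) {R : Set (ι → F)} (hR : Roots R)
    (he : ∀ i, (Pi.single i (1 : F) : ι → F) ∈ R) (S : Finset ι) (hS : 6 ≤ S.card)
    (hmin : ∀ u ∈ R, (∀ i ∉ S, u i = 0) → (∃ i ∈ S, u i = 0) → (supp u).card ≤ 2)
    {w : ι → F} (hw : w ∈ R) (hwS : ∀ i ∉ S, w i = 0) (hw0 : ∀ i ∈ S, w i ≠ 0) : False := by
  classical
  obtain ⟨T, hTS, hT3⟩ := Finset.exists_subset_card_eq (show 3 ≤ S.card by omega)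
  obtain ⟨i, j, k, hij, hik, hjk, rfl⟩ := Finset.card_eq_three.1 hT3
  have hi : i ∈ S := hTS (by simp)
  have hj : j ∈ S := hTS (by simp)
  have hk : k ∈ S := hTS (by simp)
  have hw1 := hR.unit w hw
  -- the image of `e_j`
  set a : ι → F := rv w (Pi.single j 1) with ha
  have haR : a ∈ R := hR.closed w hw _ (he j)
  have ha_apply : ∀ l, a l = (Pi.single j (1 : F) : ι → F) l - 2 * w j * w l := by
    intro l
    rw [ha, rv_apply, dot_single]
  have haS : ∀ l ∉ S, a l = 0 := by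
    intro l hl
    rw [ha_apply, hwS l hl, Pi.single_eq_of_ne (fun h => hl (by rw [h]; exact hj))]
    ring
  have hne : ∀ l ∈ S, l ≠ j → a l ≠ 0 := by
    intro l hl hlj
    rw [ha_apply, Pi.single_eq_of_ne hlj, zero_sub]
    exact neg_ne_zero.2 (mul_ne_zero (mul_ne_zero h2 (hw0 j hj)) (hw0 l hl))
  have hbig : ∀ (u : ι → F) (m : ι), (∀ l ∈ S, l ≠ m → u l ≠ 0) → 5 ≤ (supp u).card := by
    intro u m h
    have h1 : S.erase m ⊆ supp u := by
      intro l hl
      rw [Finset.mem_erase] at hl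
      exact mem_supp.2 (h l hl.2 hl.1)
    have h3 := Finset.card_le_card h1
    have h4 := Finset.pred_card_le_card_erase (s := S) (a := m)
    omega
  have ha0 : ∀ l ∈ S, a l ≠ 0 := by
    intro l hl h0
    have h1 := hmin a haR haS ⟨l, hl, h0⟩
    have h3 := hbig a j hne
    omega
  have hei1 : (Pi.single i (1 : F) : ι → F) ⬝ᵥ (Pi.single i (1 : F) : ι → F) = 1 := by
    rw [single_dot, Pi.single_eq_same]
  -- the general form of the vectors
  rcases hR.dihedral h2 haR (he i) with ⟨x, hx, hxe⟩ | ⟨x, hx, hxs, hxi⟩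
  · obtain ⟨ε, hε, hxε⟩ : ∃ ε : F, ε * ε = 1 ∧ rv x (Pi.single i 1) = ε • a := by
      rcases hxe with h | h
      · exact ⟨1, by ring, by rw [h, one_smul]⟩
      · exact ⟨-1, by ring, by rw [h, neg_one_smul]⟩
    have hx1 := hR.unit x hx
    have hxa : (2 * x i) • x = Pi.single i 1 - ε • a := by
      rw [← hxε, rv, dot_single]
      module
    have hxi : x i ≠ 0 := by
      intro h0
      rw [h0, mul_zero, zero_smul] at hxa
      have h1 := congrFun hxa j
      rw [Pi.zero_apply, Pi.sub_apply, Pi.smul_apply, Pi.single_eq_of_ne hij.symm, zero_sub,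
        smul_eq_mul] at h1
      have h3 : ε * a j = 0 := by rw [← neg_eq_zero, ← h1]
      rcases mul_eq_zero.1 h3 with h4 | h4
      · rw [h4, zero_mul] at hε
        exact zero_ne_one hε
      · exact ha0 j hj h4
    have h2x : 2 * x i ≠ 0 := mul_ne_zero h2 hxi
    -- the image of `e_k`
    set a' : ι → F := rv w (Pi.single k 1) with ha'
    set b := rv x a' with hb
    have hbR : b ∈ R := hR.closed x hx _ (hR.closed w hw _ (he k))
    have ha'_apply : ∀ l, a' l = (Pi.single k (1 : F) : ι → F) l - 2 * w k * w l := by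
      intro l
      rw [ha', rv_apply, dot_single]
    have hbi : b i = 0 := by
      have h1 : b ⬝ᵥ rv x (ε • a) = 0 := by
        rw [hb, dot_rv hx1, dotProduct_smul, ha', ha, dot_rv hw1, single_dot,
          Pi.single_eq_of_ne hjk.symm, smul_zero]
      rw [← hxε, rv_rv hx1, dot_single] at h1
      exact h1
    set μ : F := 2 * (x ⬝ᵥ a') * (2 * x i)⁻¹ with hμ
    have hbeq : ∀ l, b l = (Pi.single k (1 : F) : ι → F) l - μ * (Pi.single i (1 : F) : ι → F) l +
        μ * ε * (Pi.single j (1 : F) : ι → F) l - 2 * (w k + μ * ε * w j) * w l := by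
      intro l
      have h1 : (2 * x i) * x l = (Pi.single i (1 : F) : ι → F) l - ε * a l := by
        have := congrFun hxa l
        simpa [smul_eq_mul] using this
      have h3 : b l = a' l - μ * ((2 * x i) * x l) := by
        rw [hb, rv_apply, hμ]
        field_simp
      rw [h3, h1, ha'_apply, ha_apply]
      ring
    have hbS : ∀ l ∉ S, b l = 0 := by
      intro l hl
      have hlk : l ≠ k := fun h => hl (by rw [h]; exact hk)
      have hlj : l ≠ j := fun h => hl (by rw [h]; exact hj)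
      have hli : l ≠ i := fun h => hl (by rw [h]; exact hi)
      rw [hbeq, hwS l hl, Pi.single_eq_of_ne hlk, Pi.single_eq_of_ne hli, Pi.single_eq_of_ne hlj]
      ring
    have hb2 := hmin b hbR hbS ⟨i, hi, hbi⟩
    -- a coordinate outside everything
    obtain ⟨l, hl, hlT⟩ : ∃ l ∈ S, l ∉ ({i, j, k} : Finset ι) ∪ supp b := by
      by_contra hcon
      push Not at hcon
      have h1 : S ⊆ ({i, j, k} : Finset ι) ∪ supp b := hcon
      have h3 := Finset.card_le_card h1
      have h4 := Finset.card_union_le ({i, j, k} : Finset ι) (supp b)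
      omega
    rw [Finset.mem_union, not_or] at hlT
    obtain ⟨hl1, hl2⟩ := hlT
    have hbl : b l = 0 := by
      by_contra h
      exact hl2 (mem_supp.2 h)
    have hl1' : l ≠ i ∧ l ≠ j ∧ l ≠ k := by
      refine ⟨?_, ?_, ?_⟩ <;> rintro rfl <;> exact hl1 (by simp)
    have hν : w k + μ * ε * w j = 0 := by
      have h1 := hbeq l
      rw [hbl, Pi.single_eq_of_ne hl1'.1, Pi.single_eq_of_ne hl1'.2.1,
        Pi.single_eq_of_ne hl1'.2.2] at h1
      have h3 : (2 * w l) * (w k + μ * ε * w j) = 0 := by linear_combination h1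
      exact (mul_eq_zero.1 h3).resolve_left (mul_ne_zero h2 (hw0 l hl))
    have hμ0 : μ = 0 := by
      have h1 := hbeq i
      rw [hbi, hν, Pi.single_eq_of_ne hik, Pi.single_eq_same, Pi.single_eq_of_ne hij] at h1
      linear_combination h1
    rw [hμ0] at hν
    apply hw0 k hk
    linear_combination hν
  · obtain ⟨α, β, hαβ⟩ := Submodule.mem_span_pair.1 hxs
    have hx1 := hR.unit x hx
    rw [dot_single] at hxi
    have hxl : ∀ l, l ≠ i → x l = α * a l := by
      intro l hl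
      rw [← hαβ, Pi.add_apply, Pi.smul_apply, Pi.smul_apply, Pi.single_eq_of_ne hl]
      simp
    have hα : α ≠ 0 := by
      rintro rfl
      have h1 : x = 0 := by
        funext l
        by_cases hl : l = i
        · rw [hl, hxi]; rfl
        · rw [hxl l hl, zero_mul]; rfl
      rw [h1, zero_dotProduct] at hx1
      exact zero_ne_one hx1
    have h1 := hmin x hx (fun l hl => by
      rw [hxl l (fun h => hl (by rw [h]; exact hi)), haS l hl, mul_zero]) ⟨i, hi, hxi⟩
    have h3 := hbig x i (fun l hl hli => by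
      rw [hxl l hli]
      exact mul_ne_zero hα (ha0 l hl))
    omega

/-- **A root with support of size at least three gives one with support of size between three and five.** -/
theorem exists_small_support [Finite F] [DecidableEq F] (h2 : (2 : F) ≠ 0) {R : Set (ι → F)}
    (hR : Roots R) (he : ∀ i, (Pi.single i (1 : F) : ι → F) ∈ R) {w : ι → F} (hw : w ∈ R)
    (h3 : 3 ≤ (supp w).card) : ∃ u ∈ R, 3 ≤ (supp u).card ∧ (supp u).card ≤ 5 := by
  classical
  -- minimal support
  obtain ⟨u, ⟨huR, hu3⟩, hmin⟩ : ∃ u, (u ∈ R ∧ 3 ≤ (supp u).card) ∧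
      ∀ v, (v ∈ R ∧ 3 ≤ (supp v).card) → (supp u).card ≤ (supp v).card := by
    have h := WellFounded.has_min (InvImage.wf (fun u : ι → F => (supp u).card) Nat.lt_wfRel.wf)
      {u | u ∈ R ∧ 3 ≤ (supp u).card} ⟨w, hw, h3⟩
    obtain ⟨u, hu, hu'⟩ := h
    exact ⟨u, hu, fun v hv => not_lt.1 (hu' v hv)⟩
  refine ⟨u, huR, hu3, ?_⟩
  by_contra hgt
  push Not at hgt
  refine no_full h2 hR he (supp u) hgt ?_ huR (fun i hi => ?_) (fun i hi => mem_supp.1 hi)
  · intro v hv hvS ⟨i, hi, hvi⟩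
    by_contra hv3
    push Not at hv3
    have h1 := hmin v ⟨hv, hv3⟩
    have h4 : supp v ⊆ (supp u).erase i := by
      intro l hl
      rw [Finset.mem_erase]
      refine ⟨fun h => mem_supp.1 hl (by rw [h]; exact hvi), ?_⟩
      by_contra h
      exact mem_supp.1 hl (hvS l h)
    have h5 := Finset.card_le_card h4
    rw [Finset.card_erase_of_mem hi] at h5
    omega
  · by_contra h
    exact hi (mem_supp.2 h)

end Cfsg.Agent.H916.RootSet
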