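import Cfsg.Agent.H916.SpSixC

/-!
# Projective representations and the transvections of `Sp₆(2)`: signs
-/

set_option autoImplicit false
set_option linter.unusedSectionVars false
set_option linter.unusedVariables false

namespace Cfsg.Agent.H916.SpSix

/-- a faithful projective representation, given by the sets of lifts -/
structure PRep (T k V : Type*) [Group T] [Field k] [AddCommGroup V] [Module k V] where
  L : T → Set (Module.End k V)
  mul : ∀ {s t : T} {A B : Module.End k V}, A ∈ L s → B ∈ L t → A * B ∈ L (s * t)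
  smul : ∀ {t : T} {A : Module.End k V} {c : k}, c ≠ 0 → A ∈ L t → c • A ∈ L t
  ex : ∀ t, (L t).Nonempty
  one : ∀ {A : Module.End k V}, A ∈ L 1 → ∃ c : k, c ≠ 0 ∧ A = c • 1
  inj : ∀ {t : T} {c : k}, (c • (1 : Module.End k V)) ∈ L t → t = 1

/-- the transvections of `Sp₆(2)` -/
structure SpData {T : Type*} [Group T] (t : ℕ → T) : Prop where
  sq : ∀ {v : ℕ}, 0 < v → v < 64 → t v * t v = 1
  cj : ∀ {v w : ℕ}, 0 < v → v < 64 → 0 < w → w < 64 → t v * t w * t v = t (rf v w)
  fano : t 1 * t 2 * t 3 * t 4 * t 5 * t 6 * t 7 = 1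
  ne : t 1 * t 2 * t 3 ≠ 1

section paths

def fz (p : ℕ → Bool) : ℕ := ((List.range 64).find? p).getD 0

def toOne (v : ℕ) : List ℕ :=
  if v = 1 then [] else if om 1 v then [1 ^^^ v] else
    [v ^^^ fz (fun z => om z 1 && om z v), fz (fun z => om z 1 && om z v) ^^^ 1]

def toTwo (w : ℕ) : List ℕ :=
  if w = 2 then [] else if om 2 w then [2 ^^^ w] else
    [w ^^^ fz (fun z => !(om z 1) && (om z 2 && om z w)), fz (fun z => !(om z 1) && (om z 2 && om z w)) ^^^ 2]

def act : List ℕ → ℕ → ℕ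
  | [], v => v
  | x :: l, v => act l (rf x v)

def pth (v w : ℕ) : List ℕ := toOne v ++ toTwo (act (toOne v) w)

theorem pth_ok : ∀ v w : Fin 64, v ≠ 0 → w ≠ 0 → v ≠ w → om v w = false →
    act (pth v w) v = 1 ∧ act (pth v w) w = 2 ∧ (pth v w).all (fun x => decide (0 < x ∧ x < 64)) = true := by
  decide +kernel

end paths

section PR

variable {T k V : Type*} [Group T] [Field k] [AddCommGroup V] [Module k V] (R : PRep T k V)

include R in
theorem PRep.prop_of {t : T} {A B : Module.End k V} (hA : A ∈ R.L t) (hB : B ∈ R.L t) :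
    ∃ c : k, c ≠ 0 ∧ A = c • B := by
  obtain ⟨C, hC⟩ := R.ex t⁻¹
  have h1 := R.mul hC hA
  have h2 := R.mul hC hB
  have h3 := R.mul hB hC
  rw [inv_mul_cancel] at h1 h2
  rw [mul_inv_cancel] at h3
  obtain ⟨a, ha, h1⟩ := R.one h1
  obtain ⟨b, hb, h2⟩ := R.one h2
  obtain ⟨d, hd, h3⟩ := R.one h3
  refine ⟨a / d, div_ne_zero ha hd, ?_⟩
  have h4 : d • A = a • B := by
    calc d • A = (B * C) * A := by rw [h3, smul_mul_assoc, one_mul]
      _ = B * (C * A) := by rw [mul_assoc]
      _ = a • B := by rw [h1, mul_smul_comm, mul_one]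
  rw [div_eq_inv_mul, mul_smul, ← h4, smul_smul, inv_mul_cancel₀ hd, one_smul]

include R in
theorem PRep.ne_zero [Nontrivial V] {t : T} {A : Module.End k V} (hA : A ∈ R.L t) : A ≠ 0 := by
  obtain ⟨C, hC⟩ := R.ex t⁻¹
  have h1 := R.mul hC hA
  rw [inv_mul_cancel] at h1
  obtain ⟨a, ha, h1⟩ := R.one h1
  intro h0
  rw [h0, mul_zero] at h1
  exact ha (by
    have := smul_eq_zero.1 h1.symm
    rcases this with h | h
    · exact h
    · exact absurd h one_ne_zero)

include R in
theorem PRep.exists_inv [IsAlgClosed k] {t : T} (ht : t * t = 1) : ∃ A ∈ R.L t, A * A = 1 := by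
  obtain ⟨A, hA⟩ := R.ex t
  have h1 := R.mul hA hA
  rw [ht] at h1
  obtain ⟨c, hc, h1⟩ := R.one h1
  obtain ⟨d, hd⟩ := IsAlgClosed.exists_pow_nat_eq c⁻¹ (n := 2) (by norm_num)
  have hd0 : d ≠ 0 := by
    rintro rfl
    rw [zero_pow (by norm_num)] at hd
    exact inv_ne_zero hc hd.symm
  refine ⟨d • A, R.smul hd0 hA, ?_⟩
  rw [smul_mul_smul_comm, h1, smul_smul, ← sq, hd, inv_mul_cancel₀ hc, one_smul]

theorem smul_one_inj [Nontrivial V] {a b : k} (h : a • (1 : Module.End k V) = b • 1) : a = b := by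
  obtain ⟨v, hv⟩ := exists_ne (0 : V)
  have := LinearMap.congr_fun h v
  simp only [LinearMap.smul_apply, Module.End.one_apply] at this
  exact smul_left_injective k hv this

theorem eq_or_neg_of_smul [Nontrivial V] {c : k} {A B : Module.End k V} (hA : A * A = 1) (hB : B * B = 1)
    (h : A = c • B) : A = B ∨ A = -B := by
  have h1 : (c * c) • (1 : Module.End k V) = (1 : k) • 1 := by
    calc (c * c) • (1 : Module.End k V) = (c * c) • (B * B) := by rw [hB]
      _ = A * A := by rw [h, smul_mul_smul_comm]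
      _ = (1 : k) • 1 := by rw [hA, one_smul]
  have h2 := smul_one_inj h1
  rcases mul_self_eq_one_iff.1 h2 with h3 | h3
  · left; rw [h, h3, one_smul]
  · right; rw [h, h3, neg_one_smul]

include R in
theorem PRep.unique [Nontrivial V] {t : T} {A B : Module.End k V} (hA : A ∈ R.L t) (hB : B ∈ R.L t)
    (hA2 : A * A = 1) (hB2 : B * B = 1) : A = B ∨ A = -B := by
  obtain ⟨c, -, h⟩ := R.prop_of hA hB
  exact eq_or_neg_of_smul hA2 hB2 h

/-- the lifts commute -/
def PRep.CommL (s t : T) : Prop := ∀ A ∈ R.L s, ∀ B ∈ R.L t, A * B = B * A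

/-- the lifts anticommute -/
def PRep.AntiL (s t : T) : Prop := ∀ A ∈ R.L s, ∀ B ∈ R.L t, A * B = -(B * A)

theorem PRep.comm_of {s t : T} {A B : Module.End k V} (hA : A ∈ R.L s) (hB : B ∈ R.L t) (h : A * B = B * A) :
    R.CommL s t := by
  intro A' hA' B' hB'
  obtain ⟨a, -, rfl⟩ := R.prop_of hA' hA
  obtain ⟨b, -, rfl⟩ := R.prop_of hB' hB
  rw [smul_mul_smul_comm, smul_mul_smul_comm, h, mul_comm a b]

theorem PRep.anti_of {s t : T} {A B : Module.End k V} (hA : A ∈ R.L s) (hB : B ∈ R.L t) (h : A * B = -(B * A)) :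
    R.AntiL s t := by
  intro A' hA' B' hB'
  obtain ⟨a, -, rfl⟩ := R.prop_of hA' hA
  obtain ⟨b, -, rfl⟩ := R.prop_of hB' hB
  rw [smul_mul_smul_comm, smul_mul_smul_comm, h, mul_comm a b, smul_neg]

theorem PRep.comm_or_anti [IsAlgClosed k] [Nontrivial V] {s t : T} (hs : s * s = 1) (ht : t * t = 1)
    (hst : s * t * s = t) : R.CommL s t ∨ R.AntiL s t := by
  obtain ⟨A, hA, hA2⟩ := R.exists_inv hs
  obtain ⟨B, hB, hB2⟩ := R.exists_inv ht
  have h1 := R.mul (R.mul hA hB) hA
  rw [hst] at h1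
  have h2 : (A * B * A) * (A * B * A) = 1 := by
    calc (A * B * A) * (A * B * A) = A * B * (A * A) * B * A := by simp only [mul_assoc]
      _ = A * (B * B) * A := by rw [hA2, mul_one]; simp only [mul_assoc]
      _ = 1 := by rw [hB2, mul_one, hA2]
  rcases R.unique h1 hB h2 hB2 with h | h
  · left
    apply R.comm_of hA hB
    calc A * B = A * B * (A * A) := by rw [hA2, mul_one]
      _ = (A * B * A) * A := by simp only [mul_assoc]
      _ = B * A := by rw [h]
  · right
    apply R.anti_of hA hB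
    calc A * B = A * B * (A * A) := by rw [hA2, mul_one]
      _ = (A * B * A) * A := by simp only [mul_assoc]
      _ = -(B * A) := by rw [h, neg_mul]

theorem PRep.comm_conj [IsAlgClosed k] {s t x : T} (hx : x * x = 1) (h : R.CommL (x * s * x) (x * t * x)) :
    R.CommL s t := by
  intro A hA B hB
  obtain ⟨X, hX, hX2⟩ := R.exists_inv hx
  have h1 := h _ (R.mul (R.mul hX hA) hX) _ (R.mul (R.mul hX hB) hX)
  have h2 : X * (A * B) * X = X * (B * A) * X := by
    calc X * (A * B) * X = X * A * (X * X) * B * X := by rw [hX2, mul_one]; simp only [mul_assoc]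
      _ = (X * A * X) * (X * B * X) := by simp only [mul_assoc]
      _ = (X * B * X) * (X * A * X) := h1
      _ = X * B * (X * X) * A * X := by simp only [mul_assoc]
      _ = X * (B * A) * X := by rw [hX2, mul_one]; simp only [mul_assoc]
  calc A * B = (X * X) * (A * B) * (X * X) := by rw [hX2, mul_one, one_mul]
    _ = X * (X * (A * B) * X) * X := by simp only [mul_assoc]
    _ = X * (X * (B * A) * X) * X := by rw [h2]
    _ = (X * X) * (B * A) * (X * X) := by simp only [mul_assoc]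
    _ = B * A := by rw [hX2, mul_one, one_mul]

theorem PRep.anti_conj [IsAlgClosed k] {s t x : T} (hx : x * x = 1) (h : R.AntiL (x * s * x) (x * t * x)) :
    R.AntiL s t := by
  intro A hA B hB
  obtain ⟨X, hX, hX2⟩ := R.exists_inv hx
  have h1 := h _ (R.mul (R.mul hX hA) hX) _ (R.mul (R.mul hX hB) hX)
  have h2 : X * (A * B) * X = -(X * (B * A) * X) := by
    calc X * (A * B) * X = X * A * (X * X) * B * X := by rw [hX2, mul_one]; simp only [mul_assoc]
      _ = (X * A * X) * (X * B * X) := by simp only [mul_assoc]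
      _ = -((X * B * X) * (X * A * X)) := h1
      _ = -(X * B * (X * X) * A * X) := by simp only [mul_assoc]
      _ = -(X * (B * A) * X) := by rw [hX2, mul_one]; simp only [mul_assoc]
  calc A * B = (X * X) * (A * B) * (X * X) := by rw [hX2, mul_one, one_mul]
    _ = X * (X * (A * B) * X) * X := by simp only [mul_assoc]
    _ = X * (-(X * (B * A) * X)) * X := by rw [h2]
    _ = -((X * X) * (B * A) * (X * X)) := by rw [mul_neg, neg_mul]; simp only [mul_assoc]
    _ = -(B * A) := by rw [hX2, mul_one, one_mul]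

end PR

section Sp

variable {T k V : Type*} [Group T] [Field k] [IsAlgClosed k] [AddCommGroup V] [Module k V] (R : PRep T k V)
  {t : ℕ → T} (D : SpData t)

include D

theorem SpData.comm_path (l : List ℕ) (hl : ∀ x ∈ l, 0 < x ∧ x < 64) : ∀ {v w : ℕ}, 0 < v → v < 64 → 0 < w →
    w < 64 → R.CommL (t (act l v)) (t (act l w)) → R.CommL (t v) (t w) := by
  induction l with
  | nil => intro v w _ _ _ _ h; exact h
  | cons x l ih =>
    intro v w hv0 hv hw0 hw h
    obtain ⟨hx0, hx⟩ := hl x List.mem_cons_self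
    apply R.comm_conj (D.sq hx0 hx)
    rw [D.cj hx0 hx hv0 hv, D.cj hx0 hx hw0 hw]
    exact ih (fun y hy => hl y (List.mem_cons_of_mem _ hy)) (rf_pos hv0) (rf_lt hx hv) (rf_pos hw0)
      (rf_lt hx hw) h

theorem SpData.anti_path (l : List ℕ) (hl : ∀ x ∈ l, 0 < x ∧ x < 64) : ∀ {v w : ℕ}, 0 < v → v < 64 → 0 < w →
    w < 64 → R.AntiL (t (act l v)) (t (act l w)) → R.AntiL (t v) (t w) := by
  induction l with
  | nil => intro v w _ _ _ _ h; exact h
  | cons x l ih =>
    intro v w hv0 hv hw0 hw h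
    obtain ⟨hx0, hx⟩ := hl x List.mem_cons_self
    apply R.anti_conj (D.sq hx0 hx)
    rw [D.cj hx0 hx hv0 hv, D.cj hx0 hx hw0 hw]
    exact ih (fun y hy => hl y (List.mem_cons_of_mem _ hy)) (rf_pos hv0) (rf_lt hx hv) (rf_pos hw0)
      (rf_lt hx hw) h

theorem SpData.comm_all (hc : R.CommL (t 1) (t 2)) {v w : ℕ} (hv0 : 0 < v) (hv : v < 64) (hw0 : 0 < w)
    (hw : w < 64) (ho : om v w = false) : R.CommL (t v) (t w) := by
  by_cases hvw : v = w
  · subst hvw
    obtain ⟨A, hA⟩ := R.ex (t v)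
    exact R.comm_of hA hA rfl
  · obtain ⟨h1, h2, h3⟩ := pth_ok ⟨v, hv⟩ ⟨w, hw⟩ (by rw [Ne, Fin.ext_iff]; simp; omega)
      (by rw [Ne, Fin.ext_iff]; simp; omega) (by rw [Ne, Fin.ext_iff]; exact hvw) ho
    simp only at h1 h2 h3
    rw [List.all_eq_true] at h3
    apply D.comm_path R (pth v w) (fun x hx => by simpa using h3 x hx) hv0 hv hw0 hw
    rw [h1, h2]
    exact hc

theorem SpData.anti_all (hc : R.AntiL (t 1) (t 2)) {v w : ℕ} (hv0 : 0 < v) (hv : v < 64) (hw0 : 0 < w)
    (hw : w < 64) (hvw : v ≠ w) (ho : om v w = false) : R.AntiL (t v) (t w) := by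
  obtain ⟨h1, h2, h3⟩ := pth_ok ⟨v, hv⟩ ⟨w, hw⟩ (by rw [Ne, Fin.ext_iff]; simp; omega)
    (by rw [Ne, Fin.ext_iff]; simp; omega) (by rw [Ne, Fin.ext_iff]; exact hvw) ho
  simp only at h1 h2 h3
  rw [List.all_eq_true] at h3
  apply D.anti_path R (pth v w) (fun x hx => by simpa using h3 x hx) hv0 hv hw0 hw
  rw [h1, h2]
  exact hc

/-- commuting or anticommuting -/
theorem SpData.dichotomy [Nontrivial V] : R.CommL (t 1) (t 2) ∨ R.AntiL (t 1) (t 2) :=
  R.comm_or_anti (D.sq (by norm_num) (by norm_num)) (D.sq (by norm_num) (by norm_num)) (by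
    rw [D.cj (by norm_num) (by norm_num) (by norm_num) (by norm_num)]; rfl)

omit [IsAlgClosed k] in
/-- the next simple reflection, with the right sign -/
theorem SpData.next [IsAlgClosed k] [Nontrivial V] {v w : ℕ} (hv0 : 0 < v) (hv : v < 64) (hw0 : 0 < w) (hw : w < 64)
    (ho : om v w = true) (hvw : rf v w = rf w v) {A : Module.End k V} (hA : A ∈ R.L (t v)) (hA2 : A * A = 1) :
    ∃ B ∈ R.L (t w), B * B = 1 ∧ A * B * A = B * A * B := by
  obtain ⟨B, hB, hB2⟩ := R.exists_inv (D.sq hw0 hw)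
  have h1 := R.mul (R.mul hA hB) hA
  have h2 := R.mul (R.mul hB hA) hB
  rw [D.cj hv0 hv hw0 hw] at h1
  rw [D.cj hw0 hw hv0 hv, ← hvw] at h2
  have h3 : ∀ {X Y : Module.End k V}, X * X = 1 → Y * Y = 1 → (X * Y * X) * (X * Y * X) = 1 := by
    intro X Y hX hY
    calc (X * Y * X) * (X * Y * X) = X * Y * (X * X) * Y * X := by simp only [mul_assoc]
      _ = X * (Y * Y) * X := by rw [hX, mul_one]; simp only [mul_assoc]
      _ = 1 := by rw [hY, mul_one, hX]
  rcases R.unique h1 h2 (h3 hA2 hB2) (h3 hB2 hA2) with h | h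
  · exact ⟨B, hB, hB2, h⟩
  · refine ⟨-B, ?_, by rw [neg_mul_neg, hB2], ?_⟩
    · have := R.smul (c := (-1 : k)) (by norm_num) hB
      rwa [neg_one_smul] at this
    · rw [mul_neg, neg_mul, h, neg_neg, neg_mul, neg_mul_neg]

/-- Coxeter generators -/
theorem SpData.exists_cox [Nontrivial V] (hc : R.CommL (t 1) (t 2)) :
    ∃ S : Fin 7 → Module.End k V, Cox S ∧ ∀ i, S i ∈ R.L (t (sr i)) := by
  obtain ⟨S0, h0, q0⟩ := R.exists_inv (D.sq (v := 1) (by norm_num) (by norm_num))
  obtain ⟨S1, h1, q1, b1⟩ := D.next R (v := 1) (w := 8) (by norm_num) (by norm_num) (by norm_num) (by norm_num)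
    rfl rfl h0 q0
  obtain ⟨S2, h2, q2, b2⟩ := D.next R (v := 8) (w := 3) (by norm_num) (by norm_num) (by norm_num) (by norm_num)
    rfl rfl h1 q1
  obtain ⟨S3, h3, q3, b3⟩ := D.next R (v := 3) (w := 16) (by norm_num) (by norm_num) (by norm_num) (by norm_num)
    rfl rfl h2 q2
  obtain ⟨S4, h4, q4, b4⟩ := D.next R (v := 16) (w := 6) (by norm_num) (by norm_num) (by norm_num) (by norm_num)
    rfl rfl h3 q3
  obtain ⟨S5, h5, q5, b5⟩ := D.next R (v := 6) (w := 32) (by norm_num) (by norm_num) (by norm_num) (by norm_num)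
    rfl rfl h4 q4
  obtain ⟨S6, h6, q6, b6⟩ := D.next R (v := 3) (w := 48) (by norm_num) (by norm_num) (by norm_num) (by norm_num)
    rfl rfl h2 q2
  have hL : ∀ i : Fin 7, (![S0, S1, S2, S3, S4, S5, S6] : Fin 7 → Module.End k V) i ∈ R.L (t (sr i)) := by
    intro i
    fin_cases i
    exacts [h0, h1, h2, h3, h4, h5, h6]
  refine ⟨![S0, S1, S2, S3, S4, S5, S6], ⟨?_, ?_, ?_⟩, hL⟩
  · intro i
    fin_cases i
    exacts [q0, q1, q2, q3, q4, q5, q6]
  · intro i j hij
    exact D.comm_all R hc (sr_pos i) (sr_lt i) (sr_pos j) (sr_lt j) hij _ (hL i) _ (hL j)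
  · intro i j hij
    fin_cases i <;> fin_cases j <;> first
      | exact absurd hij (by decide)
      | exact b1 | exact b2 | exact b3 | exact b4 | exact b5 | exact b6
      | exact b1.symm | exact b2.symm | exact b3.symm | exact b4.symm | exact b5.symm | exact b6.symm

omit [IsAlgClosed k] in
theorem SpData.cw_mem {S : Fin 7 → Module.End k V} (hS : ∀ i, S i ∈ R.L (t (sr i))) (j : Fin 7)
    (l : List (Fin 7)) : cw S l (S j) ∈ R.L (t (mw l (sr j))) := by
  induction l with
  | nil => exact hS j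
  | cons i l ih =>
    have h := R.mul (R.mul (hS i) ih) (hS i)
    rw [D.cj (sr_pos i) (sr_lt i) (mw_pos l (sr_pos j)) (mw_lt l (sr_lt j))] at h
    exact h

omit [IsAlgClosed k] in
theorem SpData.ga_mem {S : Fin 7 → Module.End k V} (hS : ∀ i, S i ∈ R.L (t (sr i))) {v : ℕ} (h0 : 0 < v)
    (hv : v < 64) : Ga S v ∈ R.L (t v) := by
  have h := D.cw_mem R hS (bs v) (wd v)
  have h1 := wd_mw ⟨v, hv⟩ (by intro h; rw [Fin.ext_iff] at h; simp at h; omega)
  simp only at h1
  rw [h1] at h
  exact h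

end Sp

section neg

variable {A : Type*} [Ring A]

theorem cw_neg (S : Fin 7 → A) (l : List (Fin 7)) (x : A) : cw (fun i => -S i) l (-x) = -cw S l x := by
  induction l with
  | nil => rfl
  | cons i l ih => rw [cw, cw, ih]; simp [mul_assoc]

theorem ga_neg (S : Fin 7 → A) (v : ℕ) : Ga (fun i => -S i) v = -Ga S v := cw_neg S _ _

theorem Cox.neg {S : Fin 7 → A} (C : Cox S) : Cox (fun i => -S i) where
  sq i := by rw [neg_mul_neg, C.sq]
  comm i j h := by rw [neg_mul_neg, neg_mul_neg, C.comm i j h]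
  braid i j h := by rw [neg_mul_neg, neg_mul_neg, mul_neg, mul_neg, C.braid i j h]

theorem comm_sq {a b : A} (ha : a * a = 1) (hb : b * b = 1) (h : Commute a b) : (a * b) * (a * b) = 1 := by
  calc (a * b) * (a * b) = a * (b * a) * b := by simp only [mul_assoc]
    _ = a * (a * b) * b := by rw [h.eq]
    _ = (a * a) * (b * b) := by simp only [mul_assoc]
    _ = 1 := by rw [ha, hb, one_mul]

end neg

section Ga

variable {M : Type*} [Monoid M] {S : Fin 7 → M} (C : Cox S)

include C in
theorem ga_comm {v w : ℕ} (hv0 : 0 < v) (hv : v < 64) (hw0 : 0 < w) (hw : w < 64) (ho : om v w = false) :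
    Commute (Ga S v) (Ga S w) := by
  have h := ga_conj C hv0 hv hw0 hw
  rw [rf, if_neg (by rw [ho]; simp)] at h
  show Ga S v * Ga S w = Ga S w * Ga S v
  calc Ga S v * Ga S w = Ga S v * Ga S w * (Ga S v * Ga S v) := by rw [ga_sq C, mul_one]
    _ = (Ga S v * Ga S w * Ga S v) * Ga S v := by simp only [mul_assoc]
    _ = _ := by rw [h]

include C in
theorem ga_move {v w : ℕ} (hv0 : 0 < v) (hv : v < 64) (hw0 : 0 < w) (hw : w < 64) :
    Ga S v * Ga S w = Ga S (rf v w) * Ga S v := by
  rw [← ga_conj C hv0 hv hw0 hw, mul_assoc, ga_sq C, mul_one]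

end Ga

/-- the normalised data in the commuting case -/
structure CA {T k V : Type*} [Group T] [Field k] [AddCommGroup V] [Module k V] (R : PRep T k V)
    (t : ℕ → T) (S : Fin 7 → Module.End k V) : Prop where
  cox : Cox S
  mem : ∀ i, S i ∈ R.L (t (sr i))
  prod : Ga S 1 * Ga S 2 * Ga S 3 * Ga S 4 * Ga S 5 * Ga S 6 * Ga S 7 = 1

theorem SpData.exists_CA {T k V : Type*} [Group T] [Field k] [IsAlgClosed k] [AddCommGroup V] [Module k V]
    [Nontrivial V] (R : PRep T k V) {t : ℕ → T} (D : SpData t) (hc : R.CommL (t 1) (t 2)) :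
    ∃ S : Fin 7 → Module.End k V, CA R t S := by
  obtain ⟨S, C, hS⟩ := D.exists_cox R hc
  have hm : ∀ {v}, 0 < v → v < 64 → Ga S v ∈ R.L (t v) := fun h0 h => D.ga_mem R hS h0 h
  have h1 : Ga S 1 * Ga S 2 * Ga S 3 * Ga S 4 * Ga S 5 * Ga S 6 * Ga S 7 ∈ R.L 1 := by
    rw [← D.fano]
    exact R.mul (R.mul (R.mul (R.mul (R.mul (R.mul (hm (by norm_num) (by norm_num))
      (hm (by norm_num) (by norm_num))) (hm (by norm_num) (by norm_num))) (hm (by norm_num) (by norm_num)))
      (hm (by norm_num) (by norm_num))) (hm (by norm_num) (by norm_num))) (hm (by norm_num) (by norm_num))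
  obtain ⟨c, hc0, h1⟩ := R.one h1
  have cm : ∀ {v w : ℕ}, 0 < v → v < 8 → 0 < w → w < 8 → Commute (Ga S v) (Ga S w) := by
    intro v w hv0 hv hw0 hw
    apply ga_comm C hv0 (by omega) hw0 (by omega)
    interval_cases v <;> interval_cases w <;> rfl
  have c12 := cm (v := 1) (w := 2) (by norm_num) (by norm_num) (by norm_num) (by norm_num)
  have q := ga_sq C
  have h2 : (Ga S 1 * Ga S 2 * Ga S 3 * Ga S 4 * Ga S 5 * Ga S 6 * Ga S 7) *
      (Ga S 1 * Ga S 2 * Ga S 3 * Ga S 4 * Ga S 5 * Ga S 6 * Ga S 7) = 1 := by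
    have cc : ∀ {w : ℕ}, 0 < w → w < 8 → ∀ {v}, 0 < v → v < 8 → Commute (Ga S v) (Ga S w) :=
      fun a b _ c d => cm c d a b
    have e2 := comm_sq (q 1) (q 2) (cm (by norm_num) (by norm_num) (by norm_num) (by norm_num))
    have e3 := comm_sq e2 (q 3) (Commute.mul_left (cm (by norm_num) (by norm_num) (by norm_num) (by norm_num))
      (cm (by norm_num) (by norm_num) (by norm_num) (by norm_num)))
    have e4 := comm_sq e3 (q 4) (Commute.mul_left (Commute.mul_left
      (cm (by norm_num) (by norm_num) (by norm_num) (by norm_num))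
      (cm (by norm_num) (by norm_num) (by norm_num) (by norm_num)))
      (cm (by norm_num) (by norm_num) (by norm_num) (by norm_num)))
    have e5 := comm_sq e4 (q 5) (Commute.mul_left (Commute.mul_left (Commute.mul_left
      (cm (by norm_num) (by norm_num) (by norm_num) (by norm_num))
      (cm (by norm_num) (by norm_num) (by norm_num) (by norm_num)))
      (cm (by norm_num) (by norm_num) (by norm_num) (by norm_num)))
      (cm (by norm_num) (by norm_num) (by norm_num) (by norm_num)))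
    have e6 := comm_sq e5 (q 6) (Commute.mul_left (Commute.mul_left (Commute.mul_left (Commute.mul_left
      (cm (by norm_num) (by norm_num) (by norm_num) (by norm_num))
      (cm (by norm_num) (by norm_num) (by norm_num) (by norm_num)))
      (cm (by norm_num) (by norm_num) (by norm_num) (by norm_num)))
      (cm (by norm_num) (by norm_num) (by norm_num) (by norm_num)))
      (cm (by norm_num) (by norm_num) (by norm_num) (by norm_num)))
    exact comm_sq e6 (q 7) (Commute.mul_left (Commute.mul_left (Commute.mul_left (Commute.mul_left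
      (Commute.mul_left
      (cm (by norm_num) (by norm_num) (by norm_num) (by norm_num))
      (cm (by norm_num) (by norm_num) (by norm_num) (by norm_num)))
      (cm (by norm_num) (by norm_num) (by norm_num) (by norm_num)))
      (cm (by norm_num) (by norm_num) (by norm_num) (by norm_num)))
      (cm (by norm_num) (by norm_num) (by norm_num) (by norm_num)))
      (cm (by norm_num) (by norm_num) (by norm_num) (by norm_num)))
  have h3 : c = 1 ∨ c = -1 := by
    rw [h1, smul_mul_smul_comm, one_mul] at h2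
    have := smul_one_inj (k := k) (V := V) (a := c * c) (b := 1) (by rw [h2, one_smul])
    exact mul_self_eq_one_iff.1 this
  rcases h3 with h3 | h3
  · exact ⟨S, C, hS, by rw [h1, h3, one_smul]⟩
  · refine ⟨fun i => -S i, C.neg, fun i => ?_, ?_⟩
    · have := R.smul (c := (-1 : k)) (by norm_num) (hS i)
      rwa [neg_one_smul] at this
    · simp only [ga_neg]
      have : -Ga S 1 * -Ga S 2 * -Ga S 3 * -Ga S 4 * -Ga S 5 * -Ga S 6 * -Ga S 7 =
          -(Ga S 1 * Ga S 2 * Ga S 3 * Ga S 4 * Ga S 5 * Ga S 6 * Ga S 7) := by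
        simp only [mul_neg, neg_mul, neg_neg]
      rw [this, h1, h3, neg_one_smul, neg_neg]

end Cfsg.Agent.H916.SpSix
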