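import Cfsg.Agent.H916.PauliTwo
import Cfsg.Agent.H916.SpSixD

/-!
# Dimension eight, anticommuting case: the anticommutators of the lifted transvections are scalars
-/

set_option autoImplicit false
set_option linter.unusedSectionVars false
set_option linter.unusedVariables false

namespace Cfsg.Agent.H916.SpEight

open SpSix Halving Pauli

section half

variable {k V : Type*} [Field k] [AddCommGroup V] [Module k V] [FiniteDimensional k V]

/-- pointwise halving -/
theorem finrank_half' (h2 : (2 : k) ≠ 0) {W : Submodule k V} {A B : Module.End k V} {a b : k} (ha : a ≠ 0)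
    (hb : b ≠ 0) (hA : ∀ x ∈ W, A x ∈ W) (hB : ∀ x ∈ W, B x ∈ W) (hA2 : ∀ x ∈ W, A (A x) = (a * a) • x)
    (hB2 : ∀ x ∈ W, B (B x) = b • x) (hAB : ∀ x ∈ W, A (B x) = -(B (A x))) :
    Module.finrank k W = 2 * Module.finrank k (eig W A a) := by
  have h := finrank_half h2 (W := ⊤) (A := A.restrict hA) (B := B.restrict hB) ha hb (fun _ _ => trivial)
    (fun _ _ => trivial) (LinearMap.ext fun x => Subtype.ext (hA2 x x.2)) (LinearMap.ext fun x => Subtype.ext (hB2 x x.2))
    (LinearMap.ext fun x => Subtype.ext (hAB x x.2))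
  rw [finrank_top] at h
  have h3 : (eig ⊤ (A.restrict hA) a).map W.subtype = eig W A a := by
    ext x
    rw [Submodule.mem_map]
    constructor
    · rintro ⟨y, hy, rfl⟩
      rw [mem_eig] at hy ⊢
      exact ⟨y.2, congrArg Subtype.val hy.2⟩
    · intro hx
      rw [mem_eig] at hx
      exact ⟨⟨x, hx.1⟩, by rw [mem_eig]; exact ⟨trivial, Subtype.ext hx.2⟩, rfl⟩
  rw [← h3, Submodule.finrank_map_subtype_eq]
  exact h

/-- four anticommuting involutions on a subspace -/
theorem four_dvd (h2 : (2 : k) ≠ 0) {i : k} (hi : i * i = -1) {W : Submodule k V} {g0 g1 g2 g3 : Module.End k V}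
    (s0 : g0 * g0 = 1) (s1 : g1 * g1 = 1) (s2 : g2 * g2 = 1) (s3 : g3 * g3 = 1)
    (w0 : ∀ x ∈ W, g0 x ∈ W) (w1 : ∀ x ∈ W, g1 x ∈ W) (w2 : ∀ x ∈ W, g2 x ∈ W) (w3 : ∀ x ∈ W, g3 x ∈ W)
    (a01 : An g0 g1) (a02 : An g0 g2) (a03 : An g0 g3) (a12 : An g1 g2) (a13 : An g1 g3) (a23 : An g2 g3) :
    4 ∣ Module.finrank k W := by
  have hi0 : i ≠ 0 := by rintro rfl; rw [mul_zero] at hi; exact absurd hi.symm (neg_ne_zero.2 one_ne_zero)
  have hsq : ∀ {x y : Module.End k V}, x * x = 1 → y * y = 1 → An x y → (x * y) * (x * y) = (-1 : k) • 1 := by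
    intro x y hx hy hxy
    calc (x * y) * (x * y) = x * (y * x) * y := by simp only [mul_assoc]
      _ = -((x * x) * (y * y)) := by
        rw [show y * x = -(x * y) from hxy.symm, mul_neg, neg_mul]; simp only [mul_assoc]
      _ = (-1 : k) • 1 := by rw [hx, hy, one_mul, neg_one_smul]
  have hcm : ∀ {x y z : Module.End k V}, An x y → An x z → x * (y * z) = (y * z) * x := by
    intro x y z hxy hxz
    calc x * (y * z) = (x * y) * z := by rw [mul_assoc]
      _ = -(y * (x * z)) := by rw [show x * y = -(y * x) from hxy, neg_mul, mul_assoc]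
      _ = (y * z) * x := by rw [show x * z = -(z * x) from hxz, mul_neg, neg_neg, mul_assoc]
  have hanti : (g1 * g2) * (g1 * g3) = -((g1 * g3) * (g1 * g2)) := by
    have e : ∀ {y z : Module.End k V}, An g1 y → (g1 * y) * (g1 * z) = -(y * z) := by
      intro y z hy
      calc (g1 * y) * (g1 * z) = g1 * (y * g1) * z := by simp only [mul_assoc]
        _ = -((g1 * g1) * (y * z)) := by
          rw [show y * g1 = -(g1 * y) from hy.symm, mul_neg, neg_mul]; simp only [mul_assoc]
        _ = _ := by rw [s1, one_mul]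
    rw [e a12, e a13, show g2 * g3 = -(g3 * g2) from a23, neg_neg]
  have e1 := finrank_half h2 (W := W) (A := g0) (B := g1) (a := 1) (b := 1) one_ne_zero one_ne_zero w0 w1
    (by rw [s0, mul_one, one_smul]) (by rw [s1, one_smul]) a01
  have e2 := finrank_half h2 (W := eig W g0 1) (A := g1 * g2) (B := g1 * g3) (a := i) (b := -1) hi0
    (neg_ne_zero.2 one_ne_zero)
    (eig_inv (fun x hx => w1 _ (w2 _ hx)) (hcm a01 a02)) (eig_inv (fun x hx => w1 _ (w3 _ hx)) (hcm a01 a03))
    (by rw [hsq s1 s2 a12, hi]) (hsq s1 s3 a13) hanti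
  rw [e1, e2]
  exact ⟨Module.finrank k (eig (eig W g0 1) (g1 * g2) i), by ring⟩

end half

/-- the masks orthogonal to 1 and 8 -/
def Pm (v : ℕ) : Prop := (0 < v ∧ v < 64) ∧ om 1 v = false ∧ om 8 v = false

instance (v : ℕ) : Decidable (Pm v) := inferInstanceAs (Decidable (_ ∧ _))

section core

variable {k V : Type*} [Field k] [IsAlgClosed k] [AddCommGroup V] [Module k V] [FiniteDimensional k V]

theorem anticomm (h2 : (2 : k) ≠ 0) (hV : Module.finrank k V = 8) {A B : Module.End k V} (hA : A * A = 1)
    (hB : B * B = 1) (hbr : A * B * A = B * A * B) (hne : A ≠ B) {γ : ℕ → Module.End k V}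
    (hγ : ∀ {v}, Pm v → γ v * γ v = 1) (hγA : ∀ {v}, Pm v → An (γ v) A) (hγB : ∀ {v}, Pm v → An (γ v) B)
    (hγγ : ∀ {v w}, Pm v → Pm w → v ≠ w → om v w = false → An (γ v) (γ w)) : A * B + B * A = -1 := by
  have i1 : (A * B) * (A * B) = B * A := by
    calc (A * B) * (A * B) = (A * B * A) * B := by simp only [mul_assoc]
      _ = B * A := by rw [hbr, mul_assoc, hB, mul_one]
  have i2 : (B * A) * (B * A) = A * B := by
    calc (B * A) * (B * A) = (B * A * B) * A := by simp only [mul_assoc]
      _ = A * B := by rw [← hbr, mul_assoc, hA, mul_one]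
  have i3 : (A * B) * (B * A) = 1 := by
    calc (A * B) * (B * A) = A * (B * B) * A := by simp only [mul_assoc]
      _ = 1 := by rw [hB, mul_one, hA]
  have i4 : (B * A) * (A * B) = 1 := by
    calc (B * A) * (A * B) = B * (A * A) * B := by simp only [mul_assoc]
      _ = 1 := by rw [hA, mul_one, hB]
  set Q : Module.End k V := A * B + B * A + 1 with hQ
  have hQ1 : Q * (A * B - 1) = 0 := by
    rw [hQ, mul_sub, add_mul, add_mul, i1, i4, one_mul, mul_one]; abel
  have hQ2 : (A * B - 1) * Q = 0 := by
    rw [hQ, sub_mul, mul_add, mul_add, i1, i3, one_mul, mul_one]; abel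
  have hAQ : A * Q = Q * A := by
    rw [hQ, mul_add, mul_add, add_mul, add_mul, ← mul_assoc A A B, hA, mul_assoc B A A, hA, ← mul_assoc A B A]
    simp only [one_mul, mul_one]
    abel
  have hcm : ∀ {x y z : Module.End k V}, An x y → An x z → x * (y * z) = (y * z) * x := by
    intro x y z hxy hxz
    calc x * (y * z) = (x * y) * z := by rw [mul_assoc]
      _ = -(y * (x * z)) := by rw [show x * y = -(y * x) from hxy, neg_mul, mul_assoc]
      _ = (y * z) * x := by rw [show x * z = -(z * x) from hxz, mul_neg, neg_neg, mul_assoc]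
  have hγQ : ∀ {v}, Pm v → γ v * Q = Q * γ v := by
    intro v hv
    rw [hQ, mul_add, mul_add, add_mul, add_mul, hcm (hγA hv) (hγB hv), hcm (hγB hv) (hγA hv), one_mul, mul_one]
  have hr : ∀ {X : Module.End k V}, X * Q = Q * X → ∀ x ∈ LinearMap.range Q, X x ∈ LinearMap.range Q := by
    rintro X hX _ ⟨y, rfl⟩
    exact ⟨X y, by rw [← Module.End.mul_apply, ← hX, Module.End.mul_apply]⟩
  have hk : ∀ {X : Module.End k V}, X * Q = Q * X → ∀ x ∈ LinearMap.ker Q, X x ∈ LinearMap.ker Q := by
    intro X hX x hx
    rw [LinearMap.mem_ker] at hx ⊢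
    rw [← Module.End.mul_apply, ← hX, Module.End.mul_apply, hx, map_zero]
  obtain ⟨i, hi⟩ := IsAlgClosed.exists_pow_nat_eq (-1 : k) (n := 2) (by norm_num)
  rw [sq] at hi
  have p2 : Pm 2 := by decide
  have p4 : Pm 4 := by decide
  have p6 : Pm 6 := by decide
  have a24 := hγγ p2 p4 (by decide) (by decide)
  have a26 := hγγ p2 p6 (by decide) (by decide)
  have a46 := hγγ p4 p6 (by decide) (by decide)
  have hdim := four_dvd h2 hi (W := LinearMap.range Q) hA (hγ p2) (hγ p4) (hγ p6) (hr hAQ) (hr (hγQ p2))
    (hr (hγQ p4)) (hr (hγQ p6)) (hγA p2).symm (hγA p4).symm (hγA p6).symm a24 a26 a46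
  obtain ⟨m, hm⟩ := hdim
  have hrk := LinearMap.finrank_range_add_finrank_ker Q
  rw [hV] at hrk
  have hmle : m = 0 ∨ m = 1 ∨ m = 2 := by omega
  rcases hmle with rfl | rfl | rfl
  · have h0 : LinearMap.range Q = ⊥ := by
      apply Submodule.finrank_eq_zero.1
      omega
    rw [LinearMap.range_eq_bot] at h0
    rw [hQ] at h0
    exact eq_neg_of_add_eq_zero_left h0
  · exfalso
    have hkr : Module.finrank k (LinearMap.ker Q) = 4 := by omega
    by_cases h3 : (3 : k) = 0
    · have hn : (A * B - 1) * (A * B - 1) = Q := by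
        have h3' : (3 : k) • (A * B) = 0 := by rw [h3, zero_smul]
        rw [mul_sub, sub_mul, i1, mul_one, one_mul, hQ]
        have : A * B + B * A + 1 = B * A - A * B - (A * B - 1) + (3 : k) • (A * B) := by module
        rw [this, h3', add_zero]
      have hle1 : LinearMap.range (A * B - 1) ≤ LinearMap.ker Q := by
        rintro _ ⟨y, rfl⟩
        rw [LinearMap.mem_ker, ← Module.End.mul_apply, hQ1, LinearMap.zero_apply]
      have hle2 : LinearMap.range Q ≤ LinearMap.range (A * B - 1) := by
        rintro _ ⟨y, rfl⟩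
        exact ⟨(A * B - 1) y, by rw [← Module.End.mul_apply, hn]⟩
      have h4 := Submodule.finrank_mono hle1
      have heq := Submodule.eq_of_le_of_finrank_le hle2 (by omega)
      have hbot : LinearMap.range Q = ⊥ := by
        rw [eq_bot_iff]
        rintro _ ⟨y, rfl⟩
        have h5 : (A * B - 1) y ∈ LinearMap.range Q := by rw [heq]; exact ⟨y, rfl⟩
        obtain ⟨z, hz⟩ := h5
        rw [Submodule.mem_bot, ← hn, Module.End.mul_apply, ← hz, ← Module.End.mul_apply, hQ2, LinearMap.zero_apply]
      rw [hbot, finrank_bot] at hm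
      omega
    · obtain ⟨a, ha⟩ := IsAlgClosed.exists_pow_nat_eq (-3 : k) (n := 2) (by norm_num)
      rw [sq] at ha
      have ha0 : a ≠ 0 := by
        rintro rfl
        rw [mul_zero] at ha
        exact h3 (by linear_combination ha)
      set E : Module.End k V := A * B - B * A with hE
      have hEE : E * E = A * B + B * A - (2 : k) • 1 := by
        rw [hE, mul_sub, sub_mul, sub_mul, i1, i2, i3, i4]
        module
      have hAE : E * A = -(A * E) := by
        rw [hE, mul_sub, sub_mul, ← mul_assoc A A B, hA, mul_assoc B A A, hA, ← mul_assoc A B A]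
        simp only [one_mul, mul_one]
        abel
      have hγE : ∀ {v}, Pm v → E * γ v = γ v * E := by
        intro v hv
        rw [hE, mul_sub, sub_mul, hcm (hγA hv) (hγB hv), hcm (hγB hv) (hγA hv)]
      have hEQ : E * Q = Q * E := by
        rw [hE, hQ, mul_add, mul_add, sub_mul, sub_mul, mul_sub, add_mul, add_mul, add_mul, add_mul, i1, i2, i3, i4]
        simp only [one_mul, mul_one]
        abel
      have hN := finrank_half' h2 (W := LinearMap.ker Q) (A := E) (B := A) ha0 one_ne_zero (hk hEQ) (hk hAQ)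
        (fun x hx => by
          rw [← Module.End.mul_apply, hEE, ha]
          rw [LinearMap.mem_ker, hQ, LinearMap.add_apply, Module.End.one_apply] at hx
          rw [LinearMap.sub_apply, LinearMap.smul_apply, Module.End.one_apply, eq_neg_of_add_eq_zero_left hx]
          module)
        (fun x hx => by rw [← Module.End.mul_apply, hA, one_smul, Module.End.one_apply])
        (fun x hx => by rw [← Module.End.mul_apply, hAE, LinearMap.neg_apply, Module.End.mul_apply])
      have hN2 : Module.finrank k (eig (LinearMap.ker Q) E a) = 2 := by omega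
      have hinv : ∀ {v}, Pm v → ∀ x ∈ eig (LinearMap.ker Q) E a, γ v x ∈ eig (LinearMap.ker Q) E a := by
        intro v hv
        exact eig_inv (hk (hγQ hv)) (hγE hv)
      have rs : ∀ {v} (hv : Pm v), (γ v).restrict (hinv hv) * (γ v).restrict (hinv hv) = 1 := by
        intro v hv
        refine LinearMap.ext fun x => Subtype.ext ?_
        show γ v (γ v x) = x
        rw [← Module.End.mul_apply, hγ hv, Module.End.one_apply]
      have ra : ∀ {v w} (hv : Pm v) (hw : Pm w), v ≠ w → om v w = false →
          An ((γ v).restrict (hinv hv)) ((γ w).restrict (hinv hw)) := by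
        intro v w hv hw hvw ho
        refine LinearMap.ext fun x => Subtype.ext ?_
        show γ v (γ w x) = -(γ w (γ v x))
        rw [← Module.End.mul_apply, hγγ hv hw hvw ho, LinearMap.neg_apply, Module.End.mul_apply]
      have p16 : Pm 16 := by decide
      have p32 : Pm 32 := by decide
      have p48 : Pm 48 := by decide
      have p18 : Pm 18 := by decide
      have p50 : Pm 50 := by decide
      have p20 : Pm 20 := by decide
      have p38 : Pm 38 := by decide
      exact no_rep h2 hN2 (rs p2) (rs p4) (rs p6) (ra p2 p4 (by decide) (by decide)) (ra p2 p6 (by decide) (by decide))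
        (ra p4 p6 (by decide) (by decide)) (rs p16) (rs p32) (rs p48) (rs p18) (rs p50) (rs p20) (rs p38)
        (ra p16 p4 (by decide) (by decide)) (ra p32 p2 (by decide) (by decide)) (ra p48 p6 (by decide) (by decide))
        (ra p18 p4 (by decide) (by decide)) (ra p50 p6 (by decide) (by decide)) (ra p20 p4 (by decide) (by decide))
        (ra p38 p2 (by decide) (by decide)) (ra p16 p32 (by decide) (by decide)) (ra p16 p48 (by decide) (by decide))
        (ra p32 p48 (by decide) (by decide)) (ra p18 p32 (by decide) (by decide)) (ra p18 p50 (by decide) (by decide))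
        (ra p32 p50 (by decide) (by decide)) (ra p20 p38 (by decide) (by decide)) (ra p20 p50 (by decide) (by decide))
        (ra p38 p50 (by decide) (by decide)) (ra p16 p20 (by decide) (by decide))
  · exfalso
    have h0 : LinearMap.range Q = ⊤ := Submodule.eq_top_of_finrank_eq (by omega)
    have h1 : A * B = 1 := by
      apply sub_eq_zero.1
      ext x
      have hx : x ∈ LinearMap.range Q := by rw [h0]; trivial
      obtain ⟨y, rfl⟩ := hx
      rw [← Module.End.mul_apply, hQ2, LinearMap.zero_apply, LinearMap.zero_apply]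
    apply hne
    calc A = A * (B * B) := by rw [hB, mul_one]
      _ = B := by rw [← mul_assoc, h1, one_mul]

end core

end Cfsg.Agent.H916.SpEight
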