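import Cfsg.Agent.H916.SpEightA
import Cfsg.Agent.H916.CliffTrace
import Cfsg.Agent.H916.SpSixK

/-!
# `Sp₆(2)` in dimension eight: traces in the prime field, self-duality
-/

set_option autoImplicit false
set_option linter.unusedSectionVars false
set_option linter.unusedVariables false

namespace Cfsg.Agent.H916.SpEight

open SpSix Halving Pauli TreeTrace CliffTrace Cfsg Cfsg.Geo Cfsg.Agent.H915.LD Matrix

section na

variable {T k V : Type*} [Group T] [Field k] [AddCommGroup V] [Module k V] (R : PRep T k V)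

/-- involutive lifts have anticommutator `± 1` -/
def NA (s t : T) : Prop :=
  ∀ A ∈ R.L s, ∀ B ∈ R.L t, A * A = 1 → B * B = 1 → A * B + B * A = 1 ∨ A * B + B * A = -1

theorem NA.of [Nontrivial V] {s t : T} {A B : Module.End k V} (hA : A ∈ R.L s) (hB : B ∈ R.L t) (hA2 : A * A = 1)
    (hB2 : B * B = 1) (h : A * B + B * A = 1 ∨ A * B + B * A = -1) : NA R s t := by
  intro A' hA' B' hB' hA2' hB2'
  rcases R.unique hA' hA hA2' hA2 with rfl | rfl <;> rcases R.unique hB' hB hB2' hB2 with rfl | rfl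
  · exact h
  · rw [mul_neg, neg_mul, ← neg_add]
    rcases h with h | h
    · right; rw [h]
    · left; rw [h, neg_neg]
  · rw [mul_neg, neg_mul, ← neg_add]
    rcases h with h | h
    · right; rw [h]
    · left; rw [h, neg_neg]
  · rw [neg_mul_neg, neg_mul_neg]
    exact h

theorem NA.conj [IsAlgClosed k] {x s t : T} (hx : x * x = 1) (h : NA R (x * s * x) (x * t * x)) : NA R s t := by
  intro A hA B hB hA2 hB2
  obtain ⟨X, hX, hX2⟩ := R.exists_inv hx
  have hs : ∀ {Y : Module.End k V}, Y * Y = 1 → (X * Y * X) * (X * Y * X) = 1 := by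
    intro Y hY
    calc (X * Y * X) * (X * Y * X) = X * Y * (X * X) * Y * X := by simp only [mul_assoc]
      _ = X * (Y * Y) * X := by rw [hX2, mul_one]; simp only [mul_assoc]
      _ = 1 := by rw [hY, mul_one, hX2]
  have h1 := h _ (R.mul (R.mul hX hA) hX) _ (R.mul (R.mul hX hB) hX) (hs hA2) (hs hB2)
  have h2 : (X * A * X) * (X * B * X) + (X * B * X) * (X * A * X) = X * (A * B + B * A) * X := by
    have : ∀ Y Z : Module.End k V, (X * Y * X) * (X * Z * X) = X * (Y * Z) * X := by
      intro Y Z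
      calc (X * Y * X) * (X * Z * X) = X * Y * (X * X) * Z * X := by simp only [mul_assoc]
        _ = _ := by rw [hX2, mul_one]; simp only [mul_assoc]
    rw [this, this, ← add_mul, ← mul_add]
  have h3 : A * B + B * A = X * (X * (A * B + B * A) * X) * X := by
    calc A * B + B * A = (X * X) * (A * B + B * A) * (X * X) := by rw [hX2, mul_one, one_mul]
      _ = _ := by simp only [mul_assoc]
  rw [h2] at h1
  rcases h1 with h1 | h1
  · left; rw [h3, h1, mul_one, hX2]
  · right; rw [h3, h1, mul_neg, mul_one, neg_mul, hX2]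

end na

section paths

def toEight (w : ℕ) : List ℕ :=
  if w = 8 then [] else if om 8 w then [8 ^^^ w] else
    [w ^^^ fz (fun z => om z 1 && (om z 8 && om z w)), fz (fun z => om z 1 && (om z 8 && om z w)) ^^^ 8]

def pth8 (v w : ℕ) : List ℕ := toOne v ++ toEight (act (toOne v) w)

theorem pth8_ok : ∀ v w : Fin 64, v ≠ 0 → w ≠ 0 → om v w = true →
    act (pth8 v w) v = 1 ∧ act (pth8 v w) w = 8 ∧ (pth8 v w).all (fun x => decide (0 < x ∧ x < 64)) = true := by
  decide +kernel

end paths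

section Sp

variable {T k V : Type*} [Group T] [Field k] [IsAlgClosed k] [AddCommGroup V] [Module k V] (R : PRep T k V)
  {t : ℕ → T} (D : SpData t)

include D

theorem na_path (l : List ℕ) (hl : ∀ x ∈ l, 0 < x ∧ x < 64) : ∀ {v w : ℕ}, 0 < v → v < 64 → 0 < w →
    w < 64 → NA R (t (act l v)) (t (act l w)) → NA R (t v) (t w) := by
  induction l with
  | nil => intro v w _ _ _ _ h; exact h
  | cons x l ih =>
    intro v w hv0 hv hw0 hw h
    obtain ⟨hx0, hx⟩ := hl x List.mem_cons_self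
    apply NA.conj R (D.sq hx0 hx)
    rw [D.cj hx0 hx hv0 hv, D.cj hx0 hx hw0 hw]
    exact ih (fun y hy => hl y (List.mem_cons_of_mem _ hy)) (rf_pos hv0) (rf_lt hx hv) (rf_pos hw0)
      (rf_lt hx hw) h

theorem ne_of_anti [Nontrivial V] (h2 : (2 : k) ≠ 0) (hc : R.AntiL (t 1) (t 2)) : t 1 ≠ t 8 := by
  intro h
  have h1 := D.cj (v := 3) (w := 1) (by norm_num) (by norm_num) (by norm_num) (by norm_num)
  have h3 := D.cj (v := 3) (w := 8) (by norm_num) (by norm_num) (by norm_num) (by norm_num)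
  have h4 := D.cj (v := 5) (w := 1) (by norm_num) (by norm_num) (by norm_num) (by norm_num)
  have h5 := D.cj (v := 5) (w := 8) (by norm_num) (by norm_num) (by norm_num) (by norm_num)
  rw [show rf 3 1 = 1 from rfl] at h1
  rw [show rf 3 8 = 11 from rfl, ← h, h1] at h3
  rw [show rf 5 1 = 1 from rfl] at h4
  rw [show rf 5 8 = 13 from rfl, ← h, h4] at h5
  obtain ⟨A, hA, hA2⟩ := R.exists_inv (D.sq (v := 11) (by norm_num) (by norm_num))
  have h6 := D.anti_all R hc (v := 11) (w := 13) (by norm_num) (by norm_num) (by norm_num) (by norm_num)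
    (by norm_num) rfl A hA A (by rw [← h5, h3]; exact hA)
  rw [hA2] at h6
  have h7 : (2 : k) • (1 : Module.End k V) = (0 : k) • 1 := by
    rw [two_smul, zero_smul]
    nth_rewrite 1 [h6]
    abel
  exact h2 (smul_one_inj h7)

/-- **The anticommutators.** -/
theorem na_all [FiniteDimensional k V] (h2 : (2 : k) ≠ 0) (hV : Module.finrank k V = 8)
    (hc : R.AntiL (t 1) (t 2)) {v w : ℕ} (hv0 : 0 < v) (hv : v < 64) (hw0 : 0 < w) (hw : w < 64)
    (ho : om v w = true) : NA R (t v) (t w) := by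
  have : Nontrivial V := Module.nontrivial_of_finrank_pos (R := k) (by rw [hV]; norm_num)
  obtain ⟨q1, q2, q3⟩ := pth8_ok ⟨v, hv⟩ ⟨w, hw⟩ (by rw [Ne, Fin.ext_iff]; simp; omega)
    (by rw [Ne, Fin.ext_iff]; simp; omega) ho
  simp only at q1 q2 q3
  rw [List.all_eq_true] at q3
  apply na_path R D (pth8 v w) (fun x hx => by simpa using q3 x hx) hv0 hv hw0 hw
  rw [q1, q2]
  obtain ⟨A, hA, hA2⟩ := R.exists_inv (D.sq (v := 1) (by norm_num) (by norm_num))
  obtain ⟨B, hB, hB2, hbr⟩ := D.next R (v := 1) (w := 8) (by norm_num) (by norm_num) (by norm_num) (by norm_num)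
    rfl rfl hA hA2
  have hex : ∀ v : ℕ, ∃ X : Module.End k V, Pm v → X ∈ R.L (t v) ∧ X * X = 1 := by
    intro v
    by_cases hv : Pm v
    · obtain ⟨X, h1, h3⟩ := R.exists_inv (D.sq hv.1.1 hv.1.2)
      exact ⟨X, fun _ => ⟨h1, h3⟩⟩
    · exact ⟨1, fun h => absurd h hv⟩
  choose γ hγ using hex
  have o1 : ∀ {v}, Pm v → v ≠ 1 := by
    rintro v hv rfl
    exact absurd hv.2.2 (by decide)
  have o8 : ∀ {v}, Pm v → v ≠ 8 := by
    rintro v hv rfl
    exact absurd hv.2.1 (by decide)
  apply NA.of R hA hB hA2 hB2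
  right
  apply anticomm h2 hV hA2 hB2 hbr _ (fun hv => (hγ _ hv).2)
    (fun {v} hv => D.anti_all R hc hv.1.1 hv.1.2 (by norm_num) (by norm_num) (o1 hv)
      (by rw [om_comm]; exact hv.2.1) _ (hγ _ hv).1 _ hA)
    (fun {v} hv => D.anti_all R hc hv.1.1 hv.1.2 (by norm_num) (by norm_num) (o8 hv)
      (by rw [om_comm]; exact hv.2.2) _ (hγ _ hv).1 _ hB)
    (fun {v w} hv hw hvw ho => D.anti_all R hc hv.1.1 hv.1.2 hw.1.1 hw.1.2 hvw ho _ (hγ _ hv).1 _ (hγ _ hw).1)
  rintro rfl
  apply ne_of_anti R D h2 hc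
  have h3 := R.mul hA hB
  rw [hA2, ← one_smul k (1 : Module.End k V)] at h3
  have h4 := R.inj h3
  have h5 := D.sq (v := 1) (by norm_num) (by norm_num)
  exact (mul_left_cancel (h4.trans h5.symm)).symm

end Sp

end Cfsg.Agent.H916.SpEight
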