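import Mathlib

/-!
# Seven commuting involutions permuted like the points of the Fano plane, acting on a 7-dimensional space
-/

set_option autoImplicit false
set_option linter.unusedSectionVars false
set_option linter.unusedVariables false

namespace Cfsg.Agent.H916.SpSix

section masks

/-- the action of the matrix `e1 → e2 → e3 → e1` on the seven points (the point `i` is the vector with bits `i+1`) -/
def s1 : Fin 7 → Fin 7 := ![1, 3, 5, 0, 2, 4, 6]

/-- the action of the matrix `e1 → e1 + e2` -/
def s2 : Fin 7 → Fin 7 := ![2, 1, 0, 3, 6, 5, 4]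

/-- the action on masks -/
def pm (s : Fin 7 → Fin 7) (m : ℕ) : ℕ :=
  ((List.finRange 7).map fun i : Fin 7 => if m.testBit i.val then 2 ^ (s i).val else 0).sum

def stepL (l : List ℕ) : List ℕ := (l ++ l.map (pm s1) ++ l.map (pm s2)).eraseDups

def orb (m : ℕ) : List ℕ := stepL (stepL (stepL (stepL (stepL (stepL [m])))))

theorem s1_surj : Function.Surjective s1 := by decide

theorem s2_surj : Function.Surjective s2 := by decide

theorem pm_s1 : ∀ m : Fin 128, ∀ i : Fin 7, (pm s1 m).testBit (s1 i) = (m : ℕ).testBit i := by decide +kernel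

theorem pm_s2 : ∀ m : Fin 128, ∀ i : Fin 7, (pm s2 m).testBit (s2 i) = (m : ℕ).testBit i := by decide +kernel

theorem pm_lt : ∀ m : Fin 128, pm s1 m < 128 ∧ pm s2 m < 128 := by decide +kernel

theorem exists_mask : ∀ ε : Fin 7 → Bool, ∃ m : Fin 128, ∀ i : Fin 7, (m : ℕ).testBit i = ε i := by
  decide +kernel

/-- complements of points -/
def ptc (i : Fin 7) : ℕ := 127 - 2 ^ (i : ℕ)

/-- the seven lines -/
def lines : Fin 7 → Fin 3 → Fin 7 :=
  ![![0, 1, 2], ![0, 3, 4], ![0, 5, 6], ![1, 3, 5], ![1, 4, 6], ![2, 3, 6], ![2, 4, 5]]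

/-- complements of lines -/
def lnc (l : Fin 7) : ℕ := 127 - 2 ^ (lines l 0 : ℕ) - 2 ^ (lines l 1 : ℕ) - 2 ^ (lines l 2 : ℕ)

def par (m : ℕ) : Bool :=
  (((m.testBit 0 ^^ m.testBit 1) ^^ (m.testBit 2 ^^ m.testBit 3)) ^^ ((m.testBit 4 ^^ m.testBit 5) ^^ m.testBit 6))

def orb2 (m : ℕ) : List ℕ := stepL (stepL (orb m))

theorem orb_cases : ∀ m : Fin 128, par m = false → m ≠ 0 →
    14 ≤ (orb2 m).toFinset.card ∨ ((∃ i, (m : ℕ) = ptc i) ∧ ∀ i, ptc i ∈ orb2 m) ∨
      ((∃ l, (m : ℕ) = lnc l) ∧ ∀ l, lnc l ∈ orb2 m) := by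
  decide +kernel

end masks

section lin

variable {k V : Type*} [Field k] [AddCommGroup V] [Module k V]

/-- a simultaneous eigenvector in an invariant subspace -/
theorem exists_joint (h2 : (2 : k) ≠ 0) {n : ℕ} (T : Fin n → Module.End k V) (hT : ∀ i, T i * T i = 1)
    (hc : ∀ i j, T i * T j = T j * T i) (W : Submodule k V) (hW : ∀ i, ∀ w ∈ W, T i w ∈ W) {v : V}
    (hv : v ≠ 0) (hvW : v ∈ W) :
    ∃ (w : V) (ε : Fin n → Bool), w ∈ W ∧ w ≠ 0 ∧ ∀ i, T i w = if ε i then -w else w := by
  classical
  have key : ∀ s : Finset (Fin n), ∃ w : V, w ∈ W ∧ w ≠ 0 ∧ ∀ i ∈ s, T i w = w ∨ T i w = -w := by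
    intro s
    induction s using Finset.induction_on with
    | empty => exact ⟨v, hvW, hv, fun i hi => absurd hi (Finset.notMem_empty i)⟩
    | insert j s hj ih =>
      obtain ⟨w, hwW, hw, hws⟩ := ih
      have hjj : T j (T j w) = w := by
        have := LinearMap.congr_fun (hT j) w
        simpa using this
      have hcomm : ∀ i, T i (T j w) = T j (T i w) := fun i => LinearMap.congr_fun (hc i j) w
      by_cases h : w + T j w = 0
      · have h3 : T j w = -w := by rw [eq_neg_iff_add_eq_zero, add_comm]; exact h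
        refine ⟨w, hwW, hw, fun i hi => ?_⟩
        rcases Finset.mem_insert.1 hi with rfl | hi
        · exact Or.inr h3
        · exact hws i hi
      · refine ⟨w + T j w, W.add_mem hwW (hW j w hwW), h, fun i hi => ?_⟩
        rcases Finset.mem_insert.1 hi with rfl | hi
        · left; rw [map_add, hjj]; abel
        · rcases hws i hi with h' | h'
          · left; rw [map_add, hcomm, h']
          · right; rw [map_add, hcomm, h', map_neg]; abel
  obtain ⟨w, hwW, hw, hws⟩ := key Finset.univ
  have hne : w ≠ -w := by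
    intro h
    have : (2 : k) • w = 0 := by rw [two_smul]; nth_rewrite 2 [h]; abel
    rcases smul_eq_zero.1 this with h' | h'
    · exact h2 h'
    · exact hw h'
  refine ⟨w, fun i => decide (T i w = -w), hwW, hw, fun i => ?_⟩
  by_cases h : T i w = -w
  · simp [h]
  · have := (hws i (Finset.mem_univ i)).resolve_right h
    simp only [this]
    rw [if_neg]
    simpa using hne

/-- the sign pattern `m` occurs -/
def Pat (T : Fin 7 → Module.End k V) (m : ℕ) : Prop :=
  ∃ v : V, v ≠ 0 ∧ ∀ i : Fin 7, T i v = (if m.testBit i then (-1 : k) else 1) • v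

theorem card_le [FiniteDimensional k V] (h2 : (2 : k) ≠ 0) {T : Fin 7 → Module.End k V}
    (hc : ∀ i j, T i * T j = T j * T i) (S : Finset ℕ) (hS : ∀ m ∈ S, m < 128 ∧ Pat T m) :
    S.card ≤ Module.finrank k V := by
  have hind := Module.End.independent_iInf_maxGenEigenspace_of_forall_mapsTo T
    (fun i j φ => Module.End.mapsTo_maxGenEigenspace_of_comm (hc j i) φ)
  choose v hv0 hv using fun m : S => (hS m m.2).2
  let χ : S → (Fin 7 → k) := fun m i => if (m : ℕ).testBit i then (-1 : k) else 1
  have hχ : Function.Injective χ := by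
    intro a b hab
    apply Subtype.ext
    have h1 : ∀ i : Fin 7, (a : ℕ).testBit i = (b : ℕ).testBit i := by
      intro i
      have h3 := congrFun hab i
      simp only [χ] at h3
      have hne : (-1 : k) ≠ 1 := by
        intro h
        exact h2 (by linear_combination -h)
      by_cases ha : (a : ℕ).testBit i = true <;> by_cases hb : (b : ℕ).testBit i = true
      · rw [ha, hb]
      · rw [if_pos ha, if_neg hb] at h3; exact absurd h3 hne
      · rw [if_neg ha, if_pos hb] at h3; exact absurd h3.symm hne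
      · rw [Bool.not_eq_true] at ha hb; rw [ha, hb]
    apply Nat.eq_of_testBit_eq
    intro j
    by_cases hj : j < 7
    · exact h1 ⟨j, hj⟩
    · rw [Nat.testBit_lt_two_pow (lt_of_lt_of_le (hS a a.2).1 (by
        calc 128 = 2 ^ 7 := by norm_num
          _ ≤ 2 ^ j := Nat.pow_le_pow_right (by norm_num) (by omega))),
        Nat.testBit_lt_two_pow (lt_of_lt_of_le (hS b b.2).1 (by
        calc 128 = 2 ^ 7 := by norm_num
          _ ≤ 2 ^ j := Nat.pow_le_pow_right (by norm_num) (by omega)))]
  have hind2 := hind.comp hχ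
  have hli : LinearIndependent k v := by
    refine hind2.linearIndependent _ (fun m => ?_) hv0
    show v m ∈ ⨅ i, (T i).maxGenEigenspace (χ m i)
    rw [Submodule.mem_iInf]
    intro i
    apply Module.End.eigenspace_le_maxGenEigenspace
    rw [Module.End.mem_eigenspace_iff]
    exact hv m i
  have := hli.fintype_card_le_finrank
  rwa [Fintype.card_coe] at this

end lin

end Cfsg.Agent.H916.SpSix
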