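import Mathlib

/-!
# Seven involutions satisfying the Coxeter relations of type `E₇`: the 63 reflections, indexed by the nonzero
vectors of the six-dimensional symplectic space over the field with two elements
-/

set_option autoImplicit false
set_option linter.unusedSectionVars false
set_option linter.unusedVariables false

namespace Cfsg.Agent.H916.SpSix

/-- the symplectic form on masks: bits 0-2 against bits 3-5 -/
def om (a b : ℕ) : Bool :=
  (((a.testBit 0 && b.testBit 3) ^^ (a.testBit 3 && b.testBit 0)) ^^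
  ((a.testBit 1 && b.testBit 4) ^^ (a.testBit 4 && b.testBit 1))) ^^
  ((a.testBit 2 && b.testBit 5) ^^ (a.testBit 5 && b.testBit 2))

/-- the transvection with direction `x` -/
def rf (x v : ℕ) : ℕ := if om x v then x ^^^ v else v

/-- simple roots of type `E₇` -/
def sr : Fin 7 → ℕ := ![1, 8, 3, 16, 6, 32, 48]

def wtab : List (List (Fin 7) × Fin 7) := [
  ([], 0),
  ([], 0),
  ([3,4,2,3,1,2,6,5,4,3,2,1], 0),
  ([], 2),
  ([6,2,3,1,2,6,4,3,2,1], 0),
  ([6,5,4,3], 2),
  ([], 4),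
  ([1,2,6,5,4,3,2,1], 0),
  ([], 1),
  ([1], 0),
  ([2,1], 0),
  ([2], 1),
  ([6,5,4,3,2,1], 0),
  ([6,5,4,3,2], 1),
  ([2,6,5,4,3,2], 1),
  ([2,6,5,4,3,2,1], 0),
  ([], 3),
  ([4,3,1,2,6,5,4,3,2,1], 0),
  ([4,2,3,1,2,6,5,4,3,2,1], 0),
  ([3], 2),
  ([2,3,1,2,6,5,4,3,2,1], 0),
  ([4,3], 2),
  ([4], 3),
  ([3,1,2,6,5,4,3,2,1], 0),
  ([4,3,2,6,5,4,3,2], 1),
  ([4,3,2,6,5,4,3,2,1], 0),
  ([3,2,1], 0),
  ([3,2], 1),
  ([4,3,2,1], 0),
  ([4,3,2], 1),
  ([3,2,6,5,4,3,2], 1),
  ([3,2,6,5,4,3,2,1], 0),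
  ([], 5),
  ([1,2,6,3,2,1], 0),
  ([6,4,2,3,1,2,6,5,4,3,2,1], 0),
  ([6,3], 2),
  ([6,2,3,1,2,6,5,4,3,2,1], 0),
  ([6,4,3], 2),
  ([5], 4),
  ([1,2,6,4,3,2,1], 0),
  ([2,6,3,2], 1),
  ([2,6,3,2,1], 0),
  ([6,3,2,1], 0),
  ([6,3,2], 1),
  ([6,4,3,2,1], 0),
  ([6,4,3,2], 1),
  ([2,6,4,3,2], 1),
  ([2,6,4,3,2,1], 0),
  ([], 6),
  ([2,6,3,4,2,3,1,2,6,5,4,3,2,1], 0),
  ([6,3,4,2,3,1,2,6,5,4,3,2,1], 0),
  ([6], 2),
  ([2,3,1,2,6,4,3,2,1], 0),
  ([5,4,3], 2),
  ([5,4], 3),
  ([3,1,2,6,4,3,2,1], 0),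
  ([0,1,2,6,3,4,2,3,1,2,6,5,4,3,2,1], 0),
  ([1,2,6,3,4,2,3,1,2,6,5,4,3,2,1], 0),
  ([6,2,1], 0),
  ([6,2], 1),
  ([5,4,3,2,1], 0),
  ([5,4,3,2], 1),
  ([3,2,6,4,3,2], 1),
  ([3,2,6,4,3,2,1], 0)]

def wd (v : ℕ) : List (Fin 7) := (wtab.getD v ([], 0)).1

def bs (v : ℕ) : Fin 7 := (wtab.getD v ([], 0)).2

section

variable {M : Type*} [Monoid M]

def cw (S : Fin 7 → M) : List (Fin 7) → M → M
  | [], x => x
  | i :: l, x => S i * cw S l x * S i

/-- the reflection with root `v` -/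
def Ga (S : Fin 7 → M) (v : ℕ) : M := cw S (wd v) (S (bs v))

structure Cox (S : Fin 7 → M) : Prop where
  sq : ∀ i, S i * S i = 1
  comm : ∀ i j, om (sr i) (sr j) = false → S i * S j = S j * S i
  braid : ∀ i j, om (sr i) (sr j) = true → S i * S j * S i = S j * S i * S j

def Fact (S : Fin 7 → M) (i : Fin 7) (v : ℕ) : Prop := S i * Ga S v * S i = Ga S (rf (sr i) v)

def ix (i : Fin 7) (v : ℕ) : ℕ := i * 64 + v

def base (i : Fin 7) (v : ℕ) : Bool :=
  let w := rf (sr i) v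
  (decide (wd v = i :: wd w) && decide (bs v = bs w)) ||
  ((decide (wd w = i :: wd v) && decide (bs w = bs v)) ||
  ((decide (wd v = []) && (decide (w = v) && !(om (sr i) (sr (bs v))))) ||
  (decide (wd v = []) && (decide (wd w = [bs v]) && (decide (bs w = i) && om (sr i) (sr (bs v)))))))

def rule (K : ℕ) (i : Fin 7) (v : ℕ) (j : Fin 7) : Bool :=
  if om (sr i) (sr j) then
    let u := rf (sr i) (rf (sr j) v)
    let iu := rf (sr i) u
    let ju := rf (sr j) u
    let iju := rf (sr i) ju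
    (K.testBit (ix i u) && (K.testBit (ix j iu) && (K.testBit (ix i ju) &&
      (K.testBit (ix j iju) && (K.testBit (ix j u) &&
      (decide (rf (sr j) iu = v) && (decide (rf (sr j) iju = rf (sr i) v))))))))
  else
    let jv := rf (sr j) v
    let ijv := rf (sr i) jv
    (K.testBit (ix j jv) && (K.testBit (ix i jv) && (K.testBit (ix j ijv) &&
      (decide (rf (sr j) jv = v) && decide (rf (sr j) ijv = rf (sr i) v)))))

def chk (K : ℕ) (i : Fin 7) (v : ℕ) : Bool :=
  base i v || ((K.testBit (ix i (rf (sr i) v)) && decide (rf (sr i) (rf (sr i) v) = v)) ||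
    (List.finRange 7).any (rule K i v))

def upd (K : ℕ) (p : Fin 7 × ℕ) : ℕ :=
  if K.testBit (ix p.1 p.2) then K else if chk K p.1 p.2 then K ||| (2 ^ ix p.1 p.2) else K

def prs : List (Fin 7 × ℕ) := (List.finRange 7).flatMap fun i => (List.range' 1 63).map fun v => (i, v)

/-- evaluation of a number before it is used -/
def frc {α : Type*} (n : ℕ) (f : ℕ → α) : α := Nat.rec (f 0) (fun k _ => f (k + 1)) n

theorem frc_eq {α : Type*} (n : ℕ) (f : ℕ → α) : frc n f = f n := by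
  cases n <;> rfl

def rnd : List (Fin 7 × ℕ) → ℕ → ℕ
  | [], K => K
  | p :: l, K => frc (upd K p) (rnd l)

def rnds : ℕ → ℕ → ℕ
  | 0, K => K
  | n + 1, K => frc (rnd prs K) (rnds n)

def allb (K : ℕ) : Bool := prs.all fun p => K.testBit (ix p.1 p.2)

theorem clos_all : frc (rnds 12 0) allb = true := by
  decide +kernel

theorem exists_K : ∃ K : ℕ, K = rnds 12 0 ∧ allb K = true := ⟨_, rfl, by rw [← frc_eq (rnds 12 0) allb, clos_all]⟩

theorem sr_lt : ∀ i, sr i < 64 := by decide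

theorem rf_lt {x v : ℕ} (hx : x < 64) (hv : v < 64) : rf x v < 64 := by
  unfold rf
  split_ifs
  · exact Nat.xor_lt_two_pow (n := 6) hx hv
  · exact hv

theorem base_sound {S : Fin 7 → M} (C : Cox S) {i : Fin 7} {v : ℕ} (h : base i v = true) : Fact S i v := by
  unfold base at h
  simp only [Bool.or_eq_true, Bool.and_eq_true, decide_eq_true_eq, Bool.not_eq_true'] at h
  unfold Fact Ga
  rcases h with h | h | h | h
  · obtain ⟨h1, h2⟩ := h
    rw [h1, h2, cw]
    calc S i * (S i * cw S (wd (rf (sr i) v)) (S (bs (rf (sr i) v))) * S i) * S i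
        = (S i * S i) * cw S (wd (rf (sr i) v)) (S (bs (rf (sr i) v))) * (S i * S i) := by
          simp only [mul_assoc]
      _ = _ := by rw [C.sq, one_mul, mul_one]
  · obtain ⟨h1, h2⟩ := h
    rw [h1, h2, cw]
  · obtain ⟨h1, h2, h3⟩ := h
    rw [h2, h1, cw, C.comm i _ h3, mul_assoc, C.sq, mul_one]
  · obtain ⟨h1, h2, h3, h4⟩ := h
    rw [h2, h3, h1, cw, cw, cw, C.braid i _ h4]

theorem rule_sound {S : Fin 7 → M} (C : Cox S) {K : ℕ}
    (hK : ∀ (i : Fin 7) (v : ℕ), v < 64 → K.testBit (ix i v) = true → Fact S i v)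
    {i j : Fin 7} {v : ℕ} (hv : v < 64) (h : rule K i v j = true) : Fact S i v := by
  unfold rule at h
  by_cases ho : om (sr i) (sr j) = true
  · rw [if_pos ho] at h
    simp only [Bool.and_eq_true, decide_eq_true_eq] at h
    obtain ⟨h1, h2, h3, h4, h5, h6, h7⟩ := h
    have hi := sr_lt i
    have hj := sr_lt j
    have hu := rf_lt hi (rf_lt hj hv)
    have f1 := hK _ _ hu h1
    have f2 := hK _ _ (rf_lt hi hu) h2
    have f3 := hK _ _ (rf_lt hj hu) h3
    have f4 := hK _ _ (rf_lt hi (rf_lt hj hu)) h4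
    have f5 := hK _ _ hu h5
    unfold Fact at f1 f2 f3 f4 f5 ⊢
    rw [h6] at f2
    rw [h7] at f4
    rw [← f4, ← f3, ← f5, ← f2, ← f1]
    generalize Ga S (rf (sr i) (rf (sr j) v)) = X
    calc S i * (S j * (S i * X * S i) * S j) * S i = (S i * S j * S i) * X * (S i * S j * S i) := by
          simp only [mul_assoc]
      _ = (S j * S i * S j) * X * (S j * S i * S j) := by rw [C.braid i j ho]
      _ = _ := by simp only [mul_assoc]
  · rw [if_neg ho] at h
    rw [Bool.not_eq_true] at ho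
    simp only [Bool.and_eq_true, decide_eq_true_eq] at h
    obtain ⟨h1, h2, h3, h4, h5⟩ := h
    have hi := sr_lt i
    have hj := sr_lt j
    have hu := rf_lt hj hv
    have f1 := hK _ _ hu h1
    have f2 := hK _ _ hu h2
    have f3 := hK _ _ (rf_lt hi hu) h3
    unfold Fact at f1 f2 f3 ⊢
    rw [h4] at f1
    rw [h5] at f3
    rw [← f3, ← f2, ← f1]
    generalize Ga S (rf (sr j) v) = X
    have hc := C.comm i j ho
    calc S i * (S j * X * S j) * S i = (S i * S j) * X * (S j * S i) := by simp only [mul_assoc]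
      _ = (S j * S i) * X * (S i * S j) := by rw [← hc]
      _ = _ := by simp only [mul_assoc]

theorem chk_sound {S : Fin 7 → M} (C : Cox S) {K : ℕ}
    (hK : ∀ (i : Fin 7) (v : ℕ), v < 64 → K.testBit (ix i v) = true → Fact S i v)
    {i : Fin 7} {v : ℕ} (hv : v < 64) (h : chk K i v = true) : Fact S i v := by
  unfold chk at h
  rw [Bool.or_eq_true, Bool.or_eq_true, Bool.and_eq_true, decide_eq_true_eq, List.any_eq_true] at h
  rcases h with h | ⟨h1, h2⟩ | ⟨j, -, h⟩
  · exact base_sound C h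
  · have f := hK _ _ (rf_lt (sr_lt i) hv) h1
    unfold Fact at f ⊢
    rw [h2] at f
    rw [← f]
    generalize Ga S (rf (sr i) v) = X
    calc S i * (S i * X * S i) * S i = (S i * S i) * X * (S i * S i) := by simp only [mul_assoc]
      _ = X := by rw [C.sq, one_mul, mul_one]
  · exact rule_sound C hK hv h

theorem ix_inj {i j : Fin 7} {v w : ℕ} (hv : v < 64) (hw : w < 64) (h : ix i v = ix j w) : i = j ∧ v = w := by
  unfold ix at h
  constructor
  · apply Fin.ext; omega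
  · omega

theorem upd_sound {S : Fin 7 → M} (C : Cox S) {K : ℕ}
    (hK : ∀ (i : Fin 7) (v : ℕ), v < 64 → K.testBit (ix i v) = true → Fact S i v)
    {p : Fin 7 × ℕ} (hp : p.2 < 64) :
    ∀ (i : Fin 7) (v : ℕ), v < 64 → (upd K p).testBit (ix i v) = true → Fact S i v := by
  intro i v hv h
  unfold upd at h
  split_ifs at h with h1 h2
  · exact hK i v hv h
  · rw [Nat.testBit_or, Bool.or_eq_true] at h
    rcases h with h | h
    · exact hK i v hv h
    · rw [Nat.testBit_two_pow, decide_eq_true_eq] at h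
      obtain ⟨e1, e2⟩ := ix_inj hp hv h
      rw [← e1, ← e2]
      exact chk_sound C hK hp h2
  · exact hK i v hv h

theorem rnd_sound {S : Fin 7 → M} (C : Cox S) (l : List (Fin 7 × ℕ)) (hl : ∀ p ∈ l, p.2 < 64) : ∀ {K : ℕ},
    (∀ (i : Fin 7) (v : ℕ), v < 64 → K.testBit (ix i v) = true → Fact S i v) →
    ∀ (i : Fin 7) (v : ℕ), v < 64 → (rnd l K).testBit (ix i v) = true → Fact S i v := by
  induction l with
  | nil => intro K hK; exact hK
  | cons p l ih =>
    intro K hK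
    rw [rnd, frc_eq]
    exact ih (fun q hq => hl q (List.mem_cons_of_mem _ hq)) (upd_sound C hK (hl p List.mem_cons_self))

theorem prs_lt : ∀ p ∈ prs, p.2 < 64 := by decide +kernel

theorem mem_prs {i : Fin 7} {v : ℕ} (h0 : 0 < v) (hv : v < 64) : (i, v) ∈ prs := by
  rw [prs, List.mem_flatMap]
  refine ⟨i, List.mem_finRange i, ?_⟩
  rw [List.mem_map]
  exact ⟨v, List.mem_range'_1.2 ⟨h0, by omega⟩, rfl⟩

theorem rnds_sound {S : Fin 7 → M} (C : Cox S) (n : ℕ) : ∀ {K : ℕ},
    (∀ (i : Fin 7) (v : ℕ), v < 64 → K.testBit (ix i v) = true → Fact S i v) →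
    ∀ (i : Fin 7) (v : ℕ), v < 64 → (rnds n K).testBit (ix i v) = true → Fact S i v := by
  induction n with
  | zero => intro K hK; exact hK
  | succ n ih =>
    intro K hK
    rw [rnds, frc_eq]
    exact ih (rnd_sound C prs prs_lt hK)

/-- the simple reflections act on all reflections as they should -/
theorem fact_all {S : Fin 7 → M} (C : Cox S) (i : Fin 7) {v : ℕ} (h0 : 0 < v) (hv : v < 64) : Fact S i v := by
  obtain ⟨K, hK, h⟩ := exists_K
  have h3 := rnds_sound C 12 (K := 0) (fun j w _ hj => by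
    rw [Nat.zero_testBit] at hj; exact absurd hj (by simp))
  rw [← hK] at h3
  unfold allb at h
  rw [List.all_eq_true] at h
  exact h3 i v hv (h (i, v) (mem_prs h0 hv))

def mw : List (Fin 7) → ℕ → ℕ
  | [], x => x
  | i :: l, x => rf (sr i) (mw l x)

theorem wd_mw : ∀ v : Fin 64, v ≠ 0 → mw (wd v) (sr (bs v)) = v := by decide +kernel

theorem rf_pos {x v : ℕ} (h0 : 0 < v) : 0 < rf x v := by
  unfold rf
  split_ifs with h
  · rw [Nat.pos_iff_ne_zero]
    intro h1
    rw [Nat.xor_eq_zero_iff] at h1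
    rw [h1] at h
    unfold om at h
    revert h
    cases v.testBit 0 <;> cases v.testBit 1 <;> cases v.testBit 2 <;> cases v.testBit 3 <;>
      cases v.testBit 4 <;> cases v.testBit 5 <;> decide
  · exact h0

theorem sr_pos : ∀ i, 0 < sr i := by decide

theorem mw_pos (l : List (Fin 7)) {x : ℕ} (h0 : 0 < x) : 0 < mw l x := by
  induction l with
  | nil => exact h0
  | cons i l ih => exact rf_pos ih

theorem mw_lt (l : List (Fin 7)) {x : ℕ} (h0 : x < 64) : mw l x < 64 := by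
  induction l with
  | nil => exact h0
  | cons i l ih => exact rf_lt (sr_lt i) ih

theorem rf_conj : ∀ (i : Fin 7) (m v : Fin 64), rf (sr i) (rf m (rf (sr i) v)) = rf (rf (sr i) m) v := by
  decide +kernel

theorem cw_conj {S : Fin 7 → M} (C : Cox S) (j : Fin 7) (l : List (Fin 7)) : ∀ {v : ℕ}, 0 < v → v < 64 →
    cw S l (S j) * Ga S v * cw S l (S j) = Ga S (rf (mw l (sr j)) v) := by
  induction l with
  | nil => intro v h0 hv; exact fact_all C j h0 hv
  | cons i l ih =>
    intro v h0 hv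
    have h1 := fact_all C i h0 hv
    have h2 := ih (rf_pos (x := sr i) h0) (rf_lt (sr_lt i) hv)
    have h3 := fact_all C i (rf_pos (x := mw l (sr j)) (rf_pos (x := sr i) h0))
      (rf_lt (mw_lt l (sr_lt j)) (rf_lt (sr_lt i) hv))
    unfold Fact at h1 h3
    rw [← h2, ← h1] at h3
    have h4 := rf_conj i ⟨mw l (sr j), mw_lt l (sr_lt j)⟩ ⟨v, hv⟩
    simp only at h4
    rw [h4] at h3
    rw [cw, mw, ← h3]
    simp only [mul_assoc]

/-- **The 63 reflections.** -/
theorem ga_conj {S : Fin 7 → M} (C : Cox S) {w v : ℕ} (hw0 : 0 < w) (hw : w < 64) (h0 : 0 < v) (hv : v < 64) :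
    Ga S w * Ga S v * Ga S w = Ga S (rf w v) := by
  have h := cw_conj C (bs w) (wd w) h0 hv
  have h1 := wd_mw ⟨w, hw⟩ (by intro h; rw [Fin.ext_iff] at h; simp at h; omega)
  simp only at h1
  rw [h1] at h
  exact h

theorem cw_sq {S : Fin 7 → M} (C : Cox S) (l : List (Fin 7)) {x : M} (hx : x * x = 1) :
    cw S l x * cw S l x = 1 := by
  induction l with
  | nil => exact hx
  | cons i l ih =>
    rw [cw]
    calc S i * cw S l x * S i * (S i * cw S l x * S i) = S i * cw S l x * (S i * S i) * cw S l x * S i := by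
          simp only [mul_assoc]
      _ = S i * (cw S l x * cw S l x) * S i := by rw [C.sq, mul_one]; simp only [mul_assoc]
      _ = 1 := by rw [ih, mul_one, C.sq]

theorem ga_sq {S : Fin 7 → M} (C : Cox S) (w : ℕ) : Ga S w * Ga S w = 1 := cw_sq C _ (C.sq _)

theorem ga_sr (S : Fin 7 → M) (i : Fin 7) : Ga S (sr i) = S i := by
  fin_cases i <;> rfl

end

end Cfsg.Agent.H916.SpSix
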