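import Cfsg.Agent.H916.SpSixA

/-!
# Seven commuting involutions permuted like the points of the Fano plane, in dimension at most 13
-/

set_option autoImplicit false
set_option linter.unusedSectionVars false
set_option linter.unusedVariables false

namespace Cfsg.Agent.H916.SpSix

variable {k V : Type*} [Field k] [AddCommGroup V] [Module k V]

/-- the data -/
structure FanoE (T : Fin 7 → Module.End k V) (g1 g2 : Module.End k V) : Prop where
  sq : ∀ i, T i * T i = 1
  comm : ∀ i j, T i * T j = T j * T i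
  prod : T 0 * T 1 * T 2 * T 3 * T 4 * T 5 * T 6 = 1
  c1 : ∀ i, g1 * T i = T (s1 i) * g1
  c2 : ∀ i, g2 * T i = T (s2 i) * g2
  i1 : Function.Injective g1
  i2 : Function.Injective g2

theorem pat_map {T : Fin 7 → Module.End k V} {g : Module.End k V} {s : Fin 7 → Fin 7}
    (hs : Function.Surjective s) (hg : ∀ i, g * T i = T (s i) * g) (hi : Function.Injective g)
    {m : ℕ} (hm : m < 128)
    (hpm : ∀ i : Fin 7, (pm s m).testBit (s i) = m.testBit i)
    (h : Pat T m) : Pat T (pm s m) := by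
  obtain ⟨v, hv, h⟩ := h
  refine ⟨g v, ?_, fun j => ?_⟩
  · intro h0
    exact hv (hi (by rw [h0, map_zero]))
  · obtain ⟨i, rfl⟩ := hs j
    rw [hpm, ← Module.End.mul_apply, ← hg, Module.End.mul_apply, h i, map_smul]

theorem pat_orb {T : Fin 7 → Module.End k V} {g1 g2 : Module.End k V} (D : FanoE T g1 g2) {m : ℕ}
    (hm : m < 128) (h : Pat T m) : ∀ x ∈ orb2 m, x < 128 ∧ Pat T x := by
  have step : ∀ l : List ℕ, (∀ x ∈ l, x < 128 ∧ Pat T x) → ∀ x ∈ stepL l, x < 128 ∧ Pat T x := by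
    intro l hl x hx
    rw [stepL, List.mem_eraseDups, List.mem_append, List.mem_append, List.mem_map, List.mem_map] at hx
    rcases hx with (hx | ⟨y, hy, rfl⟩) | ⟨y, hy, rfl⟩
    · exact hl x hx
    · obtain ⟨hy1, hy2⟩ := hl y hy
      exact ⟨(pm_lt ⟨y, hy1⟩).1, pat_map s1_surj D.c1 D.i1 hy1 (fun i => pm_s1 ⟨y, hy1⟩ i) hy2⟩
    · obtain ⟨hy1, hy2⟩ := hl y hy
      exact ⟨(pm_lt ⟨y, hy1⟩).2, pat_map s2_surj D.c2 D.i2 hy1 (fun i => pm_s2 ⟨y, hy1⟩ i) hy2⟩
  have h0 : ∀ x ∈ [m], x < 128 ∧ Pat T x := by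
    intro x hx
    rw [List.mem_singleton] at hx
    subst hx
    exact ⟨hm, h⟩
  exact step _ (step _ (step _ (step _ (step _ (step _ (step _ (step _ h0)))))))

theorem ptc_lt : ∀ i, ptc i < 128 := by decide

theorem lnc_lt : ∀ i, lnc i < 128 := by decide

theorem ptc_bit : ∀ i j : Fin 7, (ptc i).testBit j = !(decide (i = j)) := by decide +kernel

theorem lnc_bits : ∀ l l' : Fin 7, (((lnc l).testBit (lines l' 0) ^^ (lnc l).testBit (lines l' 1)) ^^
    (lnc l).testBit (lines l' 2)) = false := by decide +kernel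

theorem both_card : ((List.ofFn ptc) ++ (List.ofFn lnc)).toFinset.card = 14 := by decide +kernel

/-- an even pattern -/
theorem pat_par (h2 : (2 : k) ≠ 0) {T : Fin 7 → Module.End k V} {g1 g2 : Module.End k V} (D : FanoE T g1 g2)
    {m : Fin 128} (h : Pat T m) : par m = false := by
  obtain ⟨w, hw, hsg⟩ := h
  have h1 := congrArg (fun g => g w) D.prod
  simp only [Module.End.mul_apply, Module.End.one_apply] at h1
  simp only [hsg, map_smul, smul_smul] at h1
  by_contra hpt
  rw [Bool.not_eq_false] at hpt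
  have hne1 : (-1 : k) ≠ 1 := by
    intro h
    exact h2 (by linear_combination -h)
  have h4 : (-1 : k) • w = w := by
    rw [← h1]
    congr 1
    have hval : ∀ b0 b1 b2 b3 b4 b5 b6 : Bool,
        (((b0 ^^ b1) ^^ (b2 ^^ b3)) ^^ ((b4 ^^ b5) ^^ b6)) = true →
        (-1 : k) = (if b6 = true then (-1 : k) else 1) * (if b5 = true then (-1 : k) else 1) *
          (if b4 = true then (-1 : k) else 1) * (if b3 = true then (-1 : k) else 1) *
          (if b2 = true then (-1 : k) else 1) * (if b1 = true then (-1 : k) else 1) *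
          (if b0 = true then (-1 : k) else 1) := by
      intro b0 b1 b2 b3 b4 b5 b6 hb
      cases b0 <;> cases b1 <;> cases b2 <;> cases b3 <;> cases b4 <;> cases b5 <;> cases b6 <;>
        first | (exfalso; revert hb; decide) | (simp)
    exact hval _ _ _ _ _ _ _ hpt
  have h5 : (2 : k) • w = 0 := by
    rw [two_smul]
    nth_rewrite 1 [← h4]
    rw [neg_one_smul, neg_add_cancel]
  rcases smul_eq_zero.1 h5 with h' | h'
  · exact h2 h'
  · exact hw h'

theorem pat_of_sub (h2 : (2 : k) ≠ 0) {T : Fin 7 → Module.End k V} {g1 g2 : Module.End k V} (D : FanoE T g1 g2)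
    (W : Submodule k V) (hW : ∀ i, ∀ w ∈ W, T i w ∈ W) {v : V} (hv : v ≠ 0) (hvW : v ∈ W) :
    ∃ (m : Fin 128) (w : V), w ≠ 0 ∧ w ∈ W ∧ ∀ i : Fin 7, T i w = (if (m : ℕ).testBit i then (-1 : k) else 1) • w := by
  obtain ⟨w, ε, hwW, hw, hε⟩ := exists_joint h2 T D.sq D.comm W hW hv hvW
  obtain ⟨m, hm⟩ := exists_mask ε
  refine ⟨m, w, hw, hwW, fun i => ?_⟩
  rw [hε i, hm i]
  split_ifs
  · rw [neg_one_smul]
  · rw [one_smul]

/-- **The patterns in dimension at most 13.** -/
theorem fano_cases [FiniteDimensional k V] (h2 : (2 : k) ≠ 0) (hfin : Module.finrank k V ≤ 13)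
    {T : Fin 7 → Module.End k V} {g1 g2 : Module.End k V} (D : FanoE T g1 g2) (hl : T 0 * T 1 * T 2 ≠ 1) :
    (∀ i, Pat T (ptc i)) ∧ ∀ m : Fin 128, Pat T m → m = 0 ∨ ∃ i, (m : ℕ) = ptc i := by
  have hcases : ∀ m : Fin 128, Pat T m → m = 0 ∨ ((∃ i, (m : ℕ) = ptc i) ∧ ∀ i, Pat T (ptc i)) ∨
      ((∃ l, (m : ℕ) = lnc l) ∧ ∀ i, Pat T (lnc i)) := by
    intro m hm
    by_cases hm0 : m = 0
    · exact Or.inl hm0
    right
    have horb := pat_orb D m.2 hm
    rcases orb_cases m (pat_par h2 D hm) hm0 with h | ⟨h, h'⟩ | ⟨h, h'⟩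
    · exfalso
      have h9 := card_le h2 D.comm (orb2 m).toFinset (fun x hx => horb x (List.mem_toFinset.1 hx))
      omega
    · exact Or.inl ⟨h, fun i => (horb _ (h' i)).2⟩
    · exact Or.inr ⟨h, fun i => (horb _ (h' i)).2⟩
  -- a pattern odd on the first line
  obtain ⟨m, hm, hodd⟩ : ∃ m : Fin 128, Pat T m ∧
      (((m : ℕ).testBit (0 : Fin 7) ^^ (m : ℕ).testBit (1 : Fin 7)) ^^ (m : ℕ).testBit (2 : Fin 7)) = true := by
    obtain ⟨x, hx⟩ : ∃ x, (T 0 * T 1 * T 2) x ≠ x := by
      by_contra hcon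
      push Not at hcon
      exact hl (LinearMap.ext hcon)
    have hA : (T 0 * T 1 * T 2) * (T 0 * T 1 * T 2) = 1 := by
      have c01 := D.comm 0 1
      have c02 := D.comm 0 2
      have c12 := D.comm 1 2
      calc (T 0 * T 1 * T 2) * (T 0 * T 1 * T 2) = T 0 * T 1 * (T 2 * T 0) * T 1 * T 2 := by
            simp only [mul_assoc]
        _ = T 0 * (T 1 * T 0) * (T 2 * T 1) * T 2 := by rw [← c02]; simp only [mul_assoc]
        _ = (T 0 * T 0) * (T 1 * T 1) * (T 2 * T 2) := by rw [← c01, ← c12]; simp only [mul_assoc]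
        _ = 1 := by rw [D.sq, D.sq, D.sq, one_mul, one_mul]
    set A := T 0 * T 1 * T 2 with hAdef
    have hAT : ∀ i, A * T i = T i * A := by
      intro i
      rw [hAdef]
      calc T 0 * T 1 * T 2 * T i = T 0 * T 1 * (T 2 * T i) := by simp only [mul_assoc]
        _ = T 0 * (T 1 * T i) * T 2 := by rw [D.comm 2 i]; simp only [mul_assoc]
        _ = (T 0 * T i) * T 1 * T 2 := by rw [D.comm 1 i]; simp only [mul_assoc]
        _ = _ := by rw [D.comm 0 i]; simp only [mul_assoc]
    let W : Submodule k V := LinearMap.ker (A + 1)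
    have hmem : ∀ w, w ∈ W ↔ A w = -w := by
      intro w
      rw [LinearMap.mem_ker, LinearMap.add_apply, Module.End.one_apply, eq_neg_iff_add_eq_zero]
    have hW : ∀ i, ∀ w ∈ W, T i w ∈ W := by
      intro i w hw
      rw [hmem] at hw ⊢
      rw [← Module.End.mul_apply, hAT, Module.End.mul_apply, hw, map_neg]
    obtain ⟨m, w, hw, hwW, hm⟩ := pat_of_sub h2 D W hW (v := x - A x) (fun h => hx (sub_eq_zero.1 h).symm)
      ((hmem _).2 (by
        rw [map_sub, ← Module.End.mul_apply, hA, Module.End.one_apply, neg_sub]))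
    refine ⟨m, ⟨w, hw, hm⟩, ?_⟩
    rw [hmem, hAdef, Module.End.mul_apply, Module.End.mul_apply, hm, map_smul, hm, map_smul, map_smul, hm,
      smul_smul, smul_smul] at hwW
    by_contra hpt
    rw [Bool.not_eq_true] at hpt
    have hval : ∀ b0 b1 b2 : Bool, ((b0 ^^ b1) ^^ b2) = false →
        (if b2 = true then (-1 : k) else 1) * (if b1 = true then (-1 : k) else 1) *
        (if b0 = true then (-1 : k) else 1) = 1 := by
      intro b0 b1 b2 hb
      cases b0 <;> cases b1 <;> cases b2 <;> first | (exfalso; revert hb; decide) | (simp)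
    rw [hval _ _ _ hpt, one_smul] at hwW
    have : (2 : k) • w = 0 := by rw [two_smul]; nth_rewrite 2 [hwW]; abel
    rcases smul_eq_zero.1 this with h' | h'
    · exact h2 h'
    · exact hw h'
  have hall : ∀ i, Pat T (ptc i) := by
    rcases hcases m hm with h | ⟨-, h⟩ | ⟨⟨l, h⟩, -⟩
    · exfalso
      rw [h] at hodd
      simp at hodd
    · exact h
    · exfalso
      rw [h] at hodd
      have := lnc_bits l 0
      rw [show lines 0 0 = 0 from rfl, show lines 0 1 = 1 from rfl, show lines 0 2 = 2 from rfl] at this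
      rw [this] at hodd
      exact absurd hodd (by simp)
  refine ⟨hall, fun m hm => ?_⟩
  rcases hcases m hm with h | ⟨h, -⟩ | ⟨-, h⟩
  · exact Or.inl h
  · exact Or.inr h
  · exfalso
    have h9 := card_le h2 D.comm ((List.ofFn ptc) ++ (List.ofFn lnc)).toFinset (fun x hx => by
      rw [List.mem_toFinset, List.mem_append, List.mem_ofFn, List.mem_ofFn] at hx
      rcases hx with ⟨i, rfl⟩ | ⟨i, rfl⟩
      · exact ⟨ptc_lt i, hall i⟩
      · exact ⟨lnc_lt i, h i⟩)
    rw [both_card] at h9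
    omega

end Cfsg.Agent.H916.SpSix
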